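import Groth.Agent.VolLib.Hhat
import Groth.Agent.KFlatLib.Perfect.BettiStalk
import Groth.Agent.AmpleX.Generated
import Groth.Agent.NakaiMo.Main
import Groth.Agent.FFun.Basic

/-!
# Twists of a coherent module against twists of a free module of the same generic rank
-/

noncomputable section

set_option autoImplicit false
set_option linter.style.haveILetI false
set_option backward.isDefEq.respectTransparency false
set_option backward.isDefEq.respectTransparency.types false
set_option maxHeartbeats 800000

universe u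
open CategoryTheory CategoryTheory.Limits AlgebraicGeometry TopologicalSpace
open Groth.Agent.H23.PicMul
open Groth.Agent.PnCoh.Finite (mapLin)

namespace Groth.Agent.VolLib

open Groth.Agent.HilbPoly (pw)

variable (k : Type u) [Field k] {X : Scheme.{u}} [X.Over (Spec (CommRingCat.of k))]
  [IsProper (X ↘ Spec (CommRingCat.of k))]

omit [IsProper (X ↘ Spec (CommRingCat.of k))] in
theorem mapLin_add' {P Q : X.Modules} (f g : P ⟶ Q) (i : ℕ) (x : Coh.HH X P i) :
    mapLin k (f + g) i x = mapLin k f i x + mapLin k g i x := by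
  show Sheaf.H.map ((QCoh.toAbFunctor X).map (f + g)) i x = _
  rw [Functor.map_add, Sheaf.H.map_add_apply]
  rfl

omit [IsProper (X ↘ Spec (CommRingCat.of k))] in
theorem mapLin_zero' {P Q : X.Modules} (i : ℕ) (x : Coh.HH X P i) : mapLin k (0 : P ⟶ Q) i x = 0 := by
  have h := mapLin_add' k (0 : P ⟶ Q) 0 i x
  rwa [add_zero, left_eq_add] at h

omit [IsProper (X ↘ Spec (CommRingCat.of k))] in
theorem mapLin_sum' {ι : Type*} {P Q : X.Modules} (s : Finset ι) (f : ι → (P ⟶ Q)) (i : ℕ) (x : Coh.HH X P i) :
    mapLin k (∑ j ∈ s, f j) i x = ∑ j ∈ s, mapLin k (f j) i x := by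
  classical
  induction s using Finset.induction_on with
  | empty => rw [Finset.sum_empty, Finset.sum_empty]; exact mapLin_zero' k i x
  | insert a s ha ih => rw [Finset.sum_insert ha, Finset.sum_insert ha, mapLin_add', ih]

/-- Cohomology of an additive functor applied to a free module. -/
theorem finrank_HH_free (T : X.Modules ⥤ X.Modules) [T.Additive] (r i : ℕ)
    [Module.Finite k (Coh.HH X (T.obj (Coh.structureModule X)) i)] :
    Module.finrank k (Coh.HH X (T.obj (FlatMod.freeMod X r)) i) =
      r * Module.finrank k (Coh.HH X (T.obj (Coh.structureModule X)) i) := by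
  classical
  let a : Fin r → (Coh.structureModule X ⟶ FlatMod.freeMod X r) :=
    fun l => Sigma.ι (fun _ : Fin r => Coh.structureModule X) l
  let to' : Coh.HH X (T.obj (FlatMod.freeMod X r)) i →ₗ[k] (Fin r → Coh.HH X (T.obj (Coh.structureModule X)) i) :=
    LinearMap.pi fun l => mapLin k (T.map (KFlatLib.projFree X l)) i
  have hid : ∀ y, (∑ l, mapLin k (T.map (a l)) i (mapLin k (T.map (KFlatLib.projFree X l)) i y)) = y := fun y => by
    have h1 : y = mapLin k (T.map (∑ l, KFlatLib.projFree X l ≫ a l)) i y := by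
      show y = Sheaf.H.map ((QCoh.toAbFunctor X).map (T.map (∑ l, KFlatLib.projFree X l ≫ a l))) i y
      rw [KFlatLib.sum_projF, CategoryTheory.Functor.map_id, CategoryTheory.Functor.map_id, Sheaf.H.map_id_apply]
    conv_rhs => rw [h1, T.map_sum, mapLin_sum']
    exact Finset.sum_congr rfl fun l _ => by rw [T.map_comp, FFun.mapLin_comp]
  have hbij : Function.Bijective to' := by
    refine ⟨fun y z h => ?_, fun v => ⟨∑ l, mapLin k (T.map (a l)) i (v l), funext fun j => ?_⟩⟩
    · rw [← hid y, ← hid z]
      exact Finset.sum_congr rfl fun l _ => congrArg _ (congrFun h l)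
    · show mapLin k (T.map (KFlatLib.projFree X j)) i _ = _
      rw [map_sum, Finset.sum_eq_single j]
      · rw [FFun.mapLin_comp, ← T.map_comp, KFlatLib.ι_projF, if_pos rfl]
        show Sheaf.H.map ((QCoh.toAbFunctor X).map (T.map (𝟙 _))) i (v j) = v j
        rw [CategoryTheory.Functor.map_id, CategoryTheory.Functor.map_id, Sheaf.H.map_id_apply]
      · intro l _ hl
        rw [FFun.mapLin_comp, ← T.map_comp, KFlatLib.ι_projF, if_neg hl, T.map_zero, mapLin_zero']
      · simp
  rw [(LinearEquiv.ofBijective to' hbij).finrank_eq, Module.finrank_pi_fintype, Finset.sum_const, Finset.card_univ,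
    Fintype.card_fin, smul_eq_mul]

variable {k}

omit [IsProper (X ↘ Spec (CommRingCat.of k))] in
/-- A map from a free module hitting a basis of a stalk. -/
theorem exists_free_hom [IsIntegral X] {G : X.Modules} {ι : Type u} {s : ι → Γ(G, ⊤)} (hs : ProjUP.GeneratedBy G s)
    [Module.Finite (X.presheaf.stalk (genericPoint X)) (G.presheaf.stalk (genericPoint X))] :
    ∃ φ : FlatMod.freeMod X (Module.finrank (X.presheaf.stalk (genericPoint X)) (G.presheaf.stalk (genericPoint X))) ⟶ G,
      IsIso ((DerSch.stalkFunctor X (genericPoint X)).map φ) := by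
  classical
  set η := genericPoint X
  let K := X.functionField
  let V := G.presheaf.stalk η
  letI : Module K V := inferInstanceAs (Module (X.presheaf.stalk η) V)
  haveI : Module.Finite K V := inferInstanceAs (Module.Finite (X.presheaf.stalk η) V)
  let g : ι → V := fun j => (G.presheaf.germ ⊤ η trivial).hom (s j)
  obtain ⟨b, hb, hspan, hli⟩ := exists_linearIndependent K (Set.range g)
  rw [show Submodule.span K (Set.range g) = ⊤ from hs η] at hspan
  let B : Module.Basis b K V := Module.Basis.mk hli (by rw [Subtype.range_coe]; exact hspan.ge)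
  haveI : Fintype b := FiniteDimensional.fintypeBasisIndex B
  have hcard : Module.finrank K V = Fintype.card b := Module.finrank_eq_card_basis B
  let e : Fin (Module.finrank K V) ≃ b := (finCongr hcard).trans (Fintype.equivFin b).symm
  let B' : Module.Basis (Fin (Module.finrank K V)) K V := B.reindex e.symm
  choose c hc using fun j : Fin (Module.finrank K V) => hb (e j).2
  refine ⟨Sigma.desc fun j => QCoh.homOfTop (s (c j)), ?_⟩
  refine (ConcreteCategory.isIso_iff_bijective _).2 ?_
  let φ := Sigma.desc fun j => QCoh.homOfTop (P := G) (s (c j))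
  have hval : ∀ j, (DerSch.stalkFunctor X η).map φ (KFlatLib.eGerm η j) = B' j := fun j => by
    rw [KFlatLib.eGerm_eq, ← CategoryTheory.comp_apply, ← Functor.map_comp, Sigma.ι_desc]
    refine (DerSch.stalkFunctor_map_germ η _ ⊤ trivial _).trans ?_
    have h1 : (QCoh.homOfTop (s (c j))).app ⊤ (1 : Γ(X, ⊤)) = s (c j) := by
      rw [QCoh.homOfTop_app, one_smul]
      exact QCoh.map_id' (M := G) _ (s (c j))
    refine (congrArg (G.presheaf.germ ⊤ η trivial).hom h1).trans ?_
    rw [Module.Basis.reindex_apply, Equiv.symm_symm, Module.Basis.mk_apply]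
    exact hc j
  let B'' : Module.Basis (Fin (Module.finrank K V)) (X.presheaf.stalk η) ((DerSch.stalkFunctor X η).obj G) := B'
  let L : (DerSch.stalkFunctor X η).obj (FlatMod.freeMod X (Module.finrank K V)) ≃ₗ[X.presheaf.stalk η]
      (DerSch.stalkFunctor X η).obj G := (KFlatLib.eBasis η (Module.finrank K V)).equiv B'' (Equiv.refl _)
  have hL : ((DerSch.stalkFunctor X η).map φ).hom = L.toLinearMap := (KFlatLib.eBasis η _).ext fun j => by
    rw [KFlatLib.eBasis_apply]
    refine (hval j).trans ?_
    show _ = L (KFlatLib.eGerm η j)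
    rw [← KFlatLib.eBasis_apply]
    exact ((KFlatLib.eBasis η (Module.finrank K V)).equiv_apply j B'' (Equiv.refl _)).symm
  show Function.Bijective ((DerSch.stalkFunctor X η).map φ).hom
  rw [hL]
  exact L.bijective

/-- Twists of a coherent module are near those of a free module of its generic rank. -/
theorem near_free [IsIntegral X] {A : X.Modules} (hA : CohB1.IsAmple A) {n : ℕ} (hn : topologicalKrullDim X = n)
    {L : X.Modules} (hL : PicF.IsInvertible L) {F : X.Modules} (hF : Coh.IsCoh F) (i : ℕ) :
    Near n (hseq k L F i) (fun m =>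
      Module.finrank (X.presheaf.stalk (genericPoint X)) (F.presheaf.stalk (genericPoint X)) *
        hseq k L (Coh.structureModule X) i m) := by
  haveI := CurveCohLib.isNoetherian_of_proper (k := k) (X := X)
  haveI : X.IsSeparated := AmpleVan.isSeparated_of_proper (A := k)
  obtain ⟨n₁, h₁⟩ := exists_section_twist hA (InvX.isInvertible_structureModule (X := X))
  obtain ⟨n₂, h₂⟩ := AmpleX.eventually_generated hA hF.1 hF.2
  obtain ⟨τ, hτ⟩ := h₁ (max n₁ n₂) (le_max_left _ _)
  obtain ⟨G, e, ι, σ, hσ⟩ := h₂ (max n₁ n₂) (le_max_right _ _)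
  let N := CohB1.tensorPow A (max n₁ n₂)
  have hN : PicF.IsInvertible N := InvX.isInvertible_tensorPow hA.1 _
  let τ' : Γ(N, ⊤) := (CurveTensor.structureTensorIso N).hom.app ⊤ τ
  have hτ' : τ' ≠ 0 := fun h =>
    hτ ((ConcreteCategory.bijective_of_isIso ((CurveTensor.structureTensorIso N).hom.app ⊤)).1 (h.trans (map_zero _).symm))
  let s : Coh.structureModule X ⟶ N := InvX.ofSect τ'
  have hs : s ≠ 0 := fun h => hτ' (by
    rw [← InvX.one_ofSect τ']
    exact congrArg InvX.one h)
  haveI := InvEnd.mono_of_ne_zero InvX.isInvertible_structureModule hN s hs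
  haveI := NakaiMo.isIso_stalk hN s
  let ψ : F ⟶ G := (CurveTensor.structureTensorIso F).inv ≫ (AmpleVan.tw F).map s ≫
    (CurveTensor.commIso N F).hom ≫ e.inv
  let η := genericPoint X
  haveI hψ : IsIso ((DerSch.stalkFunctor X η).map ψ) := by
    haveI : IsIso ((DerSch.stalkFunctor X η).map ((AmpleVan.tw F).map s)) :=
      (NatIso.isIso_map_iff (KFlatLib.stalkTensorRightIso F η) s).2 (inferInstanceAs
        (IsIso ((MonoidalCategory.tensorRight _).map ((DerSch.stalkFunctor X η).map s))))
    simp only [ψ, Functor.map_comp]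
    infer_instance
  let le : F.presheaf.stalk η ≃ₗ[X.presheaf.stalk η] G.presheaf.stalk η :=
    (asIso ((DerSch.stalkFunctor X η).map ψ)).toLinearEquiv
  haveI := QCoh.finite_stalk_of_isFT hF.1 hF.2 η
  haveI : Module.Finite (X.presheaf.stalk η) (G.presheaf.stalk η) := Module.Finite.equiv le
  obtain ⟨φ, hφ⟩ := exists_free_hom hσ
  have hFr := AmpleVan.isCoh_invertible hN
  have hGc : Coh.IsCoh G :=
    QCoh.isCoh_of_epi e.inv (AmpleVan.isCoh_tensor hF hFr)
      ((QCoh.isQCoh_iff_iso e.symm).1 (AmpleVan.isCoh_tensor hF hFr).1)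
  have hfree : Coh.IsCoh (FlatMod.freeMod X (Module.finrank (X.presheaf.stalk η) (G.presheaf.stalk η))) :=
    CurveDeg.isCoh_of_isFinLocFree (KFlatLib.isFinLocFree_freeMod _)
  refine ((near_of_generic k hL hn hF hGc ψ hψ i).trans (near_of_generic k hL hn hfree hGc φ hφ i).symm).trans
    (Near.of_eq fun m => ?_)
  haveI := AmpleVan.isEquivalence_tw (InvX.isInvertible_tensorPow hL m)
  haveI : (AmpleVan.tw (CohB1.tensorPow L m)).Additive := Functor.additive_of_preserves_binary_products _
  haveI : Module.Finite k (Coh.HH X ((AmpleVan.tw (CohB1.tensorPow L m)).obj (Coh.structureModule X)) i) :=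
    CurveCohLib.finite_HH (k := k) (HilbPoly.isCoh_pw hL QCoh.isCoh_structureModule' m) i
  rw [le.finrank_eq]
  exact finrank_HH_free k (AmpleVan.tw (CohB1.tensorPow L m)) _ i

end Groth.Agent.VolLib
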