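import Groth.Agent.VolLib.UnifVan

/-!
# Uniform vanishing and bounds for numerically trivial twists: the induction
-/

noncomputable section

set_option autoImplicit false
set_option linter.style.haveILetI false
set_option linter.unusedSectionVars false
set_option backward.isDefEq.respectTransparency false
set_option backward.isDefEq.respectTransparency.types false
set_option maxHeartbeats 800000

universe u
open CategoryTheory CategoryTheory.Limits AlgebraicGeometry TopologicalSpace
open Groth.Agent.H23.PicMul

namespace Groth.Agent.VolLib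

theorem unif_gen (k : Type u) [Field k] (d : ℕ) : ∀ {X : Scheme.{u}} [X.Over (Spec (CommRingCat.of k))]
    [IsProper (X ↘ Spec (CommRingCat.of k))] {A : X.Modules}, CohB1.IsAmple A → Gen A →
    ∀ {M : X.Modules}, Coh.IsCoh M → topologicalKrullDim ↥(CohB1.support M) < (d : WithBot ℕ∞) →
      Unif k A d M := by
  induction d with
  | zero =>
    intro X _ _ A hA _ M _ hd
    haveI := CurveCohLib.isNoetherian_of_proper (k := k) (X := X)
    exact Unif.of_isZero hA.1 0 (isZero_of_dim_neg hd)
  | succ d ihd =>
    intro X _ _ A hA hgen M hM hd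
    haveI := CurveCohLib.isNoetherian_of_proper (k := k) (X := X)
    haveI : X.IsSeparated := AmpleVan.isSeparated_of_proper (A := k)
    induction QCoh.filt_of_isCoh hM with
    | @zero N hN => exact Unif.of_isZero hA.1 _ hN
    | @step N M φ _ _ hNc hMc hex ih =>
      obtain ⟨Z, i, hi, hZ, I, ι, hι, hI, hI0, ⟨e⟩⟩ := hex
      haveI := hi; haveI := hZ; haveI := hι
      have hu₁ := ih hNc
        ((H23.TopDim.dim_le_dim_of_subset (QCoh.mem_support_of_mono hNc.1 hMc.1 φ)).trans_lt hd)
      letI : Z.Over (Spec (CommRingCat.of k)) := ⟨i ≫ (X ↘ Spec (CommRingCat.of k))⟩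
      haveI : IsProper (Z ↘ Spec (CommRingCat.of k)) :=
        show IsProper (i ≫ (X ↘ Spec (CommRingCat.of k))) from inferInstance
      haveI := CurveCohLib.isNoetherian_of_proper (k := k) (X := Z)
      have hc := QCoh.isCoh_cokernel hNc.1 hMc φ
      have hr : Set.range i ⊆ CohB1.support M := by
        rw [QCoh.range_eq_closure i, ← QCoh.support_push_ideal i ι hI hI0, ← QCoh.support_iso e hc.1]
        exact QCoh.support_of_epi hMc.1 hc.1 (cokernel.π φ)
      have hdim : topologicalKrullDim Z < ((d + 1 : ℕ) : WithBot ℕ∞) := by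
        let g : Z → ↥(CohB1.support M) := fun z => ⟨i z, hr ⟨z, rfl⟩⟩
        exact ((Topology.IsInducing.of_comp (g := Subtype.val) (f := g) (i.continuous.subtype_mk _)
          continuous_subtype_val i.isClosedEmbedding.isInducing).topologicalKrullDim_le).trans_lt hd
      obtain ⟨n, hn⟩ : ∃ n : ℕ, topologicalKrullDim Z = (n : WithBot ℕ∞) := by
        haveI : Nonempty (IrreducibleCloseds Z) :=
          ⟨⟨irreducibleComponent (genericPoint Z), isIrreducible_irreducibleComponent, isClosed_irreducibleComponent⟩⟩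
        have h0 : 0 ≤ topologicalKrullDim Z := Order.krullDim_nonneg
        revert h0 hdim
        generalize topologicalKrullDim Z = D
        intro h1 h0
        rcases D with _ | D
        · exact absurd h0 (not_le.2 (WithBot.bot_lt_coe _))
        · have h2 : D < ((d + 1 : ℕ) : ℕ∞) := WithBot.coe_lt_coe.1 h1
          obtain ⟨n, hn⟩ := ENat.ne_top_iff_exists.1 h2.ne_top
          exact ⟨n, by rw [← hn]; rfl⟩
      have hnd : n ≤ d := Nat.lt_succ_iff.1 (by rw [hn] at hdim; exact_mod_cast hdim)
      let A' := (Scheme.Modules.pullback i).obj A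
      have hA' : CohB1.IsAmple A' := NormX.isAmple_pullback_affine i hA
      have hgen' : Gen A' := hgen.pullback hA.1 i
      have hIc : Coh.IsCoh I := QCoh.isCoh_of_mono ι QCoh.isCoh_structureModule' hI
      have hu₂ : Unif k A' (d + 1) I := by
        rcases hnd.lt_or_eq with hlt | heq
        · exact (ihd hA' hgen' hIc (((topologicalKrullDim_subspace_le Z _).trans hn.le).trans_lt
            (by exact_mod_cast hlt))).up (Nat.le_succ d)
        · subst heq
          rcases Nat.eq_zero_or_pos n with rfl | hn0
          · exact unif_point hA'.1 hn hIc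
          · exact unif_curveUp hA' hgen' hn hn0 (fun N hN hNd => ihd hA' hgen' hN hNd) hIc ι
      have hS : (ShortComplex.mk φ (cokernel.π φ) (cokernel.condition φ)).ShortExact :=
        .mk' (ShortComplex.exact_of_g_is_cokernel _ (cokernelIsCokernel φ)) ‹_› inferInstance
      exact Unif.ext hA.1 hS hNc hMc hc hu₁ ((Unif.push i rfl hA.1 hI hu₂).of_iso e.symm)

/-- **Uniform vanishing and bounds for numerically trivial twists.** -/
theorem unif (k : Type u) [Field k] {X : Scheme.{u}} [X.Over (Spec (CommRingCat.of k))]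
    [IsProper (X ↘ Spec (CommRingCat.of k))] {A : X.Modules} (hA : CohB1.IsAmple A) {M : X.Modules}
    (hM : Coh.IsCoh M) {d : ℕ} (hd : topologicalKrullDim ↥(CohB1.support M) < (d : WithBot ℕ∞)) :
    Unif k A d M := by
  classical
  haveI := CurveCohLib.isNoetherian_of_proper (k := k) (X := X)
  haveI : X.IsSeparated := AmpleVan.isSeparated_of_proper (A := k)
  obtain ⟨a, ha, hgen⟩ := exists_gen_pow hA
  have hr : ∀ r : ℕ, Unif k (CohB1.tensorPow A a) d ((AmpleVan.tw (CohB1.tensorPow A r)).obj M) := fun r =>
    unif_gen k d (AmpleX.isAmple_tensorPow hA ha) hgen (isCoh_tw (InvX.isInvertible_tensorPow hA.1 r) hM)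
      ((H23.TopDim.dim_le_dim_of_subset (support_tw_subset _ M)).trans_lt hd)
  choose mv hmv using fun r => (hr r).van
  choose B hB using fun r => (hr r).h0
  have key : ∀ L m, Nonempty ((AmpleVan.tw (tP (CohB1.tensorPow A a) L (m / a))).obj
      ((AmpleVan.tw (CohB1.tensorPow A (m % a))).obj M) ≅ (AmpleVan.tw (tP A L m)).obj M) := fun L m => by
    obtain ⟨θ⟩ := exists_twCompIso (P := CohB1.tensorPow A (m % a)) (Q := tP (CohB1.tensorPow A a) L (m / a))
      (R := tP A L m) (by
        simp only [cl_tensor, cl_tensorPow, ← pow_mul]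
        rw [mul_left_comm, ← pow_add, Nat.mod_add_div])
    exact ⟨θ.app M⟩
  refine ⟨⟨a * ((Finset.range a).sup mv + 1), fun L hL m hm q => ?_⟩, fun L hL => ?_,
    ⟨(Finset.range a).sup B, fun L hL m => ?_⟩⟩
  · obtain ⟨e⟩ := key L m
    refine QCoh.subsingleton_HH_of_iso e _ (hmv _ L hL _ ?_ q)
    calc mv (m % a) ≤ (Finset.range a).sup mv := Finset.le_sup (Finset.mem_range.2 (Nat.mod_lt _ ha))
      _ ≤ m / a := (Nat.le_succ _).trans ((Nat.le_div_iff_mul_le ha).2 (le_of_eq_of_le (mul_comm _ _) hm))
  · exact ((hr 0).of_iso (AmpleVan.twUnit.app M)).chi L hL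
  · obtain ⟨e⟩ := key L m
    refine (dimH_iso e 0).ge.trans ((hB _ L hL _).trans (Nat.mul_le_mul ?_ ?_))
    · exact Finset.le_sup (f := B) (Finset.mem_range.2 (Nat.mod_lt _ ha))
    · exact pT_mono d (Nat.add_le_add_right (Nat.div_le_self _ _) 1)

end Groth.Agent.VolLib
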