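import Groth.Agent.S14518
import Groth.Agent.H23.PicMul
import Groth.Agent.InvX.Tensor
import Groth.Agent.Lib.InvEnd

/-!
# Multiplying by a nonzero section does not decrease the dimension of sections
-/

set_option autoImplicit false
set_option linter.style.haveILetI false
set_option backward.isDefEq.respectTransparency false
set_option backward.isDefEq.respectTransparency.types false

universe u
open CategoryTheory CategoryTheory.Limits AlgebraicGeometry
open Groth.Agent.H23.PicMul

namespace Groth.Agent.VolLib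

variable {k : Type u} [Field k] {X : Scheme.{u}} [X.Over (Spec (CommRingCat.of k))] [IsIntegral X]
  [IsProper (X ↘ Spec (CommRingCat.of k))]

theorem isFinLocFree_inv {L : X.Modules} (hL : PicF.IsInvertible L) : FlatMod.IsFinLocFree L := fun y =>
  let ⟨W, hy, he⟩ := InvEnd.isFinLocFreeOfRank_one hL y
  ⟨W, 1, hy, he⟩

/-- A nonzero section of the second factor bounds the sections of the first by those of the product. -/
theorem finrank_le_tensor {E F : X.Modules} (hE : FlatMod.IsFinLocFree E) (hF : FlatMod.IsFinLocFree F)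
    (τ : Γ(F, ⊤)) (hτ : τ ≠ 0) :
    Module.finrank k (Coh.HH X E 0) ≤ Module.finrank k (Coh.HH X (CohB1.tensorMod E F) 0) := by
  let e := fun M : X.Modules => Sheaf.H.equiv₀ (Coh.toAb M) isTerminalTop
  let T := CohB1.tensorMod E F
  let c := fun a : k => (show Γ(X, ⊤) from Coh.resTop X (Opposite.op ⊤) (Coh.toGlobal (X ↘ Spec (CommRingCat.of k)) a))
  have hsm : ∀ (M : X.Modules) (a : k) (s : Coh.HH X M 0), (e M (a • s) : Γ(M, ⊤)) = c a • (show Γ(M, ⊤) from e M s) :=
    fun M a s => CurveCohLib.h0Equiv_smul M a s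
  let b := fun (s : Coh.HH X E 0) =>
    ((e T).symm (InvX.tmul (show Γ(E, ⊤) from e E s) τ) : Coh.HH X T 0)
  let B : Coh.HH X E 0 →ₗ[k] Coh.HH X T 0 :=
    { toFun := b
      map_add' := fun s s' => (e T).injective (by
        simp only [b, map_add, AddEquiv.apply_symm_apply]
        exact AmpleVan.tmul_add_left _ _ _)
      map_smul' := fun a s => (e T).injective (by
        rw [RingHom.id_apply, hsm]
        simp only [b, AddEquiv.apply_symm_apply]
        rw [hsm]
        exact InvX.tmul_smul_left _ _ _) }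
  haveI := CurveCohLib.isNoetherian_of_proper (k := k) (X := X)
  haveI : FiniteDimensional k (Coh.HH X T 0) :=
    CurveCohLib.finite_HH (k := k) (CurveDeg.isCoh_of_isFinLocFree (KFlatLib.isFinLocFree_tensor hE hF)) 0
  refine LinearMap.finrank_le_finrank_of_injective (f := B) ((injective_iff_map_eq_zero B).2 fun s hs => ?_)
  have h0 : InvX.tmul (show Γ(E, ⊤) from e E s) τ = 0 := by
    have := congrArg (e T) (show B s = 0 from hs)
    rw [map_zero] at this
    simpa [B, b] using this
  exact (e E).injective (((S14518.tmul_eq_zero hE hF _ _ h0).resolve_right hτ).trans (map_zero _).symm)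

omit [X.Over (Spec (CommRingCat.of k))] [IsProper (X ↘ Spec (CommRingCat.of k))] in
/-- Powers of a nonzero section are nonzero. -/
theorem exists_pow_ne_zero {E : X.Modules} (hE : PicF.IsInvertible E) (τ : Γ(E, ⊤)) (hτ : τ ≠ 0) :
    ∀ m : ℕ, ∃ σ : Γ(CohB1.tensorPow E m, ⊤), σ ≠ 0
  | 0 => ⟨(show Γ(X, ⊤) from 1), fun h => one_ne_zero (α := Γ(X, ⊤)) h⟩
  | m + 1 => by
    obtain ⟨σ, hσ⟩ := exists_pow_ne_zero hE τ hτ m
    exact ⟨InvX.tmul σ τ, fun h => ((S14518.tmul_eq_zero (isFinLocFree_inv (InvX.isInvertible_tensorPow hE m))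
      (isFinLocFree_inv hE) σ τ h).elim hσ hτ)⟩

theorem finrank_congr_cl {E F : X.Modules} (h : PicF.cl E = PicF.cl F) :
    Module.finrank k (Coh.HH X E 0) = Module.finrank k (Coh.HH X F 0) := by
  obtain ⟨e⟩ := cl_eq_iff.1 h
  exact (CurveCohLib.hhEquiv (k := k) e 0).finrank_eq

theorem exists_section_of_pos {E : X.Modules} (h : 0 < Module.finrank k (Coh.HH X E 0)) :
    ∃ τ : Γ(E, ⊤), τ ≠ 0 := by
  haveI : Nontrivial (Coh.HH X E 0) := Module.nontrivial_of_finrank_pos h
  obtain ⟨s, hs⟩ := exists_ne (0 : Coh.HH X E 0)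
  exact ⟨Sheaf.H.equiv₀ (Coh.toAb E) isTerminalTop s, fun h0 => hs
    ((Sheaf.H.equiv₀ (Coh.toAb E) isTerminalTop).injective (h0.trans (map_zero _).symm))⟩

end Groth.Agent.VolLib
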