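import Groth.Agent.VolLib.UnifTools
import Groth.Agent.VolLib.GenRank

/-!
# Cohomology along a sequence of exact functors with a map to the next one

Everything here is stated for abstract functors.
-/

noncomputable section

set_option autoImplicit false
set_option linter.style.haveILetI false
set_option linter.unusedSectionVars false
set_option backward.isDefEq.respectTransparency false
set_option backward.isDefEq.respectTransparency.types false
set_option maxHeartbeats 800000

universe u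
open CategoryTheory CategoryTheory.Limits AlgebraicGeometry TopologicalSpace
open Groth.Agent.PnCoh.Finite (mapLin deltaLin)

namespace Groth.Agent.VolLib

attribute [local instance] Groth.Agent.QCoh.hasFiniteBiproducts

variable (k : Type u) [Field k] {X : Scheme.{u}} [X.Over (Spec (CommRingCat.of k))]
  [IsProper (X ↘ Spec (CommRingCat.of k))]

/-- `dim_k H^q`, kept opaque. -/
irreducible_def dimH (M : X.Modules) (q : ℕ) : ℕ := Module.finrank k (Coh.HH X M q)

variable {k}

theorem dimH_iso {M N : X.Modules} (e : M ≅ N) (q : ℕ) : dimH k M q = dimH k N q := by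
  rw [dimH_def, dimH_def]
  exact HilbPoly.finrank_HH_iso k e q

theorem dimH_of_subsingleton {M : X.Modules} {q : ℕ} (h : Subsingleton (Coh.HH X M q)) : dimH k M q = 0 := by
  rw [dimH_def]
  exact Module.finrank_zero_of_subsingleton

theorem subsingleton_of_dimH {M : X.Modules} (hM : Coh.IsCoh M) {q : ℕ} (h : dimH k M q = 0) :
    Subsingleton (Coh.HH X M q) := by
  rw [dimH_def] at h
  haveI := CurveCohLib.finite_HH (k := k) hM q
  exact Module.finrank_zero_iff.1 h

theorem dimH_mid {S : ShortComplex X.Modules} (hS : S.ShortExact) (h₁ : Coh.IsCoh S.X₁) (h₂ : Coh.IsCoh S.X₂)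
    (h₃ : Coh.IsCoh S.X₃) (q : ℕ) : dimH k S.X₂ q ≤ dimH k S.X₁ q + dimH k S.X₃ q := by
  simp only [dimH_def]
  exact hh_mid_le (k := k) hS h₁ h₂ h₃ q

theorem euler_one {M : X.Modules} (h : ∀ q, Subsingleton (Coh.HH X M (q + 1))) :
    Curv2.euler k X M = (dimH k M 0 : ℤ) := by
  rw [CurveCohLib.euler_eq_sum (k := k) (N := 1) fun i hi => by
    obtain ⟨j, rfl⟩ := Nat.exists_eq_add_of_le' hi
    exact h j]
  simp [dimH_def]

theorem euler_two {M : X.Modules} (h : ∀ q, Subsingleton (Coh.HH X M (q + 2))) :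
    Curv2.euler k X M = (dimH k M 0 : ℤ) - (dimH k M 1 : ℤ) := by
  rw [CurveCohLib.euler_eq_sum (k := k) (N := 2) fun i hi => by
    obtain ⟨j, rfl⟩ := Nat.exists_eq_add_of_le' hi
    exact h j]
  simp [Finset.sum_range_succ, dimH_def, sub_eq_add_neg]

theorem euler_of_isZero {M : X.Modules} (h : IsZero M) : Curv2.euler k X M = 0 := by
  rw [Euler.euler_eq_sum k _ 0 fun i _ => Euler.subsingleton_HH_of_isZero h i]
  simp

variable (k)

include k in
theorem van_mid {S : ShortComplex X.Modules} (hS : S.ShortExact) (i : ℕ)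
    (h1 : Subsingleton (Coh.HH X S.X₁ i)) (h3 : Subsingleton (Coh.HH X S.X₃ i)) :
    Subsingleton (Coh.HH X S.X₂ i) :=
  subsingleton_of_forall_eq 0 fun x => by
    have hx : x ∈ LinearMap.ker (mapLin k S.g i) := LinearMap.mem_ker.2 (h3.elim _ _)
    rw [CurveCohLib.ker_mapLin_g k hS i] at hx
    obtain ⟨y, rfl⟩ := hx
    rw [h1.elim y 0, map_zero]

variable {k}

/-- Exact and preserving coherence. -/
structure GoodF (G : X.Modules ⥤ X.Modules) : Prop where
  ses : ∀ {S : ShortComplex X.Modules}, S.ShortExact →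
    ∃ h : G.map S.f ≫ G.map S.g = 0, (ShortComplex.mk (G.map S.f) (G.map S.g) h).ShortExact
  coh : ∀ {M : X.Modules}, Coh.IsCoh M → Coh.IsCoh (G.obj M)
  add : G.Additive

theorem GoodF.euler_add {G : X.Modules ⥤ X.Modules} (hG : GoodF G) {S : ShortComplex X.Modules} (hS : S.ShortExact)
    (h₁ : Coh.IsCoh S.X₁) (h₂ : Coh.IsCoh S.X₂) (h₃ : Coh.IsCoh S.X₃) :
    Curv2.euler k X (G.obj S.X₂) = Curv2.euler k X (G.obj S.X₁) + Curv2.euler k X (G.obj S.X₃) := by
  obtain ⟨_, hT⟩ := hG.ses hS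
  have e := CurveCohLib.euler_additive (k := k) hT
  exact e (hG.coh h₁) (hG.coh h₂) (hG.coh h₃)

theorem GoodF.dimH_mid {G : X.Modules ⥤ X.Modules} (hG : GoodF G) {S : ShortComplex X.Modules} (hS : S.ShortExact)
    (h₁ : Coh.IsCoh S.X₁) (h₂ : Coh.IsCoh S.X₂) (h₃ : Coh.IsCoh S.X₃) (q : ℕ) :
    dimH k (G.obj S.X₂) q ≤ dimH k (G.obj S.X₁) q + dimH k (G.obj S.X₃) q := by
  obtain ⟨_, hT⟩ := hG.ses hS
  have e := VolLib.dimH_mid (k := k) hT
  exact e (hG.coh h₁) (hG.coh h₂) (hG.coh h₃) q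

include k in
theorem GoodF.van_mid {G : X.Modules ⥤ X.Modules} (hG : GoodF G) {S : ShortComplex X.Modules} (hS : S.ShortExact)
    (q : ℕ) (h₁ : Subsingleton (Coh.HH X (G.obj S.X₁) q)) (h₃ : Subsingleton (Coh.HH X (G.obj S.X₃) q)) :
    Subsingleton (Coh.HH X (G.obj S.X₂) q) := by
  obtain ⟨_, hT⟩ := hG.ses hS
  exact VolLib.van_mid k hT q h₁ h₃

section Comp

variable {F G H : X.Modules ⥤ X.Modules} (θ : F ⋙ G ≅ H) (M : X.Modules)

/-- `G (F M) ≅ H M`. -/
def compApp : G.obj (F.obj M) ≅ H.obj M := θ.app M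

include θ in
theorem dimH_comp (q : ℕ) : dimH k (G.obj (F.obj M)) q = dimH k (H.obj M) q := dimH_iso (compApp θ M) q

include θ in
theorem euler_comp : Curv2.euler k X (G.obj (F.obj M)) = Curv2.euler k X (H.obj M) :=
  CurveCohLib.euler_congr (k := k) (compApp θ M)

include θ in
theorem subsingleton_comp {q : ℕ} (h : Subsingleton (Coh.HH X (G.obj (F.obj M)) q)) :
    Subsingleton (Coh.HH X (H.obj M) q) :=
  QCoh.subsingleton_HH_of_iso (compApp θ M) q h

end Comp

variable (k)

theorem mapLin_comp' {P Q R : X.Modules} (f : P ⟶ Q) (g : Q ⟶ R) (i : ℕ) (x : Coh.HH X P i) :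
    mapLin k g i (mapLin k f i x) = mapLin k (f ≫ g) i x :=
  PnCoh.Finite.map_map (Y := X.toPresheafedSpace.carrier) ((QCoh.toAbFunctor X).map_comp f g).symm i x

theorem mapLin_id' (P : X.Modules) (i : ℕ) (x : Coh.HH X P i) : mapLin k (𝟙 P) i x = x :=
  (congrArg (fun φ => Sheaf.H.map φ i x) ((QCoh.toAbFunctor X).map_id _)).trans (Sheaf.H.map_id_apply x)

variable {k}

/-- For `0 → I → J → Q → 0` with `H^1(Q) = 0`: `h^1(J) ≤ h^1(I)`, with equality exactly when the sections of
`J` cover those of `Q`. -/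
theorem h1_step {S : ShortComplex X.Modules} (hS : S.ShortExact) (h₁ : Coh.IsCoh S.X₁) (h₂ : Coh.IsCoh S.X₂)
    (h : Subsingleton (Coh.HH X S.X₃ 1)) :
    dimH k S.X₂ 1 ≤ dimH k S.X₁ 1 ∧
      (Function.Surjective (mapLin k S.g 0) ↔ dimH k S.X₂ 1 = dimH k S.X₁ 1) := by
  simp only [dimH_def]
  haveI := CurveCohLib.finite_HH (k := k) h₁ 1
  haveI := CurveCohLib.finite_HH (k := k) h₂ 1
  have hf : Function.Surjective (mapLin k S.f 1) := NakaiMo.surjective_f k hS 1 h
  have hiff : Function.Surjective (mapLin k S.g 0) ↔ Function.Injective (mapLin k S.f 1) := by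
    rw [← LinearMap.ker_eq_bot, CurveCohLib.ker_mapLin_f_succ k hS 0, ← LinearMap.range_eq_top,
      ← CurveCohLib.ker_deltaLin k hS 0, LinearMap.ker_eq_top, LinearMap.range_eq_bot]
  refine ⟨LinearMap.finrank_le_finrank_of_surjective (f := mapLin k S.f 1) hf,
    hiff.trans ⟨fun hinj => (LinearEquiv.ofBijective (mapLin k S.f 1) ⟨hinj, hf⟩).finrank_eq.symm, fun heq => ?_⟩⟩
  exact (LinearMap.injective_iff_surjective_of_finrank_eq_finrank (f := mapLin k S.f 1) heq.symm).2 hf

theorem dimH_eq_X₁ {S : ShortComplex X.Modules} (hS : S.ShortExact) (q : ℕ)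
    (h : Subsingleton (Coh.HH X S.X₃ q)) (h' : Subsingleton (Coh.HH X S.X₃ (q + 1))) :
    dimH k S.X₁ (q + 1) = dimH k S.X₂ (q + 1) := by
  simp only [dimH_def]
  exact NakaiMo.finrank_eq_X₁ k hS q h h'

theorem desc_eq {r : ℕ} {Q R : X.Modules} (μ : ULift.{u} (Fin r) → (Q ⟶ R)) :
    (biproduct.desc μ : (⨁ fun _ : ULift.{u} (Fin r) => Q) ⟶ R) =
      ∑ l, biproduct.π (fun _ : ULift.{u} (Fin r) => Q) l ≫ μ l := by
  rw [← Category.id_comp (biproduct.desc μ), ← QCoh.biproduct_total' (fun _ : ULift.{u} (Fin r) => Q),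
    Preadditive.sum_comp]
  exact Finset.sum_congr rfl fun l _ => by rw [Category.assoc, biproduct.ι_desc]

/-- Surjectivity on sections passes to the next functor when multiplication maps generate. -/
theorem surjective_next {A' G H : X.Modules ⥤ X.Modules} (hG : GoodF G) (θ : A' ⋙ G ≅ H) {J Q : X.Modules}
    (π : J ⟶ Q) {r : ℕ} (μJ : ULift.{u} (Fin r) → (J ⟶ A'.obj J)) (μQ : ULift.{u} (Fin r) → (Q ⟶ A'.obj Q))
    (hμ : ∀ l, π ≫ μQ l = μJ l ≫ A'.map π) [Epi (biproduct.desc μQ)]
    (hK : Subsingleton (Coh.HH X (G.obj (kernel (biproduct.desc μQ))) 1))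
    (hsur : Function.Surjective (mapLin k (G.map π) 0)) : Function.Surjective (mapLin k (H.map π) 0) := by
  classical
  haveI := hG.add
  have hKs : (ShortComplex.mk (kernel.ι (biproduct.desc μQ)) (biproduct.desc μQ) (kernel.condition _)).ShortExact :=
    { exact := ShortComplex.exact_of_f_is_kernel _ (kernelIsKernel _) }
  obtain ⟨_, hT⟩ := hG.ses hKs
  have hsurψ : Function.Surjective (mapLin k (G.map (biproduct.desc μQ)) 0) := by
    have hker : LinearMap.ker (deltaLin k hT 0) = LinearMap.range (mapLin k (G.map (biproduct.desc μQ)) 0) :=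
      CurveCohLib.ker_deltaLin k hT 0
    rw [← LinearMap.range_eq_top, ← hker, LinearMap.ker_eq_top]
    exact LinearMap.ext fun x => hK.elim _ _
  have hA' : Function.Surjective (mapLin k (G.map (A'.map π)) 0) := by
    intro x
    obtain ⟨y, rfl⟩ := hsurψ x
    choose z hz using fun l : ULift.{u} (Fin r) =>
      hsur (mapLin k (G.map (biproduct.π (fun _ : ULift.{u} (Fin r) => Q) l)) 0 y)
    refine ⟨∑ l, mapLin k (G.map (μJ l)) 0 (z l), ?_⟩
    rw [map_sum]
    conv_rhs => rw [desc_eq μQ, Functor.map_sum, mapLin_sum' k]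
    refine Finset.sum_congr rfl fun l _ => ?_
    rw [mapLin_comp', ← Functor.map_comp, ← hμ l, Functor.map_comp, ← mapLin_comp', hz l, mapLin_comp',
      ← Functor.map_comp]
  intro w
  obtain ⟨v, hv⟩ := hA' (mapLin k (θ.inv.app Q) 0 w)
  refine ⟨mapLin k (θ.hom.app J) 0 v, ?_⟩
  have hnat : θ.hom.app J ≫ H.map π = G.map (A'.map π) ≫ θ.hom.app Q := (θ.hom.naturality π).symm
  refine (mapLin_comp' k _ _ 0 v).trans ?_
  refine (congrArg (fun f => mapLin k f 0 v) hnat).trans ?_
  refine (mapLin_comp' k _ _ 0 v).symm.trans ?_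
  refine (congrArg _ hv).trans ?_
  refine (mapLin_comp' k _ _ 0 w).trans ?_
  refine (congrArg (fun f => mapLin k f 0 w) (θ.inv_hom_id_app Q)).trans ?_
  exact mapLin_id' k _ _ _

/-- Along a family of exact functors: the higher cohomology vanishes after as many steps as the first `h^1`. -/
theorem subsingleton_of_family {A' : X.Modules ⥤ X.Modules} {T : ℕ → (X.Modules ⥤ X.Modules)}
    (hT : ∀ m, GoodF (T m)) (θ : ∀ m, A' ⋙ T m ≅ T (m + 1)) {I : X.Modules} (hI : Coh.IsCoh I)
    (φ : I ⟶ A'.obj I) [Mono φ] (hJ : Coh.IsCoh (A'.obj I)) {mQ : ℕ}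
    (hvQ : ∀ m, mQ ≤ m → ∀ q, Subsingleton (Coh.HH X ((T m).obj (cokernel φ)) (q + 1)))
    (hev : ∀ m q, ∃ j₀, ∀ j, j₀ ≤ j → Subsingleton (Coh.HH X ((T (m + j)).obj I) (q + 1))) :
    (∀ m, mQ ≤ m → ∀ q, Subsingleton (Coh.HH X ((T m).obj I) (q + 2))) ∧
      ∀ {r : ℕ} (μJ : ULift.{u} (Fin r) → (A'.obj I ⟶ A'.obj (A'.obj I)))
        (μQ : ULift.{u} (Fin r) → (cokernel φ ⟶ A'.obj (cokernel φ))),
        (∀ l, cokernel.π φ ≫ μQ l = μJ l ≫ A'.map (cokernel.π φ)) → Epi (biproduct.desc μQ) →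
        ∀ {mK : ℕ}, mQ ≤ mK →
          (∀ m, mK ≤ m → Subsingleton (Coh.HH X ((T m).obj (kernel (biproduct.desc μQ))) 1)) →
          ∀ {K : ℕ}, dimH k ((T mK).obj I) 1 ≤ K →
            ∀ m, mK + K ≤ m → ∀ q, Subsingleton (Coh.HH X ((T m).obj I) (q + 1)) := by
  have hS : (ShortComplex.mk φ (cokernel.π φ) (cokernel.condition φ)).ShortExact :=
    { exact := ShortComplex.exact_of_g_is_cokernel _ (cokernelIsCokernel φ) }
  have hstep : ∀ m q, dimH k ((T m).obj (A'.obj I)) q = dimH k ((T (m + 1)).obj I) q := fun m q =>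
    dimH_comp (θ m) I q
  have h2 : ∀ m, mQ ≤ m → ∀ q, Subsingleton (Coh.HH X ((T m).obj I) (q + 2)) := by
    intro m hm q
    have heq : ∀ j, dimH k ((T (m + j)).obj I) (q + 2) = dimH k ((T m).obj I) (q + 2) := by
      intro j
      induction j with
      | zero => rfl
      | succ j ih =>
        obtain ⟨_, hTS⟩ := (hT (m + j)).ses hS
        exact (hstep (m + j) (q + 2)).symm.trans ((dimH_eq_X₁ (k := k) hTS (q + 1)
          (hvQ _ (by omega) q) (hvQ _ (by omega) (q + 1))).symm.trans ih)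
    obtain ⟨j₀, hj₀⟩ := hev m (q + 1)
    exact subsingleton_of_dimH ((hT m).coh hI) ((heq j₀).symm.trans (dimH_of_subsingleton (hj₀ j₀ le_rfl)))
  refine ⟨h2, fun {r} μJ μQ hμ hepi {mK} hmK hvK {K} hK m hm q => ?_⟩
  haveI := hepi
  let Sur := fun m => Function.Surjective (mapLin k ((T m).map (cokernel.π φ)) 0)
  let h := fun m => dimH k ((T m).obj I) 1
  have hsurf : ∀ m, mK ≤ m → h (m + 1) ≤ h m ∧ (Sur m ↔ h (m + 1) = h m) := by
    intro m hm
    obtain ⟨_, hTS⟩ := (hT m).ses hS
    have e := h1_step (k := k) hTS ((hT m).coh hI) ((hT m).coh hJ) (hvQ m (hmK.trans hm) 0)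
    simp only [hstep] at e
    exact e
  have hv : ∀ j, h (mK + j) ≤ K - j := by
    intro j
    induction j with
    | zero => simpa using hK
    | succ j ih =>
      have hle := (hsurf (mK + j) (Nat.le_add_right _ _)).1
      by_cases hz : h (mK + j) = 0
      · show h (mK + j + 1) ≤ _
        omega
      · suffices hlt : h (mK + j + 1) < h (mK + j) by
          show h (mK + j + 1) ≤ _
          omega
        refine lt_of_le_of_ne hle fun heq => hz ?_
        have hsur : ∀ i, Sur (mK + j + i) := by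
          intro i
          induction i with
          | zero => exact (hsurf _ (Nat.le_add_right _ _)).2.2 heq
          | succ i hi =>
            exact surjective_next (hT _) (θ _) (cokernel.π φ) μJ μQ hμ
              (hvK _ (Nat.le_add_right_of_le (Nat.le_add_right _ _))) hi
        have hconst : ∀ i, h (mK + j + i) = h (mK + j) := by
          intro i
          induction i with
          | zero => rfl
          | succ i hi =>
            exact ((hsurf _ (Nat.le_add_right_of_le (Nat.le_add_right _ _))).2.1 (hsur i)).trans hi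
        obtain ⟨i₀, hi₀⟩ := hev (mK + j) 0
        exact (hconst i₀).symm.trans (dimH_of_subsingleton (hi₀ i₀ le_rfl))
  rcases q with _ | q
  · obtain ⟨j, rfl⟩ : ∃ j, m = mK + j := ⟨m - mK, by omega⟩
    have h0 := hv j
    exact subsingleton_of_dimH ((hT _).coh hI) (k := k) (show h (mK + j) = 0 by omega)
  · exact h2 m (hmK.trans ((Nat.le_add_right _ _).trans hm)) q

end Groth.Agent.VolLib
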