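import Groth.Agent.VolLib.Growth
import Groth.Agent.NakaiMo.Main
import Groth.Agent.HilbPoly.Pos
import Groth.Agent.PerfGen7.LowerBound
import Groth.Agent.H23.TopDim
import Groth.Agent.H23.UnitSec

/-!
# Kodaira's lemma and the lower bound for sections of big invertible modules
-/

set_option autoImplicit false
set_option linter.style.haveILetI false
set_option linter.unusedSectionVars false
set_option backward.isDefEq.respectTransparency false
set_option backward.isDefEq.respectTransparency.types false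
set_option maxHeartbeats 800000

universe u
open CategoryTheory CategoryTheory.Limits AlgebraicGeometry TopologicalSpace
open Groth.Agent.H23.PicMul

namespace Groth.Agent.VolLib

open Groth.Agent.HilbPoly (pw)

variable {k : Type u} [Field k] {X : Scheme.{u}} [X.Over (Spec (CommRingCat.of k))]
  [IsProper (X ↘ Spec (CommRingCat.of k))] [IsIntegral X]

theorem isInvertible_of_inverse {A A' : X.Modules} (hA : PicF.IsInvertible A)
    (e : CohB1.tensorMod A' A ≅ Coh.structureModule X) : PicF.IsInvertible A' := by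
  obtain ⟨D, hD, ⟨u⟩⟩ := H23.PicInv.exists_inverse hA
  obtain ⟨v⟩ : Nonempty (A' ≅ D) := cl_eq_iff.1 (by
    have h1 : PicF.cl A * PicF.cl A' = 1 := by
      rw [mul_comm, ← cl_tensor, H23.PicMul.one_def]; exact cl_eq_iff.2 ⟨e⟩
    have h2 : PicF.cl A * PicF.cl D = 1 := by
      rw [← cl_tensor, H23.PicMul.one_def]; exact cl_eq_iff.2 ⟨u⟩
    exact (isUnit_cl hA).mul_left_cancel (h1.trans h2.symm))
  exact isInvertible_of_iso v.symm hD

theorem finrank_pos_of_ne_zero {E : X.Modules} (hE : Coh.IsCoh E) (σ : Γ(E, ⊤)) (hσ : σ ≠ 0) :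
    0 < Module.finrank k (Coh.HH X E 0) := by
  haveI := CurveCohLib.isNoetherian_of_proper (k := k) (X := X)
  haveI := CurveCohLib.finite_HH (k := k) hE 0
  refine Module.finrank_pos_iff_exists_ne_zero.2
    ⟨(Sheaf.H.equiv₀ (Coh.toAb E) isTerminalTop).symm σ, fun h0 => hσ ?_⟩
  have := congrArg (Sheaf.H.equiv₀ (Coh.toAb E) isTerminalTop) h0
  rw [AddEquiv.apply_symm_apply, map_zero] at this
  exact this

theorem isZero_or_lt [IsNoetherian X] {d : ℕ} (hd : topologicalKrullDim X = d) {N : X.Modules}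
    (hN : PicF.IsInvertible N) (s : Coh.structureModule X ⟶ N) [Mono s] :
    IsZero (cokernel s) ∨ ∃ e, d = e + 1 ∧ topologicalKrullDim ↥(CohB1.support (cokernel s)) ≤ (e : WithBot ℕ∞) := by
  have hO : Coh.IsCoh (Coh.structureModule X) := QCoh.isCoh_structureModule'
  have hQ := QCoh.isCoh_cokernel hO.1 (AmpleVan.isCoh_invertible hN) s
  haveI := NakaiMo.isIso_stalk hN s
  have hη : genericPoint X ∉ CohB1.support (cokernel s) := Snapper.notMem_support_cokernel s inferInstance
  by_cases hne : (CohB1.support (cokernel s)) = ∅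
  · exact Or.inl (PerfGen7.LowerBound.isZero_of_stalks _ fun x => Snapper.notMem_support_iff.1 (by rw [hne]; exact id))
  refine Or.inr ?_
  have hlt := H23.TopDim.dim_lt_of_ssubset (X := X) (by rw [hd]; exact WithBot.coe_inj.not.2 (ENat.coe_ne_top d))
    (QCoh.isClosed_support_of_isFT hQ.1 hQ.2) (fun h => hη (h ▸ Set.mem_univ _))
  haveI : Nonempty ↥(CohB1.support (cokernel s)) := (Set.nonempty_iff_ne_empty.2 hne).to_subtype
  haveI : Nonempty (IrreducibleCloseds ↥(CohB1.support (cokernel s))) :=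
    ⟨⟨irreducibleComponent (Classical.arbitrary _), isIrreducible_irreducibleComponent, isClosed_irreducibleComponent⟩⟩
  rw [hd] at hlt
  obtain ⟨e, rfl⟩ : ∃ e, d = e + 1 := by
    refine ⟨d - 1, ?_⟩
    rcases Nat.eq_zero_or_pos d with rfl | h
    · exact absurd hlt (not_lt.2 (Order.krullDim_nonneg))
    · omega
  exact ⟨e, rfl, HilbPoly.le_of_lt_succ (by exact_mod_cast hlt)⟩

/-- **Kodaira's lemma**: if the sections of the powers of `L` are not `O(m ^ (d-1))`, some power of `L`
minus the ample `A` is effective. -/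
theorem exists_kodaira {A A' : X.Modules} (hA : CohB1.IsAmple A) (e : CohB1.tensorMod A' A ≅ Coh.structureModule X)
    {L : X.Modules} (hL : PicF.IsInvertible L) {d : ℕ} (hd : topologicalKrullDim X = d)
    (hbig : ∀ C m₀ : ℕ, ∃ m, m₀ ≤ m ∧ C * m ^ d < Module.finrank k (Coh.HH X (CohB1.tensorPow L m) 0) * m) :
    ∃ m : ℕ, 0 < m ∧ ∃ τ : Γ(CohB1.tensorMod A' (CohB1.tensorPow L m), ⊤), τ ≠ 0 := by
  haveI := CurveCohLib.isNoetherian_of_proper (k := k) (X := X)
  haveI : X.IsSeparated := AmpleVan.isSeparated_of_proper (A := k)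
  have hA0 := hA.1
  have hA' := isInvertible_of_inverse hA0 e
  have hO : Coh.IsCoh (Coh.structureModule X) := QCoh.isCoh_structureModule'
  obtain ⟨n₀, hn₀⟩ := exists_section_twist hA (InvX.isInvertible_structureModule (X := X))
  obtain ⟨τ, hτ⟩ := hn₀ (n₀ + 1) (Nat.le_succ _)
  obtain ⟨σ, hσ⟩ := hn₀ n₀ le_rfl
  let N := CohB1.tensorMod (Coh.structureModule X) (CohB1.tensorPow A (n₀ + 1))
  have hN : PicF.IsInvertible N :=
    InvX.isInvertible_tensorMod InvX.isInvertible_structureModule (InvX.isInvertible_tensorPow hA0 _)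
  let s : Coh.structureModule X ⟶ N := InvX.ofSect τ
  have hs : s ≠ 0 := fun h => hτ (by
    rw [← InvX.one_ofSect τ]
    exact congrArg InvX.one h)
  haveI := InvEnd.mono_of_ne_zero InvX.isInvertible_structureModule hN s hs
  let E := CohB1.tensorPow A' (n₀ + 1)
  have hE : PicF.IsInvertible E := InvX.isInvertible_tensorPow hA' _
  have hses : (ShortComplex.mk s (cokernel.π s) (cokernel.condition s)).ShortExact :=
    { exact := ShortComplex.exact_of_g_is_cokernel _ (cokernelIsCokernel s) }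
  haveI := AmpleVan.isEquivalence_tw hE
  haveI : (AmpleVan.tw E).Additive := Functor.additive_of_preserves_binary_products _
  have hS₁ := hses.map_of_exact (AmpleVan.tw E)
  have hQ := QCoh.isCoh_cokernel hO.1 (AmpleVan.isCoh_invertible hN) s
  have hQ' : Coh.IsCoh (CohB1.tensorMod (cokernel s) E) := AmpleVan.isCoh_tensor hQ (AmpleVan.isCoh_invertible hE)
  have hN' : PicF.IsInvertible (CohB1.tensorMod N E) := InvX.isInvertible_tensorMod hN hE
  -- the bound for the quotient
  obtain ⟨C, m₁, hC⟩ : ∃ C m₁ : ℕ, ∀ m, m₁ ≤ m →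
      Module.finrank k (Coh.HH X (pw L (CohB1.tensorMod (cokernel s) E) m) 0) * m ≤ C * m ^ d := by
    rcases isZero_or_lt hd hN s with hz | ⟨e', rfl, he'⟩
    · refine ⟨0, 0, fun m _ => ?_⟩
      haveI := AmpleVan.isEquivalence_tw (InvX.isInvertible_tensorPow hL m)
      haveI : (AmpleVan.tw (CohB1.tensorPow L m)).Additive := Functor.additive_of_preserves_binary_products _
      haveI : Subsingleton (Coh.HH X (pw L (CohB1.tensorMod (cokernel s) E) m) 0) :=
        Euler.subsingleton_HH_of_isZero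
          ((AmpleVan.tw (CohB1.tensorPow L m)).map_isZero ((AmpleVan.tw E).map_isZero hz)) 0
      rw [Module.finrank_zero_of_subsingleton, zero_mul]
      exact Nat.zero_le _
    · obtain ⟨C, m₁, h⟩ := exists_bound_coh_support (k := k) hA hL hQ'
        ((H23.TopDim.dim_le_dim_of_subset (HilbPoly.support_tensor_subset _ _)).trans he')
      refine ⟨C, m₁, fun m hm => ?_⟩
      calc _ ≤ C * m ^ e' * m := Nat.mul_le_mul_right _ (h m hm)
        _ = C * m ^ (e' + 1) := by ring
  obtain ⟨m, hm, hlt⟩ := hbig C (max m₁ 1)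
  refine ⟨m, le_of_max_le_right hm, ?_⟩
  have hS₂ := NakaiMo.shortExact_pw hL hS₁ m
  have h1 := finrank_le_add (k := k) hS₂ (HilbPoly.isCoh_pw hL (AmpleVan.isCoh_invertible hN') m)
    (HilbPoly.isCoh_pw hL hQ' m)
  have h2 : Module.finrank k (Coh.HH X (CohB1.tensorPow L m) 0) =
      Module.finrank k (Coh.HH X (pw L (CohB1.tensorMod N E) m) 0) := finrank_congr_cl (by
    have hunit : PicF.cl A * PicF.cl A' = 1 := by
      rw [mul_comm, ← cl_tensor, H23.PicMul.one_def]; exact cl_eq_iff.2 ⟨e⟩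
    simp only [pw, N, E, cl_tensor, cl_tensorPow, ← H23.PicMul.one_def, one_mul, ← mul_pow, hunit, one_pow])
  have hpos : 0 < Module.finrank k (Coh.HH X (pw L (CohB1.tensorMod (Coh.structureModule X) E) m) 0) := by
    by_contra h0
    have h3 := hC m (le_of_max_le_left hm)
    have h4 := Nat.mul_le_mul_right m h1
    rw [h2] at hlt
    change _ ≤ (Module.finrank k (Coh.HH X (pw L (CohB1.tensorMod (Coh.structureModule X) E) m) 0) +
      Module.finrank k (Coh.HH X (pw L (CohB1.tensorMod (cokernel s) E) m) 0)) * m at h4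
    rw [Nat.eq_zero_of_not_pos h0, zero_add] at h4
    exact absurd hlt (not_lt.2 (h4.trans h3))
  obtain ⟨ρ, hρ⟩ := exists_section_of_pos hpos
  refine exists_section_of_pos (k := k) (lt_of_lt_of_le hpos ?_)
  refine (finrank_le_tensor (k := k)
    (isFinLocFree_inv (InvX.isInvertible_tensorMod (InvX.isInvertible_tensorMod InvX.isInvertible_structureModule hE)
      (InvX.isInvertible_tensorPow hL m)))
    (isFinLocFree_inv (InvX.isInvertible_tensorMod InvX.isInvertible_structureModule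
      (InvX.isInvertible_tensorPow hA0 n₀))) σ hσ).trans_eq (finrank_congr_cl ?_)
  have hunit : PicF.cl A' * PicF.cl A = 1 := by
    rw [← cl_tensor, H23.PicMul.one_def]; exact cl_eq_iff.2 ⟨e⟩
  simp only [E, cl_tensor, cl_tensorPow, ← H23.PicMul.one_def, one_mul]
  rw [pow_succ, mul_comm (PicF.cl A' ^ n₀) (PicF.cl A'), mul_assoc (PicF.cl A'),
    mul_assoc (PicF.cl A'), mul_comm (PicF.cl A' ^ n₀) (PicF.cl L ^ m), mul_assoc (PicF.cl L ^ m), ← mul_pow, hunit,
    one_pow, mul_one]

/-- A polynomial with positive leading coefficient is bounded below by a multiple of the power. -/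
theorem exists_lower_poly (P : Polynomial ℚ) {d : ℕ} (hP : P.natDegree ≤ d) (hc : 0 < P.coeff d) :
    ∃ D m₁ : ℕ, ∀ m : ℕ, m₁ ≤ m → (m : ℚ) ^ d ≤ (D : ℚ) * P.eval (m : ℚ) := by
  obtain ⟨D, hD⟩ := exists_nat_ge (2 / P.coeff d)
  set S := ∑ i ∈ Finset.range d, |P.coeff i| with hS
  obtain ⟨m₁, hm₁⟩ := exists_nat_ge (2 * S / P.coeff d)
  refine ⟨D, max m₁ 1, fun m hm => ?_⟩
  have h1 : (1 : ℚ) ≤ m := by exact_mod_cast le_of_max_le_right hm
  have h2 : 2 * S ≤ P.coeff d * m := by
    have : 2 * S / P.coeff d ≤ (m : ℚ) := hm₁.trans (by exact_mod_cast le_of_max_le_left hm)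
    rw [div_le_iff₀ hc] at this
    linarith [mul_comm (m : ℚ) (P.coeff d)]
  have h3 : 2 ≤ P.coeff d * (D : ℚ) := by
    rw [div_le_iff₀ hc] at hD
    linarith [mul_comm (D : ℚ) (P.coeff d)]
  have h4 : P.coeff d * (m : ℚ) ^ d / 2 ≤ P.eval (m : ℚ) := by
    rw [Polynomial.eval_eq_sum_range' (n := d + 1) (by omega), Finset.sum_range_succ]
    rcases Nat.eq_zero_or_pos d with rfl | hd
    · simp; linarith
    · obtain ⟨d', rfl⟩ : ∃ d', d = d' + 1 := ⟨d - 1, by omega⟩
      have hb : -(S * (m : ℚ) ^ d') ≤ ∑ i ∈ Finset.range (d' + 1), P.coeff i * (m : ℚ) ^ i := by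
        rw [hS, Finset.sum_mul, ← Finset.sum_neg_distrib]
        refine Finset.sum_le_sum fun i hi => ?_
        calc -(|P.coeff i| * (m : ℚ) ^ d') ≤ -(|P.coeff i| * (m : ℚ) ^ i) :=
              neg_le_neg (mul_le_mul_of_nonneg_left (pow_le_pow_right₀ h1 (by simp at hi; omega)) (abs_nonneg _))
          _ ≤ P.coeff i * (m : ℚ) ^ i := by
              rw [← neg_mul]
              exact mul_le_mul_of_nonneg_right (neg_abs_le _) (by positivity)
      have hp : (0 : ℚ) ≤ (m : ℚ) ^ d' := by positivity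
      nlinarith [mul_le_mul_of_nonneg_right h2 hp, pow_succ (m : ℚ) d']
  have hp : (0 : ℚ) ≤ (m : ℚ) ^ d := by positivity
  have hD0 : (0 : ℚ) ≤ D := by positivity
  nlinarith [mul_le_mul_of_nonneg_left h4 hD0, mul_le_mul_of_nonneg_right h3 hp]

/-- Sections of powers of an ample module grow like the dimension. -/
theorem exists_lower_ample {A : X.Modules} (hA : CohB1.IsAmple A) {d : ℕ} (hd : topologicalKrullDim X = d) :
    ∃ D m₁ : ℕ, ∀ m, m₁ ≤ m → m ^ d ≤ D * Module.finrank k (Coh.HH X (CohB1.tensorPow A m) 0) := by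
  haveI := CurveCohLib.isNoetherian_of_proper (k := k) (X := X)
  let O := Coh.structureModule X
  have hO : Coh.IsCoh O := QCoh.isCoh_structureModule'
  have hsupp : CohB1.support O = Set.univ := Set.eq_univ_of_forall fun x h => by
    haveI : Subsingleton ((Coh.structureModule X).presheaf.stalk x) := h
    exact not_subsingleton (X.presheaf.stalk x) ((LinearEquiv.ofBijective
      (LinearMap.toSpanSingleton (X.presheaf.stalk x) ((Coh.structureModule X).presheaf.stalk x) (H23.UnitSec.one x))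
      ⟨fun a b e => sub_eq_zero.1 (H23.UnitSec.eq_zero_of_smul_one (a - b) (by rw [sub_smul]; exact sub_eq_zero.2 e)),
        fun m => Submodule.mem_span_singleton.1 ((H23.UnitSec.span_one x).ge (Submodule.mem_top : m ∈ ⊤))⟩).toEquiv.subsingleton)
  have hdim : topologicalKrullDim ↥(CohB1.support O) = (d : WithBot ℕ∞) := by
    rw [hsupp, ← hd]
    exact (Homeomorph.Set.univ X).isHomeomorph.topologicalKrullDim_eq
  obtain ⟨P, hP, hPd, hPα⟩ := HilbPoly.exists_poly (HilbPoly.additive_euler k) hA.1 hO hdim.le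
  have hc : 0 < P.coeff d := by
    have hpos := (HilbPoly.mult_nonneg_and_pos k hA d O hO hdim.le).2 hdim
    rw [StabCat.alpha] at hPα
    refine pos_of_mul_pos_right ?_ (by positivity : (0 : ℚ) ≤ (d.factorial : ℚ))
    rw [hPα]
    exact_mod_cast hpos
  obtain ⟨D, m₁, hD⟩ := exists_lower_poly P hPd hc
  obtain ⟨v, hv⟩ := AmpleVan.exists_vanishing (A := k) hA hO
  refine ⟨D, max v m₁, fun m hm => ?_⟩
  have h := hD m (le_of_max_le_right hm)
  rw [← hP m, CurveCohLib.euler_eq_sum (k := k) (N := 1) (fun i hi => by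
      obtain ⟨j, rfl⟩ := Nat.exists_eq_add_of_le' hi
      exact hv m (le_of_max_le_left hm) j)] at h
  simp only [Finset.range_one, Finset.sum_singleton, pow_zero, one_mul] at h
  rw [HilbPoly.finrank_HH_iso k (NakaiMo.pw_structure A m).some 0] at h
  exact_mod_cast h

/-- Sections of all large powers grow like the dimension. -/
theorem exists_lower_bound {A A' : X.Modules} (hA : CohB1.IsAmple A) (e : CohB1.tensorMod A' A ≅ Coh.structureModule X)
    {L : X.Modules} (hL : PicF.IsInvertible L) {d : ℕ} (hd : topologicalKrullDim X = d) {m₀ : ℕ} (hm₀ : 0 < m₀)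
    {τ : Γ(CohB1.tensorMod A' (CohB1.tensorPow L m₀), ⊤)} (hτ : τ ≠ 0) :
    ∃ D N : ℕ, ∀ n, N ≤ n → n ^ d ≤ D * Module.finrank k (Coh.HH X (CohB1.tensorPow L n) 0) := by
  classical
  haveI := CurveCohLib.isNoetherian_of_proper (k := k) (X := X)
  haveI : X.IsSeparated := AmpleVan.isSeparated_of_proper (A := k)
  have hA0 := hA.1
  have hA' := isInvertible_of_inverse hA0 e
  choose n₀ hn₀ using fun r : Fin m₀ => exists_section_twist hA (InvX.isInvertible_tensorPow hL (r : ℕ))
  let T := Finset.univ.sup n₀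
  obtain ⟨D, m₁, hD⟩ := exists_lower_ample (k := k) hA hd
  refine ⟨(2 * m₀) ^ d * D, m₀ * (2 * T + m₁ + 2), fun n hn => ?_⟩
  obtain ⟨q, r, hr, rfl⟩ : ∃ q r, r < m₀ ∧ n = m₀ * q + r :=
    ⟨n / m₀, n % m₀, Nat.mod_lt _ hm₀, (Nat.div_add_mod n m₀).symm⟩
  have hq : 2 * T + m₁ + 2 ≤ q + 0 := by
    by_contra hlt
    have : m₀ * (q + 1) ≤ m₀ * (2 * T + m₁ + 2) := Nat.mul_le_mul_left _ (by omega)
    rw [Nat.mul_add, Nat.mul_one] at this
    omega
  obtain ⟨σ, hσ⟩ := hn₀ ⟨r, hr⟩ T (Finset.le_sup (f := n₀) (Finset.mem_univ _))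
  have hB : PicF.IsInvertible (CohB1.tensorMod A' (CohB1.tensorPow L m₀)) :=
    InvX.isInvertible_tensorMod hA' (InvX.isInvertible_tensorPow hL m₀)
  obtain ⟨ρ, hρ⟩ := exists_pow_ne_zero hB τ hτ q
  -- `A^(q - T)` injects
  have h1 := finrank_le_tensor (k := k) (isFinLocFree_inv (InvX.isInvertible_tensorPow hA0 (q - T)))
    (isFinLocFree_inv (InvX.isInvertible_tensorMod (InvX.isInvertible_tensorPow hL r)
      (InvX.isInvertible_tensorPow hA0 T))) σ hσ
  have h2 := finrank_le_tensor (k := k)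
    (isFinLocFree_inv (InvX.isInvertible_tensorMod (InvX.isInvertible_tensorPow hA0 (q - T))
      (InvX.isInvertible_tensorMod (InvX.isInvertible_tensorPow hL r) (InvX.isInvertible_tensorPow hA0 T))))
    (isFinLocFree_inv (InvX.isInvertible_tensorPow hB q)) ρ hρ
  have hunit : PicF.cl A * PicF.cl A' = 1 := by
    rw [mul_comm, ← cl_tensor, H23.PicMul.one_def]; exact cl_eq_iff.2 ⟨e⟩
  have h3 : Module.finrank k (Coh.HH X (CohB1.tensorMod
        (CohB1.tensorMod (CohB1.tensorPow A (q - T)) (CohB1.tensorMod (CohB1.tensorPow L r) (CohB1.tensorPow A T)))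
        (CohB1.tensorPow (CohB1.tensorMod A' (CohB1.tensorPow L m₀)) q)) 0) =
      Module.finrank k (Coh.HH X (CohB1.tensorPow L (m₀ * q + r)) 0) := finrank_congr_cl (by
    simp only [cl_tensor, cl_tensorPow]
    obtain ⟨q', hq'⟩ : ∃ q', q = q' + T := ⟨q - T, by omega⟩
    subst hq'
    rw [Nat.add_sub_cancel, mul_pow, ← pow_mul (PicF.cl L), pow_add (PicF.cl L)]
    calc _ = (PicF.cl A * PicF.cl A') ^ (q' + T) * (PicF.cl L ^ (m₀ * (q' + T)) * PicF.cl L ^ r) := by
          rw [mul_pow, pow_add (PicF.cl A)]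
          simp only [mul_comm, mul_assoc, mul_left_comm]
      _ = _ := by rw [hunit, one_pow, one_mul])
  rw [h3] at h2
  calc (m₀ * q + r) ^ d ≤ (2 * m₀ * (q - T)) ^ d := Nat.pow_le_pow_left (by
        have h5 : q + 1 ≤ 2 * (q - T) := by omega
        have h6 := Nat.mul_le_mul_left m₀ h5
        rw [Nat.mul_add, Nat.mul_one] at h6
        rw [mul_comm 2 m₀, mul_assoc]
        omega) d
    _ = (2 * m₀) ^ d * (q - T) ^ d := mul_pow _ _ _
    _ ≤ (2 * m₀) ^ d * (D * Module.finrank k (Coh.HH X (CohB1.tensorPow A (q - T)) 0)) :=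
        Nat.mul_le_mul_left _ (hD _ (by omega))
    _ ≤ _ := by
        rw [mul_assoc]
        exact Nat.mul_le_mul_left _ (Nat.mul_le_mul_left _ (h1.trans h2))

end Groth.Agent.VolLib
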