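import Groth.Agent.VolLib.Basic
import Groth.Agent.NakaiMo.Vanish
import Groth.Agent.HilbPoly.Poly
import Groth.Agent.NormX.NormalAmple
import Groth.Agent.AmpleX.Generated
import Groth.Agent.AmpleX.Pow
import Groth.Agent.AmpleVan.Uniform
import Groth.Agent.H23.PicInv

/-!
# Sections of powers grow at most like the dimension
-/

set_option autoImplicit false
set_option linter.style.haveILetI false
set_option backward.isDefEq.respectTransparency false
set_option backward.isDefEq.respectTransparency.types false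
set_option maxHeartbeats 800000

universe u
open CategoryTheory CategoryTheory.Limits AlgebraicGeometry TopologicalSpace
open Groth.Agent.H23.PicMul
open Groth.Agent.PnCoh.Finite (mapLin)
namespace Groth.Agent.VolLib

open Groth.Agent.HilbPoly (pw)

variable {k : Type u} [Field k] {X : Scheme.{u}} [X.Over (Spec (CommRingCat.of k))]
  [IsProper (X ↘ Spec (CommRingCat.of k))]

theorem finrank_le_of_mono {M N : X.Modules} (i : M ⟶ N) [Mono i] (hN : Coh.IsCoh N) :
    Module.finrank k (Coh.HH X M 0) ≤ Module.finrank k (Coh.HH X N 0) := by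
  haveI := CurveCohLib.isNoetherian_of_proper (k := k) (X := X)
  haveI := CurveCohLib.finite_HH (k := k) hN 0
  have hS : (ShortComplex.mk i (cokernel.π i) (cokernel.condition i)).ShortExact :=
    .mk' (ShortComplex.exact_of_g_is_cokernel _ (cokernelIsCokernel i)) ‹_› inferInstance
  exact LinearMap.finrank_le_finrank_of_injective (CurveCohLib.mapLin_f_zero_injective (A := k) hS)

theorem finrank_le_add {S : ShortComplex X.Modules} (hS : S.ShortExact) (h₂ : Coh.IsCoh S.X₂)
    (h₃ : Coh.IsCoh S.X₃) :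
    Module.finrank k (Coh.HH X S.X₂ 0) ≤ Module.finrank k (Coh.HH X S.X₁ 0) + Module.finrank k (Coh.HH X S.X₃ 0) := by
  haveI := CurveCohLib.isNoetherian_of_proper (k := k) (X := X)
  haveI := CurveCohLib.finite_HH (k := k) h₂ 0
  haveI := CurveCohLib.finite_HH (k := k) h₃ 0
  haveI : Module.Finite k (Coh.HH X S.X₁ 0) :=
    Module.Finite.of_injective _ (CurveCohLib.mapLin_f_zero_injective (A := k) hS)
  have h := (mapLin k S.g 0).finrank_range_add_finrank_ker
  have h1 := Submodule.finrank_le (LinearMap.range (mapLin k S.g 0))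
  have h2 : Module.finrank k (LinearMap.ker (mapLin k S.g 0)) ≤ Module.finrank k (Coh.HH X S.X₁ 0) := by
    rw [CurveCohLib.ker_mapLin_g k hS 0]
    exact LinearMap.finrank_range_le _
  omega

/-- A polynomial of degree at most `d` is `O(m ^ d)`. -/
theorem exists_bound_poly (P : Polynomial ℚ) {d : ℕ} (hP : P.natDegree ≤ d) :
    ∃ C : ℕ, ∀ m : ℕ, 1 ≤ m → P.eval (m : ℚ) ≤ (C : ℚ) * (m : ℚ) ^ d := by
  obtain ⟨C, hC⟩ := exists_nat_ge (∑ i ∈ Finset.range (d + 1), |P.coeff i|)
  refine ⟨C, fun m hm => ?_⟩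
  have hm' : (1 : ℚ) ≤ m := by exact_mod_cast hm
  rw [Polynomial.eval_eq_sum_range' (n := d + 1) (by omega)]
  refine le_trans ?_ (mul_le_mul_of_nonneg_right hC (by positivity))
  rw [Finset.sum_mul]
  refine Finset.sum_le_sum fun i hi => ?_
  calc P.coeff i * (m : ℚ) ^ i ≤ |P.coeff i| * (m : ℚ) ^ i :=
        mul_le_mul_of_nonneg_right (le_abs_self _) (by positivity)
    _ ≤ |P.coeff i| * (m : ℚ) ^ d :=
        mul_le_mul_of_nonneg_left (pow_le_pow_right₀ hm' (by simp at hi; omega)) (abs_nonneg _)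

omit [X.Over (Spec (CommRingCat.of k))] [IsProper (X ↘ Spec (CommRingCat.of k))] in
/-- Twists by a high power of an ample module of any invertible module have nonzero sections. -/
theorem exists_section_twist [IsIntegral X] [IsNoetherian X] [X.IsSeparated] {A : X.Modules} (hA : CohB1.IsAmple A) {F : X.Modules}
    (hF : PicF.IsInvertible F) :
    ∃ n₀ : ℕ, ∀ n, n₀ ≤ n → ∃ τ : Γ(CohB1.tensorMod F (CohB1.tensorPow A n), ⊤), τ ≠ 0 := by
  have hFc := CurveDeg.isCoh_of_isInvertible hF
  obtain ⟨n₀, h⟩ := AmpleX.eventually_generated hA hFc.1 hFc.2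
  refine ⟨n₀, fun n hn => ?_⟩
  obtain ⟨G, e, ι, s, hs⟩ := h n hn
  obtain ⟨hA', -, -⟩ := AmpleX.isAmple_iff.1 hA
  by_contra hne
  simp only [not_exists, not_not] at hne
  have hz : ∀ i, s i = 0 := fun i =>
    (ConcreteCategory.bijective_of_isIso (e.hom.app ⊤)).1 ((hne _).trans (map_zero _).symm)
  have hinv : PicF.IsInvertible (CohB1.tensorMod F (CohB1.tensorPow A n)) :=
    InvX.isInvertible_tensorMod hF (InvX.isInvertible_tensorPow hA' n)
  refine CurveEnd.not_isZero (CohB1.tensorMod F (CohB1.tensorPow A n)) 1 one_pos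
    (InvEnd.isFinLocFreeOfRank_one hinv) ((IsZero.iff_id_eq_zero _).2 ?_)
  rw [← cancel_epi e.hom, comp_zero, Category.comp_id]
  refine InvX.hom_ext_of_generated hs fun i => ?_
  rw [hz i, map_zero, map_zero]

/-- Sections of powers of an invertible module on an integral projective variety. -/
theorem exists_bound_pow [IsIntegral X] {A : X.Modules} (hA : CohB1.IsAmple A) {L : X.Modules}
    (hL : PicF.IsInvertible L) {d : ℕ} (hd : topologicalKrullDim X ≤ (d : WithBot ℕ∞)) :
    ∃ C m₀ : ℕ, ∀ m, m₀ ≤ m → Module.finrank k (Coh.HH X (CohB1.tensorPow L m) 0) ≤ C * m ^ d := by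
  haveI := CurveCohLib.isNoetherian_of_proper (k := k) (X := X)
  haveI : X.IsSeparated := AmpleVan.isSeparated_of_proper (A := k)
  obtain ⟨hA', -, -⟩ := AmpleX.isAmple_iff.1 hA
  obtain ⟨L', hL', ⟨hLL'⟩⟩ := H23.PicInv.exists_inverse hL
  obtain ⟨n₀, hn₀⟩ := exists_section_twist hA hL'
  obtain ⟨τ, hτ⟩ := hn₀ (n₀ + 1) (Nat.le_succ _)
  let N := CohB1.tensorPow A (n₀ + 1)
  have hN : CohB1.IsAmple N := AmpleX.isAmple_tensorPow hA (Nat.succ_pos _)
  have hN' : PicF.IsInvertible N := InvX.isInvertible_tensorPow hA' _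
  let E := CohB1.tensorMod L' N
  have hE : PicF.IsInvertible E := InvX.isInvertible_tensorMod hL' hN'
  let O := Coh.structureModule X
  have hO : Coh.IsCoh O := QCoh.isCoh_structureModule'
  obtain ⟨v, hv⟩ := AmpleVan.exists_vanishing (A := k) hN hO
  obtain ⟨P, hP, hPd, -⟩ := HilbPoly.exists_poly (HilbPoly.additive_euler k) hN' hO
    ((Topology.IsInducing.subtypeVal.topologicalKrullDim_le).trans hd)
  obtain ⟨C, hC⟩ := exists_bound_poly P hPd
  refine ⟨C, max v 1, fun m hm => ?_⟩
  obtain ⟨σ, hσ⟩ := exists_pow_ne_zero hE τ hτ m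
  refine (finrank_le_tensor (k := k) (isFinLocFree_inv (InvX.isInvertible_tensorPow hL m))
    (isFinLocFree_inv (InvX.isInvertible_tensorPow hE m)) σ hσ).trans ?_
  rw [finrank_congr_cl (k := k) (F := pw N O m) (show PicF.cl _ = PicF.cl _ from by
    rw [cl_tensor, cl_tensorPow, cl_tensorPow, cl_tensor, cl_tensor, cl_tensorPow N, ← mul_pow, ← mul_assoc,
      ← cl_tensor L L', cl_eq_iff.2 ⟨hLL'⟩, show PicF.cl (Coh.structureModule X) = 1 from rfl, one_mul, one_mul])]
  have he : Curv2.euler k X (pw N O m) = (Module.finrank k (Coh.HH X (pw N O m) 0) : ℤ) := by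
    rw [CurveCohLib.euler_eq_sum (k := k) (N := 1) fun i hi => by
      obtain ⟨j, rfl⟩ := Nat.exists_eq_add_of_le' hi
      exact hv m (le_of_max_le_left hm) j]
    simp
  have h2 := hC m (le_of_max_le_right hm)
  rw [← hP m, he] at h2
  exact_mod_cast h2

/-- Sections of twists of a coherent module, bounded by the dimension of its support. -/
theorem exists_bound_coh_support {A : X.Modules} (hA : CohB1.IsAmple A) {L : X.Modules} (hL : PicF.IsInvertible L)
    {d : ℕ} {F : X.Modules} (hF : Coh.IsCoh F)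
    (hd : topologicalKrullDim ↥(CohB1.support F) ≤ (d : WithBot ℕ∞)) :
    ∃ C m₀ : ℕ, ∀ m, m₀ ≤ m → Module.finrank k (Coh.HH X (pw L F m) 0) ≤ C * m ^ d := by
  haveI := CurveCohLib.isNoetherian_of_proper (k := k) (X := X)
  haveI : X.IsSeparated := AmpleVan.isSeparated_of_proper (A := k)
  induction QCoh.filt_of_isCoh hF with
  | @zero N hN =>
    refine ⟨0, 0, fun m _ => ?_⟩
    have hz : IsZero (pw L N m) := by
      haveI := AmpleVan.isEquivalence_tw (InvX.isInvertible_tensorPow hL m)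
      haveI : (AmpleVan.tw (CohB1.tensorPow L m)).Additive := Functor.additive_of_preserves_binary_products _
      exact (AmpleVan.tw (CohB1.tensorPow L m)).map_isZero hN
    haveI : Subsingleton (Coh.HH X (pw L N m) 0) := Euler.subsingleton_HH_of_isZero hz 0
    rw [Module.finrank_zero_of_subsingleton]
    exact Nat.zero_le _
  | @step N M φ _ _ hNc hMc hex ih =>
    obtain ⟨Z, i, hi, hZ, I, ι, hι, hI, hI0, ⟨e⟩⟩ := hex
    haveI := hi; haveI := hZ; haveI := hι
    obtain ⟨C₁, m₁, h₁⟩ := ih hNc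
      ((H23.TopDim.dim_le_dim_of_subset (QCoh.mem_support_of_mono hNc.1 hMc.1 φ)).trans hd)
    letI : Z.Over (Spec (CommRingCat.of k)) := ⟨i ≫ (X ↘ Spec (CommRingCat.of k))⟩
    haveI : IsProper (Z ↘ Spec (CommRingCat.of k)) :=
      show IsProper (i ≫ (X ↘ Spec (CommRingCat.of k))) from inferInstance
    haveI := CurveCohLib.isNoetherian_of_proper (k := k) (X := Z)
    obtain ⟨hA', -, -⟩ := AmpleX.isAmple_iff.1 hA
    let L₁ := (Scheme.Modules.pullback i).obj L
    have hL₁ : PicF.IsInvertible L₁ := PicClLib.isInvertible_pullback i hL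
    have hc' := QCoh.isCoh_cokernel hNc.1 hMc φ
    have hr : Set.range i ⊆ CohB1.support M := by
      rw [QCoh.range_eq_closure i, ← QCoh.support_push_ideal i ι hI hI0, ← QCoh.support_iso e hc'.1]
      exact QCoh.support_of_epi hMc.1 hc'.1 (cokernel.π φ)
    obtain ⟨C₂, m₂, h₂⟩ := exists_bound_pow (k := k) (NormX.isAmple_pullback_affine i hA) hL₁ (d := d) (by
      let g : Z → ↥(CohB1.support M) := fun z => ⟨i z, hr ⟨z, rfl⟩⟩
      exact ((Topology.IsInducing.of_comp (g := Subtype.val) (f := g) (i.continuous.subtype_mk _)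
        continuous_subtype_val i.isClosedEmbedding.isInducing).topologicalKrullDim_le).trans hd)
    refine ⟨C₁ + C₂, max m₁ m₂, fun m hm => ?_⟩
    have hc := QCoh.isCoh_cokernel hNc.1 hMc φ
    have hS : (ShortComplex.mk φ (cokernel.π φ) (cokernel.condition φ)).ShortExact :=
      .mk' (ShortComplex.exact_of_g_is_cokernel _ (cokernelIsCokernel φ)) ‹_› inferInstance
    have hS' := NakaiMo.shortExact_pw hL hS m
    refine (finrank_le_add (k := k) hS' (HilbPoly.isCoh_pw hL hMc m) (HilbPoly.isCoh_pw hL hc m)).trans ?_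
    rw [add_mul]
    refine add_le_add (h₁ m (le_of_max_le_left hm)) ?_
    refine le_trans ?_ (h₂ m (le_of_max_le_right hm))
    show Module.finrank k (Coh.HH X (pw L (cokernel φ) m) 0) ≤ _
    obtain ⟨a⟩ := IntNum.pullback_tensorPow i L m
    obtain ⟨p⟩ := IntNum.push_tensor i I (CohB1.tensorPow L m)
    let e' : pw L (cokernel φ) m ≅ (Coh.push i).obj (pw L₁ I m) :=
      (AmpleVan.tw (CohB1.tensorPow L m)).mapIso e ≪≫ p.symm ≪≫
        (Coh.push i).mapIso (PicGrp.tensorModIso (Iso.refl I) a)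
    have hIc : Coh.IsCoh I := QCoh.isCoh_of_mono ι QCoh.isCoh_structureModule' hI
    obtain ⟨l⟩ := QCoh.HH_push_linear i (Coh.toGlobal (X ↘ Spec (CommRingCat.of k)))
      (Coh.toGlobal (Z ↘ Spec (CommRingCat.of k))) (fun b => rfl) (HilbPoly.isCoh_pw hL₁ hIc m).1 0
    rw [HilbPoly.finrank_HH_iso k e', ← l.finrank_eq]
    haveI := AmpleVan.isEquivalence_tw (InvX.isInvertible_tensorPow hL₁ m)
    haveI : Mono ((AmpleVan.tw (CohB1.tensorPow L₁ m)).map ι) := inferInstance
    refine (finrank_le_of_mono (k := k) ((AmpleVan.tw (CohB1.tensorPow L₁ m)).map ι)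
      (HilbPoly.isCoh_pw hL₁ QCoh.isCoh_structureModule' m)).trans_eq ?_
    exact HilbPoly.finrank_HH_iso k (NakaiMo.pw_structure L₁ m).some 0

/-- Sections of twists of a coherent module. -/
theorem exists_bound_coh {A : X.Modules} (hA : CohB1.IsAmple A) {L : X.Modules} (hL : PicF.IsInvertible L)
    {d : ℕ} (hd : topologicalKrullDim X ≤ (d : WithBot ℕ∞)) {F : X.Modules} (hF : Coh.IsCoh F) :
    ∃ C m₀ : ℕ, ∀ m, m₀ ≤ m → Module.finrank k (Coh.HH X (pw L F m) 0) ≤ C * m ^ d :=
  exists_bound_coh_support hA hL hF ((Topology.IsInducing.subtypeVal.topologicalKrullDim_le).trans hd)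

end Groth.Agent.VolLib
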