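import Groth.Agent.VolLib.Hhat
import Groth.Agent.Snapper.DimVanish

/-!
# Cohomology of twists above the dimension of the base locus
-/

noncomputable section

set_option autoImplicit false
set_option linter.style.haveILetI false
set_option backward.isDefEq.respectTransparency false
set_option backward.isDefEq.respectTransparency.types false
set_option maxHeartbeats 800000

universe u
open CategoryTheory CategoryTheory.Limits AlgebraicGeometry TopologicalSpace
open Groth.Agent.H23.PicMul

namespace Groth.Agent.VolLib

open Groth.Agent.HilbPoly (pw)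

variable {X : Scheme.{u}} {N : X.Modules}

/-- A section is an isomorphism on its generating locus. -/
theorem isoOn_genLocus (s : Coh.structureModule X ⟶ N) : Snapper.IsoOn (CohB1.genLocus N s) s := fun x hx => by
  obtain ⟨U, hxU, hU⟩ := InvX.mem_genLocus hx
  let F := DerSch.stalkFunctor X x
  let one' : F.obj (Coh.structureModule X) :=
    (Coh.structureModule X).presheaf.germ U x hxU (show Γ(Coh.structureModule X, U) from (1 : Γ(X, U)))
  let e : Γ(N, U) := AModX.res N (le_top : U ≤ ⊤) (InvX.one s)
  have h1 : F.map s one' = N.presheaf.germ U x hxU e := by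
    refine (TopCat.Presheaf.stalkFunctor_map_germ_apply U x hxU ((Scheme.Modules.toPresheaf X).map s) _).trans ?_
    exact congrArg (N.presheaf.germ U x hxU) ((InvX.app_eq_smul s (1 : Γ(X, U))).trans (one_smul _ _))
  have hval : ∀ c : X.presheaf.stalk x, F.map s (c • one') = c • N.presheaf.germ U x hxU e := fun c => by
    rw [map_smul (F.map s).hom]
    exact congrArg (c • ·) h1
  refine (ConcreteCategory.isIso_iff_bijective _).2 ⟨fun p q hpq => ?_, fun q => ?_⟩
  · obtain ⟨c, rfl⟩ := ((InvX.isFrame_one (X := X) U).germ_bijective (x := x) hxU).2 p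
    obtain ⟨d, rfl⟩ := ((InvX.isFrame_one (X := X) U).germ_bijective (x := x) hxU).2 q
    rw [(hU.germ_bijective hxU).1 (((hval c).symm.trans hpq).trans (hval d))]
  · obtain ⟨c, rfl⟩ := (hU.germ_bijective hxU).2 q
    exact ⟨c • one', hval c⟩

theorem Bd.of_step {d a : ℕ} (ha : 0 < a) {f e : ℕ → ℕ} (H : Bd d e) (hle : ∀ m, f (m + a) ≤ f m + e m) :
    Bd (d + 1) f := by
  obtain ⟨C, hC⟩ := H
  have hr : ∀ r : Fin a, Bd (d + 1) (fun q => f (a * q + r)) := fun r => by
    refine Bd.of_diff (e := fun q => e (a * q + r)) ⟨C * (2 * a) ^ d, fun q => ?_⟩ fun q => ?_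
    · have h1 : q + 1 ≤ a * q + r + 1 := by
        have := Nat.le_mul_of_pos_left q ha
        omega
      have h2 : a * q + r + 1 ≤ 2 * a * (q + 1) := by
        have h3 := r.2
        rw [mul_assoc, Nat.mul_succ a q]
        omega
      calc e (a * q + r) * (q + 1) ≤ e (a * q + r) * (a * q + r + 1) := Nat.mul_le_mul_left _ h1
        _ ≤ C * (a * q + r + 1) ^ d := hC _
        _ ≤ C * (2 * a * (q + 1)) ^ d := Nat.mul_le_mul_left _ (Nat.pow_le_pow_left h2 _)
        _ = C * (2 * a) ^ d * (q + 1) ^ d := by rw [mul_pow (2 * a), mul_assoc]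
    · have h := hle (a * q + r)
      rwa [show a * q + r + a = a * (q + 1) + r by ring] at h
  choose D hD using hr
  refine ⟨a * ∑ r, D r, fun m => ?_⟩
  have hm := Nat.div_add_mod m a
  have hr' := Nat.mod_lt m ha
  have h1 := hD ⟨m % a, hr'⟩ (m / a)
  simp only [hm] at h1
  calc f m * (m + 1) ≤ f m * (a * (m / a + 1)) := Nat.mul_le_mul_left _ (by rw [Nat.mul_add, mul_one]; omega)
    _ = a * (f m * (m / a + 1)) := by ring
    _ ≤ a * (D ⟨m % a, hr'⟩ * (m / a + 1) ^ (d + 1)) := Nat.mul_le_mul_left _ h1
    _ ≤ a * ((∑ r, D r) * (m + 1) ^ (d + 1)) := Nat.mul_le_mul_left _ (Nat.mul_le_mul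
        (Finset.single_le_sum (f := D) (fun _ _ => Nat.zero_le _) (Finset.mem_univ _))
        (Nat.pow_le_pow_left (Nat.add_le_add_right (Nat.div_le_self m a) 1) _))
    _ = _ := by ring

variable (k : Type u) [Field k] [X.Over (Spec (CommRingCat.of k))]
  [IsProper (X ↘ Spec (CommRingCat.of k))] {L : X.Modules}

theorem isClosed_baseLocus (M : X.Modules) : IsClosed (W4c5asymptcohfn.baseLocus X M) := by
  have : W4c5asymptcohfn.baseLocus X M = ⋂ s : Coh.structureModule X ⟶ M, (CohB1.genLocus M s : Set X)ᶜ := by
    ext x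
    simp [W4c5asymptcohfn.baseLocus]
  rw [this]
  exact isClosed_iInter fun s => (CohB1.genLocus M s).2.isClosed_compl

theorem hh_zero_of_dim_lt (hL : PicF.IsInvertible L) {j : ℕ} {C : Closeds X}
    (hC : topologicalKrullDim ↥(C : Set X) < (j : WithBot ℕ∞)) {M : X.Modules} (hM : Coh.IsCoh M)
    (hMC : CohB1.support M ⊆ C) {i : ℕ} (hi : j ≤ i) (d : ℕ) : Bd d (hseq k L M i) := by
  haveI := CurveCohLib.isNoetherian_of_proper (k := k) (X := X)
  haveI : X.IsSeparated := AmpleVan.isSeparated_of_proper (A := k)
  refine (Bd.zero d).le fun m => le_of_eq ?_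
  haveI := Snapper.subsingleton_HH_of_dim_lt (X := X) j C hC (pw L M m) (HilbPoly.isCoh_pw hL hM m).1
    ((HilbPoly.support_tensor_subset _ _).trans hMC) i hi
  exact Module.finrank_zero_of_subsingleton

/-- Above the dimension of the stable base locus one power of the growth is lost. -/
theorem bd_above_baseLocus (hL : PicF.IsInvertible L) {d₀ : ℕ}
    (hd₀ : topologicalKrullDim ↥(W4c5asymptcohfn.stableBaseLocus X L) ≤ (d₀ : WithBot ℕ∞)) (t : ℕ) :
    ∀ (C : Closeds X), topologicalKrullDim ↥(C : Set X) < ((t + 1 : ℕ) : WithBot ℕ∞) →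
      ∀ M : X.Modules, Coh.IsCoh M → CohB1.support M ⊆ C → ∀ i, d₀ < i → Bd t (hseq k L M i) := by
  haveI := CurveCohLib.isNoetherian_of_proper (k := k) (X := X)
  haveI : X.IsSeparated := AmpleVan.isSeparated_of_proper (A := k)
  induction t with
  | zero =>
    intro C hC M hM hMC i hi
    exact hh_zero_of_dim_lt k hL (j := 1) hC hM hMC (by omega) 0
  | succ t IHt =>
    intro C
    induction C using WellFoundedLT.induction with
    | ind C IH =>
      intro hC M hM hMC
      rcases Set.eq_empty_or_nonempty (C : Set X) with h0 | hne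
      · exact fun i _ => bd_of_support_empty hL hM (Set.subset_empty_iff.1 (by rw [h0] at hMC; exact hMC)) i
      by_cases hirr : IsIrreducible (C : Set X)
      · obtain ⟨η, hη⟩ := QuasiSober.sober hirr C.isClosed
        have hηC : η ∈ (C : Set X) := hη.mem
        by_cases hZ : η ∈ W4c5asymptcohfn.stableBaseLocus X L
        · intro i hi
          have hZc : IsClosed (W4c5asymptcohfn.stableBaseLocus X L) :=
            isClosed_iInter fun m => isClosed_baseLocus _
          have hsub : (C : Set X) ⊆ W4c5asymptcohfn.stableBaseLocus X L := by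
            rw [← hη.def]
            exact closure_minimal (Set.singleton_subset_iff.2 hZ) hZc
          exact hh_zero_of_dim_lt k hL (j := d₀ + 1) (lt_of_le_of_lt ((H23.TopDim.dim_le_dim_of_subset hsub).trans hd₀)
            (by exact_mod_cast Nat.lt_succ_self d₀)) hM hMC hi _
        obtain ⟨a, s, hηU⟩ : ∃ (a : ℕ) (s : Coh.structureModule X ⟶ CohB1.tensorPow L (a + 1)),
            η ∈ CohB1.genLocus _ s := by
          by_contra hno
          push Not at hno
          exact hZ (Set.mem_iInter.2 fun a => fun s => hno a s)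
        set U := CohB1.genLocus _ s
        have hlt : topologicalKrullDim ↥((C : Set X) \ U) < ((t + 1 : ℕ) : WithBot ℕ∞) := by
          haveI : IrreducibleSpace ↥(C : Set X) := isIrreducible_iff_irreducibleSpace.1 hirr
          let Z : Set ↥(C : Set X) := {y | (y : X) ∈ (U : Set X)ᶜ}
          have hlt := H23.TopDim.dim_lt_of_ssubset (X := ↥(C : Set X)) (fun h => by rw [h] at hC; exact not_top_lt hC)
            (Y := Z) (U.2.isClosed_compl.preimage continuous_subtype_val)
            (fun h => (h.ge (Set.mem_univ ⟨η, hηC⟩) : η ∈ (U : Set X)ᶜ) hηU)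
          have hle : topologicalKrullDim ↥((C : Set X) \ U) ≤ topologicalKrullDim ↥Z := by
            let g : ↥((C : Set X) \ U) → ↥Z := fun p => ⟨⟨p.1, p.2.1⟩, p.2.2⟩
            have hcomp : Topology.IsInducing ((Subtype.val ∘ Subtype.val : ↥Z → X) ∘ g) :=
              show Topology.IsInducing (Subtype.val : ↥((C : Set X) \ U) → X) from Topology.IsInducing.subtypeVal
            exact ((Topology.IsInducing.subtypeVal.comp Topology.IsInducing.subtypeVal).of_comp_iff.1 hcomp).topologicalKrullDim_le
          refine lt_of_le_of_lt hle ?_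
          revert hlt hC
          generalize topologicalKrullDim ↥Z = a'
          generalize topologicalKrullDim ↥(C : Set X) = b
          intro hC hlt
          cases a' with
          | bot => exact WithBot.bot_lt_coe _
          | coe a' =>
            cases b with
            | bot => exact absurd hlt not_lt_bot
            | coe b =>
              have h1 : a' < b := WithBot.coe_lt_coe.1 hlt
              have h2 : b < ((t + 1 + 1 : ℕ) : ℕ∞) := WithBot.coe_lt_coe.1 hC
              refine WithBot.coe_lt_coe.2 (lt_of_lt_of_le h1 ?_)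
              exact ENat.lt_add_one_iff (ENat.natCast_ne_top (t + 1)) |>.1 (by exact_mod_cast h2)
        intro i hi
        let La := CohB1.tensorPow L (a + 1)
        have hLa : PicF.IsInvertible La := InvX.isInvertible_tensorPow hL _
        let A := (AmpleVan.tw M).obj (Coh.structureModule X)
        let B := (AmpleVan.tw M).obj La
        let φ : A ⟶ B := (AmpleVan.tw M).map s
        have hA : Coh.IsCoh A := AmpleVan.isCoh_tensor QCoh.isCoh_structureModule' hM
        have hB : Coh.IsCoh B := AmpleVan.isCoh_tensor (AmpleVan.isCoh_invertible hLa) hM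
        obtain ⟨hk, hc⟩ := Snapper.support_subset_compl ((isoOn_genLocus s).tensor M)
        obtain ⟨hk', hc'⟩ := Snapper.support_sub_of_map hA hB φ
        have hsA : CohB1.support A ⊆ C :=
          (CurveTensor.support_tensor_subset (E := Coh.structureModule X) (F := M)).trans hMC
        have hsB : CohB1.support B ⊆ C := (CurveTensor.support_tensor_subset (E := La) (F := M)).trans hMC
        have hKc := QCoh.isCoh_kernel hA hB φ
        have hQc := QCoh.isCoh_cokernel hA.1 hB φ
        have hI : Coh.IsCoh (Abelian.image φ) :=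
          QCoh.isCoh_of_epi (Abelian.factorThruImage φ) hA (QCoh.isQCoh_kernel hB.1 hQc.1 _)
        have hKb := IHt ⟨_, C.isClosed.sdiff U.2⟩ hlt _ hKc (fun x hx => ⟨hsA (hk' hx), hk hx⟩)
        have hQb := IHt ⟨_, C.isClosed.sdiff U.2⟩ hlt _ hQc (fun x hx => ⟨hsB (hc' hx), hc hx⟩)
        refine Bd.of_step (a := a + 1) (Nat.succ_pos a) ((hKb (i + 1) (by omega)).add (hQb i hi)) fun m => ?_
        have e1 : hseq k L A i m = hseq k L M i m := hseq_congr k (CurveTensor.structureTensorIso M) i m
        have e2 : hseq k L B i m = hseq k L M i (m + (a + 1)) := by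
          obtain ⟨j⟩ : Nonempty (CohB1.tensorMod La (CohB1.tensorPow L m) ≅ CohB1.tensorPow L (m + (a + 1))) :=
            cl_eq_iff.1 (by simp only [La, cl_tensor, cl_tensorPow]; rw [mul_comm, ← pow_add])
          exact (hseq_congr k (CurveTensor.commIso La M : B ≅ CohB1.tensorMod M La) i m).trans
            (HilbPoly.finrank_HH_iso k (AmpleVan.assocT M La (CohB1.tensorPow L m) ≪≫
              PicGrp.tensorModIso (Iso.refl M) j) i)
        have h1 := hseq_right_le (k := k) (S := ShortComplex.mk (kernel.ι φ) (Abelian.factorThruImage φ)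
          ((cancel_mono (Abelian.image.ι φ)).1
            (by rw [Category.assoc, Abelian.image.fac, kernel.condition, zero_comp]))) hL
          { exact := ShortComplex.exact_of_f_is_kernel _ (KernelFork.IsLimit.ofι' _ _ fun {T} t ht =>
              ⟨kernel.lift φ t (by rw [← Abelian.image.fac φ, reassoc_of% ht, zero_comp]), kernel.lift_ι _ _ _⟩)
            mono_f := inferInstance
            epi_g := inferInstance } hKc hA hI i m
        have h2 := hseq_mid_le (k := k) (S := ShortComplex.mk (Abelian.image.ι φ) (cokernel.π φ) (kernel.condition _)) hL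
          { exact := ShortComplex.exact_of_f_is_kernel _ (kernelIsKernel (cokernel.π φ))
            mono_f := inferInstance
            epi_g := inferInstance } hI hB hQc i m
        simp only [Pi.add_apply] at h1 h2 ⊢
        omega
      · obtain ⟨A, B, hA, hB, hsub, hnA, hnB⟩ : ∃ A B : Set X, IsClosed A ∧ IsClosed B ∧
            (C : Set X) ⊆ A ∪ B ∧ ¬ (C : Set X) ⊆ A ∧ ¬ (C : Set X) ⊆ B := by
          by_contra! hno
          exact hirr ⟨hne, isPreirreducible_iff_isClosed_union_isClosed.2 fun A B hA hB hs =>
            or_iff_not_imp_left.2 fun hA' => hno A B hA hB hs hA'⟩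
        let C₁ : Closeds X := ⟨(C : Set X) ∩ A, C.isClosed.inter hA⟩
        let C₂ : Closeds X := ⟨(C : Set X) ∩ B, C.isClosed.inter hB⟩
        have h1 : C₁ < C := lt_of_le_of_ne (Set.inter_subset_left : (C : Set X) ∩ A ⊆ C)
          fun h => hnA (Set.inter_eq_left.1 (congrArg (SetLike.coe) h))
        have h2 : C₂ < C := lt_of_le_of_ne (Set.inter_subset_left : (C : Set X) ∩ B ⊆ C)
          fun h => hnB (Set.inter_eq_left.1 (congrArg (SetLike.coe) h))
        have hdim : ∀ C' : Closeds X, C' ≤ C → topologicalKrullDim ↥(C' : Set X) < ((t + 1 + 1 : ℕ) : WithBot ℕ∞) :=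
          fun C' h => lt_of_le_of_lt (H23.TopDim.dim_le_dim_of_subset (show (C' : Set X) ⊆ C from h)) hC
        let W : X.Opens := ⟨(C₂ : Set X)ᶜ, C₂.isClosed.isOpen_compl⟩
        let φ := Snapper.resMap W M
        have hQ : Coh.IsQCoh ((Scheme.Modules.pushforward W.ι).obj (M.restrict W.ι)) :=
          QCoh.isQCoh_pushforward W.ι (QCoh.isQCoh_restrict W.ι hM.1)
        have hco := QCoh.isQCoh_cokernel hM.1 hQ φ
        have hI : Coh.IsCoh (Abelian.image φ) :=
          QCoh.isCoh_of_epi (Abelian.factorThruImage φ) hM (QCoh.isQCoh_kernel hQ hco _)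
        have hK : Coh.IsCoh (kernel φ) := QCoh.isCoh_of_mono (kernel.ι φ) hM (QCoh.isQCoh_kernel hM.1 hQ φ)
        have hKb := IH C₂ h2 (hdim C₂ h2.le) _ hK fun y hy =>
          not_not.1 fun hy2 => (Snapper.support_subset_compl (Snapper.isoOn_resMap W M)).1 hy (show y ∈ W from hy2)
        have hIb := IH C₁ h1 (hdim C₁ h1.le) _ hI fun y hy => by
          by_contra hy1
          have hP := QCoh.mem_support_of_mono hI.1 hQ (Abelian.image.ι φ) hy
          refine Snapper.notMem_support_push (W := ⟨(C₁ : Set X)ᶜ, C₁.isClosed.isOpen_compl⟩) hy1 ?_ hP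
          refine Set.disjoint_left.2 fun z hz hzM => ?_
          exact (hsub (hMC hzM)).elim (fun h => hz.1 ⟨hMC hzM, h⟩) (fun h => hz.2 ⟨hMC hzM, h⟩)
        intro i hi
        exact ((hKb i hi).add (hIb i hi)).le fun m => hseq_mid_le (k := k) (S := ShortComplex.mk (kernel.ι φ)
          (Abelian.factorThruImage φ) ((cancel_mono (Abelian.image.ι φ)).1
            (by rw [Category.assoc, Abelian.image.fac, kernel.condition, zero_comp]))) hL
          { exact := ShortComplex.exact_of_f_is_kernel _ (KernelFork.IsLimit.ofι' _ _ fun {T} t ht =>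
              ⟨kernel.lift φ t (by rw [← Abelian.image.fac φ, reassoc_of% ht, zero_comp]), kernel.lift_ι _ _ _⟩)
            mono_f := inferInstance
            epi_g := inferInstance } hK hM hI i m

end Groth.Agent.VolLib
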