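import Groth.Agent.VolLib.NumTriv
import Groth.Agent.VolLib.BaseLocus
import Groth.Agent.FlatTwist.Frame
import Groth.Agent.CohGabLib.SerreSupp

/-!
# Tools for uniform vanishing of numerically trivial twists
-/

noncomputable section

set_option autoImplicit false
set_option linter.style.haveILetI false
set_option linter.unusedSectionVars false
set_option backward.isDefEq.respectTransparency false
set_option backward.isDefEq.respectTransparency.types false
set_option maxHeartbeats 800000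

universe u
open CategoryTheory CategoryTheory.Limits AlgebraicGeometry TopologicalSpace
open Groth.Agent.H23.PicMul
open Groth.Agent.PnCoh.Finite (mapLin)

namespace Groth.Agent.VolLib

attribute [local instance] Groth.Agent.QCoh.hasFiniteBiproducts

section NT

variable (k : Type u) [Field k] {X : Scheme.{u}} [X.Over (Spec (CommRingCat.of k))]
  [IsProper (X ↘ Spec (CommRingCat.of k))]

/-- Invertible and of degree zero on every integral curve. -/
def NT (L : X.Modules) : Prop := PicF.IsInvertible L ∧ Pic13.IsNumEquivZero k X L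

theorem eulerCharLE_congr {Z : Scheme.{u}} [Z.Over (Spec (CommRingCat.of k))] {M N : Z.Modules} (e : M ≅ N) (d : ℕ) :
    FGA.eulerCharLE k Z M d = FGA.eulerCharLE k Z N d :=
  Finset.sum_congr rfl fun j _ => by rw [(CurveCohLib.hhEquiv (k := k) e j).finrank_eq]

variable {k}

theorem NT.one : NT k (Coh.structureModule X) := ⟨InvX.isInvertible_structureModule, fun Y i _ _ _ => by
  letI : Y.Over (Spec (CommRingCat.of k)) := ⟨i ≫ (X ↘ Spec (CommRingCat.of k))⟩
  show FGA.eulerCharLE k Y _ 1 - FGA.eulerCharLE k Y _ 1 = 0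
  rw [eulerCharLE_congr k (CurveBC.unitIso i) 1, sub_self]⟩

theorem NT.tensor {L L' : X.Modules} (h : NT k L) (h' : NT k L') : NT k (CohB1.tensorMod L L') := by
  haveI := CurveCohLib.isNoetherian_of_proper (k := k) (X := X)
  refine ⟨InvX.isInvertible_tensorMod h.1 h'.1, fun Z i _ hZi hZ => ?_⟩
  haveI := hZi
  have hO : Coh.IsCoh ((Coh.push i).obj (Coh.structureModule Z)) := QCoh.isCoh_push_structure i
  have hd := IntSym.dim_push_le i (QCoh.isQCoh_structureModule (X := Z)) (d := ((1 : ℕ) : WithBot ℕ∞))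
    (by rw [Nat.cast_one]; exact hZ.le)
  rw [IntSym.curveDeg_eq k i hZ (InvX.isInvertible_tensorMod h.1 h'.1),
    IntSym.sym_tensor_head k h.1 h'.1 (l := []) (List.forall_mem_nil _) hO hd,
    ← IntSym.curveDeg_eq k i hZ h.1, ← IntSym.curveDeg_eq k i hZ h'.1, h.2 Z i hZi hZ, h'.2 Z i hZi hZ, add_zero]

theorem NT.pow {L : X.Modules} (h : NT k L) : ∀ n, NT k (CohB1.tensorPow L n)
  | 0 => NT.one
  | n + 1 => (NT.pow h n).tensor h

theorem NT.exists_inv {L : X.Modules} (h : NT k L) : ∃ L', NT k L' ∧ PicF.cl L * PicF.cl L' = 1 := by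
  obtain ⟨D, hD, ⟨e⟩⟩ := H23.PicInv.exists_inverse h.1
  exact ⟨D, ⟨hD, isNumEquivZero_inverse k h.1 hD e h.2⟩,
    by rw [← cl_tensor, H23.PicMul.one_def]; exact cl_eq_iff.2 ⟨e⟩⟩

theorem NT.pullback {Z : Scheme.{u}} [Z.Over (Spec (CommRingCat.of k))] (i : Z ⟶ X) [IsClosedImmersion i]
    (hi : i ≫ (X ↘ Spec (CommRingCat.of k)) = Z ↘ Spec (CommRingCat.of k)) {L : X.Modules} (h : NT k L) :
    NT k ((Scheme.Modules.pullback i).obj L) := by
  refine ⟨PicClLib.isInvertible_pullback i h.1, fun Y j _ hY hdim => ?_⟩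
  have H := h.2 Y (j ≫ i) hY hdim
  rw [Category.assoc, hi] at H
  letI : Y.Over (Spec (CommRingCat.of k)) := ⟨j ≫ (Z ↘ Spec (CommRingCat.of k))⟩
  change FGA.eulerCharLE k Y _ 1 - FGA.eulerCharLE k Y _ 1 = 0 at H
  show FGA.eulerCharLE k Y _ 1 - FGA.eulerCharLE k Y _ 1 = 0
  rw [← H]
  exact congrArg (· - _) (eulerCharLE_congr k ((Scheme.Modules.pullbackComp j i).app L) 1)

end NT

section Gen

variable {X : Scheme.{u}}

/-- Finitely many sections without common zero. -/
def Gen (A : X.Modules) : Prop :=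
  ∃ (r : ℕ) (s : Fin r → (Coh.structureModule X ⟶ A)), ∀ x : X, ∃ l, x ∈ CohB1.genLocus A (s l)

theorem Gen.pullback {A : X.Modules} (h : Gen A) (hA : PicF.IsInvertible A) {Y : Scheme.{u}} (f : Y ⟶ X) :
    Gen ((Scheme.Modules.pullback f).obj A) := by
  obtain ⟨r, s, hs⟩ := h
  refine ⟨r, fun l => (CurveBC.unitIso f).inv ≫ (Scheme.Modules.pullback f).map (s l), fun y => ?_⟩
  obtain ⟨l, hl⟩ := hs (f y)
  exact ⟨l, by
    rw [show (CurveBC.unitIso f).inv = (CurveBC.unitIso f).symm.hom from rfl, InvX.genLocus_pullback f hA]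
    exact hl⟩

theorem exists_gen_pow [CompactSpace X] [X.IsSeparated] {A : X.Modules} (hA : CohB1.IsAmple A) :
    ∃ a, 0 < a ∧ Gen (CohB1.tensorPow A a) := by
  obtain ⟨a, ha, κ, _, σ, -, -, hcov⟩ := AmpleX.exists_cover_genLocus hA
  let e := Fintype.equivFin κ
  refine ⟨a, ha, Fintype.card κ, fun l => σ (e.symm l), fun x => ?_⟩
  obtain ⟨j, hj⟩ := hcov x
  exact ⟨e j, by simp only [e.symm_apply_apply]; exact hj⟩

/-- `L ⊗ A^m`. -/
abbrev tP (A L : X.Modules) (m : ℕ) : X.Modules := CohB1.tensorMod L (CohB1.tensorPow A m)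

theorem isInvertible_tP {A L : X.Modules} (hA : PicF.IsInvertible A) (hL : PicF.IsInvertible L) (m : ℕ) :
    PicF.IsInvertible (tP A L m) := InvX.isInvertible_tensorMod hL (InvX.isInvertible_tensorPow hA m)

theorem exists_twIso {P Q : X.Modules} (h : PicF.cl P = PicF.cl Q) : Nonempty (AmpleVan.tw P ≅ AmpleVan.tw Q) :=
  let ⟨e⟩ := cl_eq_iff.1 h
  ⟨(DCoh.tensorBi (X := X)).flip.mapIso e⟩

/-- A twist absorbed into the next one. -/
theorem exists_twCompIso {P Q R : X.Modules} (h : PicF.cl P * PicF.cl Q = PicF.cl R) :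
    Nonempty (AmpleVan.tw P ⋙ AmpleVan.tw Q ≅ AmpleVan.tw R) :=
  let ⟨e⟩ := exists_twIso (P := CohB1.tensorMod P Q) (Q := R) (by rw [cl_tensor, h])
  ⟨AmpleVan.twComp P Q ≪≫ e⟩

theorem exists_twStep (A L : X.Modules) (m : ℕ) :
    Nonempty (AmpleVan.tw A ⋙ AmpleVan.tw (tP A L m) ≅ AmpleVan.tw (tP A L (m + 1))) :=
  exists_twCompIso (by simp only [cl_tensor, cl_tensorPow, pow_succ]; ac_rfl)

theorem exists_twOne (P : X.Modules) : Nonempty (AmpleVan.tw P ≅ AmpleVan.tw (tP P (Coh.structureModule X) 1)) :=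
  exists_twIso (by simp only [cl_tensor, cl_tensorPow, ← H23.PicMul.one_def, one_mul, pow_one])

theorem ses_tw {P : X.Modules} (hP : PicF.IsInvertible P) {S : ShortComplex X.Modules} (hS : S.ShortExact) :
    ∃ h : (AmpleVan.tw P).map S.f ≫ (AmpleVan.tw P).map S.g = 0,
      (ShortComplex.mk ((AmpleVan.tw P).map S.f) ((AmpleVan.tw P).map S.g) h).ShortExact := by
  haveI := AmpleVan.isEquivalence_tw hP
  haveI : (AmpleVan.tw P).Additive := Functor.additive_of_preserves_binary_products _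
  exact ⟨_, hS.map_of_exact (AmpleVan.tw P)⟩

theorem isCoh_tw [IsNoetherian X] {P : X.Modules} (hP : PicF.IsInvertible P) {M : X.Modules} (hM : Coh.IsCoh M) :
    Coh.IsCoh ((AmpleVan.tw P).obj M) := AmpleVan.isCoh_tensor hM (AmpleVan.isCoh_invertible hP)

theorem isQCoh_tw {P : X.Modules} (hP : PicF.IsInvertible P) {M : X.Modules} (hM : Coh.IsQCoh M) :
    Coh.IsQCoh ((AmpleVan.tw P).obj M) := by
  show Coh.IsQCoh (CohB1.tensorMod M P)
  exact KFlatLib.isQCoh_tensor hM (ProjUPX.isQCoh_of_isInvertible hP)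

theorem support_tw_subset (P M : X.Modules) : CohB1.support ((AmpleVan.tw P).obj M) ⊆ CohB1.support M :=
  HilbPoly.support_tensor_subset _ _

/-- A map bijective on the sections over the opens inside `U` is an isomorphism at the points of `U`. -/
theorem isoOn_of_app_bijective {U : X.Opens} {A B : X.Modules} {φ : A ⟶ B}
    (h : ∀ W : X.Opens, W ≤ U → Function.Bijective (φ.app W)) : Snapper.IsoOn U φ := fun x hx => by
  refine (ConcreteCategory.isIso_iff_bijective _).2 ⟨fun a b hab => ?_, fun b => ?_⟩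
  · obtain ⟨V, hxV, s, rfl⟩ := TopCat.Presheaf.exists_germ_eq A.presheaf a
    obtain ⟨V', hxV', t, rfl⟩ := TopCat.Presheaf.exists_germ_eq A.presheaf b
    have h1 : B.presheaf.germ V x hxV (φ.app V s) = B.presheaf.germ V' x hxV' (φ.app V' t) :=
      (TopCat.Presheaf.stalkFunctor_map_germ_apply V x hxV ((Scheme.Modules.toPresheaf X).map φ) s).symm.trans
        (hab.trans (TopCat.Presheaf.stalkFunctor_map_germ_apply V' x hxV'
          ((Scheme.Modules.toPresheaf X).map φ) t))
    obtain ⟨W, hxW, i, j, hW⟩ := B.presheaf.germ_eq (U := V) (V := V') x hxV hxV' _ _ h1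
    let W' : X.Opens := W ⊓ U
    refine A.presheaf.germ_ext W' ⟨hxW, hx⟩ (homOfLE (inf_le_left.trans i.le)) (homOfLE (inf_le_left.trans j.le)) ?_
    refine (h W' (inf_le_right : W' ≤ U)).1 ?_
    have h2 := congrArg (AModX.res B (inf_le_left : W' ≤ W)) hW
    refine (AModX.app_res φ _ s).trans (Eq.trans ?_ (AModX.app_res φ _ t).symm)
    refine Eq.trans ?_ (h2.trans (AModX.res_res _ _ _))
    exact (AModX.res_res _ _ _).symm
  · obtain ⟨V, hxV, t, rfl⟩ := TopCat.Presheaf.exists_germ_eq B.presheaf b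
    obtain ⟨s, hs⟩ := (h (V ⊓ U) inf_le_right).2 (AModX.res B inf_le_left t)
    refine ⟨A.presheaf.germ (V ⊓ U) x ⟨hxV, hx⟩ s, ?_⟩
    refine (TopCat.Presheaf.stalkFunctor_map_germ_apply (V ⊓ U) x ⟨hxV, hx⟩
      ((Scheme.Modules.toPresheaf X).map φ) s).trans ?_
    exact (congrArg (B.presheaf.germ (V ⊓ U) x ⟨hxV, hx⟩) hs).trans (InvX.germ_res' _ _ t)

theorem isoOn_mulSec {A : X.Modules} (s : Coh.structureModule X ⟶ A) (M : X.Modules) :
    Snapper.IsoOn (CohB1.genLocus A s) (AmpleVan.mulSec (InvX.one s) M) := isoOn_of_app_bijective fun W hW => by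
  have h := FlatTwist.bijective_tmul_frame (M := M) (AmpleX.res_genLocus_frame s) hW
  simp only [AModX.res_res] at h
  exact h

theorem mono_mulSec [IsIntegral X] {A : X.Modules} (hA : PicF.IsInvertible A) (s : Coh.structureModule X ⟶ A)
    (hs : genericPoint X ∈ CohB1.genLocus A s) {I : X.Modules} (ι : I ⟶ Coh.structureModule X) [Mono ι] :
    Mono (AmpleVan.mulSec (InvX.one s) I) := by
  have hne : AmpleVan.mulSec (InvX.one s) (Coh.structureModule X) ≠ 0 := fun h0 => by
    have hiso := isoOn_mulSec s (Coh.structureModule X) _ hs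
    rw [h0, Functor.map_zero] at hiso
    have hη : genericPoint X ∉ CohB1.support (Coh.structureModule X) := Snapper.notMem_support_iff.2
      (IsZero.of_mono_eq_zero (0 : (DerSch.stalkFunctor X (genericPoint X)).obj (Coh.structureModule X) ⟶
        (DerSch.stalkFunctor X (genericPoint X)).obj ((AmpleVan.tw A).obj (Coh.structureModule X))) rfl)
    rw [CohGabLib.support_structure] at hη
    exact hη trivial
  haveI := InvEnd.mono_of_ne_zero InvX.isInvertible_structureModule
    (InvX.isInvertible_tensorMod InvX.isInvertible_structureModule hA) _ hne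
  haveI : Mono (AmpleVan.mulSec (InvX.one s) I ≫ (AmpleVan.tw A).map ι) :=
    AmpleVan.mulSec_naturality (InvX.one s) ι ▸ mono_comp ι _
  exact mono_of_mono _ ((AmpleVan.tw A).map ι)

/-- A proper closed subset of an integral scheme has smaller dimension. -/
theorem dim_lt_of_subset_compl [IsIntegral X] {n : ℕ} (hn : topologicalKrullDim X = n) {U : X.Opens}
    (hU : genericPoint X ∈ U) {S : Set X} (h : S ⊆ (U : Set X)ᶜ) :
    topologicalKrullDim ↥S < (n : WithBot ℕ∞) := by
  refine (H23.TopDim.dim_le_dim_of_subset h).trans_lt (hn ▸ H23.TopDim.dim_lt_of_ssubset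
    (by rw [hn]; exact WithBot.coe_inj.not.2 (ENat.coe_ne_top n)) U.isOpen.isClosed_compl fun he => ?_)
  exact (he.ge (Set.mem_univ (genericPoint X))) hU

end Gen

end Groth.Agent.VolLib
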