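import Groth.Agent.VolLib.Growth
import Groth.Agent.Snapper.Main
import Groth.Agent.InvX.GenLocusPull
import Groth.Agent.PerfGen7.LowerBound

/-!
# Growth of all cohomology groups of twists, bounded by the dimension of the image of the support
-/

noncomputable section

set_option autoImplicit false
set_option linter.style.haveILetI false
set_option backward.isDefEq.respectTransparency false
set_option backward.isDefEq.respectTransparency.types false
set_option maxHeartbeats 800000

universe u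
open CategoryTheory CategoryTheory.Limits AlgebraicGeometry TopologicalSpace
open Groth.Agent.PnCoh.Finite (mapLin deltaLin)

namespace Groth.Agent.VolLib

open Groth.Agent.HilbPoly (pw)

/-- `h m ≤ C (m + 1) ^ (d - 1)`, read as `h m = 0` for large `m` when `d = 0`. -/
def Bd (d : ℕ) (h : ℕ → ℕ) : Prop := ∃ C : ℕ, ∀ m : ℕ, h m * (m + 1) ≤ C * (m + 1) ^ d

theorem Bd.zero (d : ℕ) : Bd d 0 := ⟨0, fun m => by simp⟩

theorem Bd.le {d : ℕ} {h h' : ℕ → ℕ} (H : Bd d h) (hle : ∀ m, h' m ≤ h m) : Bd d h' := by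
  obtain ⟨C, hC⟩ := H
  exact ⟨C, fun m => (Nat.mul_le_mul_right _ (hle m)).trans (hC m)⟩

theorem Bd.add {d : ℕ} {h h' : ℕ → ℕ} (H : Bd d h) (H' : Bd d h') : Bd d (h + h') := by
  obtain ⟨C, hC⟩ := H
  obtain ⟨C', hC'⟩ := H'
  refine ⟨C + C', fun m => ?_⟩
  rw [Pi.add_apply, add_mul, add_mul]
  exact add_le_add (hC m) (hC' m)

theorem Bd.up {d : ℕ} {h : ℕ → ℕ} (H : Bd d h) : Bd (d + 1) h := by
  obtain ⟨C, hC⟩ := H
  exact ⟨C, fun m => (hC m).trans (Nat.mul_le_mul_left _ (Nat.pow_le_pow_right (Nat.succ_pos m) (Nat.le_succ d)))⟩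

/-- Summing increments raises the exponent by one. -/
theorem Bd.of_diff {d : ℕ} {f e : ℕ → ℕ} (H : Bd d e) (hle : ∀ m, f (m + 1) ≤ f m + e m) : Bd (d + 1) f := by
  obtain ⟨C, hC⟩ := H
  cases d with
  | zero =>
    have h1 : ∀ m, f m ≤ f 0 + C * min m C := by
      intro m
      induction m with
      | zero => simp
      | succ m ih =>
        have h := hC m
        rw [pow_zero, Nat.mul_one] at h
        have h' := hle m
        rcases Nat.lt_or_ge m C with hm | hm
        · rw [min_eq_left (by omega : m + 1 ≤ C), Nat.mul_succ]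
          rw [min_eq_left (by omega : m ≤ C)] at ih
          have : e m ≤ C := le_trans (Nat.le_mul_of_pos_right _ (Nat.succ_pos m)) h
          omega
        · have : e m = 0 := by
            by_contra hne
            have := Nat.le_mul_of_pos_left (m + 1) (Nat.pos_of_ne_zero hne)
            omega
          rw [min_eq_right (by omega : C ≤ m + 1)]
          rw [min_eq_right hm] at ih
          omega
    refine ⟨f 0 + C * C, fun m => ?_⟩
    rw [zero_add, pow_one]
    exact Nat.mul_le_mul_right _ ((h1 m).trans (Nat.add_le_add_left (Nat.mul_le_mul_left _ (min_le_right _ _)) _))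
  | succ d =>
    have he : ∀ m, e m ≤ C * (m + 1) ^ d := fun m =>
      Nat.le_of_mul_le_mul_right (by rw [mul_assoc, ← pow_succ]; exact hC m) (Nat.succ_pos m)
    have h1 : ∀ m, f m ≤ f 0 + C * m * (m + 1) ^ d := by
      intro m
      induction m with
      | zero => simp
      | succ m ih =>
        have hp : (m + 1) ^ d ≤ (m + 1 + 1) ^ d := Nat.pow_le_pow_left (Nat.le_succ _) _
        calc f (m + 1) ≤ f m + e m := hle m
          _ ≤ (f 0 + C * m * (m + 1) ^ d) + C * (m + 1) ^ d := add_le_add ih (he m)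
          _ ≤ (f 0 + C * m * (m + 1 + 1) ^ d) + C * (m + 1 + 1) ^ d :=
            add_le_add (Nat.add_le_add_left (Nat.mul_le_mul_left _ hp) _) (Nat.mul_le_mul_left _ hp)
          _ = f 0 + C * (m + 1) * (m + 1 + 1) ^ d := by ring
    refine ⟨f 0 + C, fun m => ?_⟩
    calc f m * (m + 1) ≤ (f 0 * (m + 1) ^ (d + 1) + C * ((m + 1) * (m + 1) ^ d)) * (m + 1) := by
          refine Nat.mul_le_mul_right _ ((h1 m).trans (add_le_add ?_ ?_))
          · exact Nat.le_mul_of_pos_right _ (pow_pos (Nat.succ_pos m) _)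
          · rw [mul_assoc]
            exact Nat.mul_le_mul_left _ (Nat.mul_le_mul_right _ (Nat.le_succ m))
      _ = (f 0 + C) * (m + 1) ^ (d + 1 + 1) := by ring

/-- Equality up to `Bd d`. -/
def Near (d : ℕ) (a b : ℕ → ℕ) : Prop :=
  ∃ e, Bd d e ∧ ∀ m, a m ≤ b m + e m ∧ b m ≤ a m + e m

theorem Near.symm {d : ℕ} {a b : ℕ → ℕ} : Near d a b → Near d b a := fun ⟨e, he, h⟩ =>
  ⟨e, he, fun m => ⟨(h m).2, (h m).1⟩⟩

theorem Near.trans {d : ℕ} {a b c : ℕ → ℕ} : Near d a b → Near d b c → Near d a c :=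
  fun ⟨e, he, h⟩ ⟨e', he', h'⟩ => ⟨e + e', he.add he', fun m => by
    have := h m; have := h' m; simp only [Pi.add_apply]; omega⟩

theorem Near.of_eq {d : ℕ} {a b : ℕ → ℕ} (h : ∀ m, a m = b m) : Near d a b :=
  ⟨0, Bd.zero d, fun m => by simp [h m]⟩

theorem Near.bd {d : ℕ} {a b : ℕ → ℕ} (h : Near d a b) (hb : Bd d b) : Bd d a := by
  obtain ⟨e, he, h'⟩ := h
  exact (hb.add he).le fun m => (h' m).1

section Seq

variable (k : Type u) [Field k] {X : Scheme.{u}} [X.Over (Spec (CommRingCat.of k))]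
  [IsProper (X ↘ Spec (CommRingCat.of k))]

/-- The dimension of `H^i(X, M ⊗ L^m)`. -/
def hseq (L M : X.Modules) (i m : ℕ) : ℕ := Module.finrank k (Coh.HH X (pw L M m) i)

theorem hseq_congr {L M M' : X.Modules} (e : M ≅ M') (i m : ℕ) : hseq k L M i m = hseq k L M' i m :=
  HilbPoly.finrank_HH_iso k ((AmpleVan.tw (CohB1.tensorPow L m)).mapIso e) i

variable {k} {L : X.Modules} {S : ShortComplex X.Modules}

theorem hh_mid_le (hS : S.ShortExact) (h₁ : Coh.IsCoh S.X₁) (h₂ : Coh.IsCoh S.X₂) (h₃ : Coh.IsCoh S.X₃) (i : ℕ) :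
    Module.finrank k (Coh.HH X S.X₂ i) ≤ Module.finrank k (Coh.HH X S.X₁ i) + Module.finrank k (Coh.HH X S.X₃ i) := by
  haveI := CurveCohLib.isNoetherian_of_proper (k := k) (X := X)
  haveI := CurveCohLib.finite_HH (k := k) h₁ i
  haveI := CurveCohLib.finite_HH (k := k) h₂ i
  haveI := CurveCohLib.finite_HH (k := k) h₃ i
  have h := (mapLin k S.g i).finrank_range_add_finrank_ker
  have h1 := Submodule.finrank_le (LinearMap.range (mapLin k S.g i))
  have h2 : Module.finrank k (LinearMap.ker (mapLin k S.g i)) ≤ Module.finrank k (Coh.HH X S.X₁ i) := by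
    rw [CurveCohLib.ker_mapLin_g k hS i]
    exact LinearMap.finrank_range_le _
  omega

theorem hh_right_le (hS : S.ShortExact) (h₁ : Coh.IsCoh S.X₁) (h₂ : Coh.IsCoh S.X₂) (h₃ : Coh.IsCoh S.X₃) (i : ℕ) :
    Module.finrank k (Coh.HH X S.X₃ i) ≤ Module.finrank k (Coh.HH X S.X₂ i) + Module.finrank k (Coh.HH X S.X₁ (i + 1)) := by
  haveI := CurveCohLib.isNoetherian_of_proper (k := k) (X := X)
  haveI := CurveCohLib.finite_HH (k := k) h₁ (i + 1)
  haveI := CurveCohLib.finite_HH (k := k) h₂ i
  haveI := CurveCohLib.finite_HH (k := k) h₃ i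
  have h := (deltaLin k hS i).finrank_range_add_finrank_ker
  have h1 := Submodule.finrank_le (LinearMap.range (deltaLin k hS i))
  have h2 : Module.finrank k (LinearMap.ker (deltaLin k hS i)) ≤ Module.finrank k (Coh.HH X S.X₂ i) := by
    rw [CurveCohLib.ker_deltaLin k hS i]
    exact LinearMap.finrank_range_le _
  omega

theorem hh_left_le (hS : S.ShortExact) (h₁ : Coh.IsCoh S.X₁) (h₂ : Coh.IsCoh S.X₂) (h₃ : Coh.IsCoh S.X₃) (i : ℕ) :
    Module.finrank k (Coh.HH X S.X₁ i) ≤ Module.finrank k (Coh.HH X S.X₂ i) + Module.finrank k (Coh.HH X S.X₃ (i - 1)) := by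
  haveI := CurveCohLib.isNoetherian_of_proper (k := k) (X := X)
  haveI := CurveCohLib.finite_HH (k := k) h₁ i
  haveI := CurveCohLib.finite_HH (k := k) h₂ i
  have h := (mapLin k S.f i).finrank_range_add_finrank_ker
  have h1 := Submodule.finrank_le (LinearMap.range (mapLin k S.f i))
  cases i with
  | zero =>
    exact le_trans (LinearMap.finrank_le_finrank_of_injective (CurveCohLib.mapLin_f_zero_injective (A := k) hS))
      (Nat.le_add_right _ _)
  | succ i =>
    haveI := CurveCohLib.finite_HH (k := k) h₃ i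
    have h2 : Module.finrank k (LinearMap.ker (mapLin k S.f (i + 1))) ≤ Module.finrank k (Coh.HH X S.X₃ i) := by
      rw [CurveCohLib.ker_mapLin_f_succ k hS i]
      exact LinearMap.finrank_range_le _
    rw [Nat.add_sub_cancel]
    omega

theorem hseq_mid_le (hL : PicF.IsInvertible L) (hS : S.ShortExact) (h₁ : Coh.IsCoh S.X₁) (h₂ : Coh.IsCoh S.X₂)
    (h₃ : Coh.IsCoh S.X₃) (i m : ℕ) : hseq k L S.X₂ i m ≤ hseq k L S.X₁ i m + hseq k L S.X₃ i m :=
  haveI := CurveCohLib.isNoetherian_of_proper (k := k) (X := X)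
  hh_mid_le (NakaiMo.shortExact_pw hL hS m) (HilbPoly.isCoh_pw hL h₁ m) (HilbPoly.isCoh_pw hL h₂ m)
    (HilbPoly.isCoh_pw hL h₃ m) i

theorem hseq_right_le (hL : PicF.IsInvertible L) (hS : S.ShortExact) (h₁ : Coh.IsCoh S.X₁) (h₂ : Coh.IsCoh S.X₂)
    (h₃ : Coh.IsCoh S.X₃) (i m : ℕ) : hseq k L S.X₃ i m ≤ hseq k L S.X₂ i m + hseq k L S.X₁ (i + 1) m :=
  haveI := CurveCohLib.isNoetherian_of_proper (k := k) (X := X)
  hh_right_le (NakaiMo.shortExact_pw hL hS m) (HilbPoly.isCoh_pw hL h₁ m) (HilbPoly.isCoh_pw hL h₂ m)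
    (HilbPoly.isCoh_pw hL h₃ m) i

theorem hseq_left_le (hL : PicF.IsInvertible L) (hS : S.ShortExact) (h₁ : Coh.IsCoh S.X₁) (h₂ : Coh.IsCoh S.X₂)
    (h₃ : Coh.IsCoh S.X₃) (i m : ℕ) : hseq k L S.X₁ i m ≤ hseq k L S.X₂ i m + hseq k L S.X₃ (i - 1) m :=
  haveI := CurveCohLib.isNoetherian_of_proper (k := k) (X := X)
  hh_left_le (NakaiMo.shortExact_pw hL hS m) (HilbPoly.isCoh_pw hL h₁ m) (HilbPoly.isCoh_pw hL h₂ m)
    (HilbPoly.isCoh_pw hL h₃ m) i

/-- Small first term: the other two are near. -/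
theorem near_of_small_left {d : ℕ} (hL : PicF.IsInvertible L) (hS : S.ShortExact) (h₁ : Coh.IsCoh S.X₁)
    (h₂ : Coh.IsCoh S.X₂) (h₃ : Coh.IsCoh S.X₃) (H : ∀ i, Bd d (hseq k L S.X₁ i)) (i : ℕ) :
    Near d (hseq k L S.X₂ i) (hseq k L S.X₃ i) :=
  ⟨_, (H i).add (H (i + 1)), fun m => by
    have := hseq_mid_le (k := k) hL hS h₁ h₂ h₃ i m
    have := hseq_right_le (k := k) hL hS h₁ h₂ h₃ i m
    simp only [Pi.add_apply]; omega⟩

/-- Small last term: the other two are near. -/
theorem near_of_small_right {d : ℕ} (hL : PicF.IsInvertible L) (hS : S.ShortExact) (h₁ : Coh.IsCoh S.X₁)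
    (h₂ : Coh.IsCoh S.X₂) (h₃ : Coh.IsCoh S.X₃) (H : ∀ i, Bd d (hseq k L S.X₃ i)) (i : ℕ) :
    Near d (hseq k L S.X₁ i) (hseq k L S.X₂ i) :=
  ⟨_, (H i).add (H (i - 1)), fun m => by
    have := hseq_mid_le (k := k) hL hS h₁ h₂ h₃ i m
    have := hseq_left_le (k := k) hL hS h₁ h₂ h₃ i m
    simp only [Pi.add_apply]; omega⟩

/-- A map with small kernel and cokernel. -/
theorem near_of_map {d : ℕ} (hL : PicF.IsInvertible L) {A B : X.Modules} (hA : Coh.IsCoh A) (hB : Coh.IsCoh B)
    (φ : A ⟶ B) (hK : ∀ i, Bd d (hseq k L (kernel φ) i)) (hC : ∀ i, Bd d (hseq k L (cokernel φ) i)) (i : ℕ) :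
    Near d (hseq k L A i) (hseq k L B i) := by
  haveI := CurveCohLib.isNoetherian_of_proper (k := k) (X := X)
  have hKc := QCoh.isCoh_kernel hA hB φ
  have hCc := QCoh.isCoh_cokernel hA.1 hB φ
  have hI : Coh.IsCoh (Abelian.image φ) :=
    QCoh.isCoh_of_epi (Abelian.factorThruImage φ) hA (QCoh.isQCoh_kernel hB.1 hCc.1 _)
  have h1 : (ShortComplex.mk (kernel.ι φ) (Abelian.factorThruImage φ)
      ((cancel_mono (Abelian.image.ι φ)).1 (by rw [Category.assoc, Abelian.image.fac, kernel.condition, zero_comp]))).ShortExact :=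
    { exact := ShortComplex.exact_of_f_is_kernel _ (KernelFork.IsLimit.ofι' _ _ fun {T} t ht =>
        ⟨kernel.lift φ t (by rw [← Abelian.image.fac φ, reassoc_of% ht, zero_comp]), kernel.lift_ι _ _ _⟩)
      mono_f := inferInstance
      epi_g := inferInstance }
  have h2 : (ShortComplex.mk (Abelian.image.ι φ) (cokernel.π φ) (kernel.condition _)).ShortExact :=
    { exact := ShortComplex.exact_of_f_is_kernel _ (kernelIsKernel (cokernel.π φ))
      mono_f := inferInstance
      epi_g := inferInstance }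
  exact (near_of_small_left hL h1 hKc hA hI hK i).trans (near_of_small_right hL h2 hI hB hCc hC i)

theorem bd_of_support_empty (hL : PicF.IsInvertible L) {d : ℕ} {M : X.Modules} (hM : Coh.IsCoh M)
    (h : CohB1.support M = ∅) (i : ℕ) : Bd d (hseq k L M i) := by
  refine (Bd.zero d).le fun m => le_of_eq ?_
  have hz : IsZero M := PerfGen7.LowerBound.isZero_of_stalks _ fun x => Snapper.notMem_support_iff.1 (by rw [h]; exact id)
  haveI := AmpleVan.isEquivalence_tw (InvX.isInvertible_tensorPow hL m)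
  haveI : (AmpleVan.tw (CohB1.tensorPow L m)).Additive := Functor.additive_of_preserves_binary_products _
  haveI : Subsingleton (Coh.HH X (pw L M m) i) :=
    Euler.subsingleton_HH_of_isZero ((AmpleVan.tw (CohB1.tensorPow L m)).map_isZero hz) i
  exact Module.finrank_zero_of_subsingleton

end Seq

section Main

variable (k : Type u) [Field k] {X Y : Scheme.{u}} [Y.Over (Spec (CommRingCat.of k))]
  [IsProper (Y ↘ Spec (CommRingCat.of k))] (f : Y ⟶ X) {L : Y.Modules}

/-- `L` has frames on the preimages of a neighbourhood of each point of the target. -/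
def HasFrames (L : Y.Modules) : Prop :=
  ∀ x : X, ∃ U : X.Opens, x ∈ U ∧ ∃ e : Γ(L, f ⁻¹ᵁ U), InvX.IsFrame e

omit [Y.Over (Spec (CommRingCat.of k))] [IsProper (Y ↘ Spec (CommRingCat.of k))] in
theorem hasFrames_pullback {L₀ : X.Modules} (hL : PicF.IsInvertible L₀) :
    HasFrames f ((Scheme.Modules.pullback f).obj L₀) := fun x => by
  obtain ⟨U, hxU, e, he⟩ := InvX.exists_frame hL x
  exact ⟨U, hxU, InvX.pullElt f e, InvX.isFrame_pullElt f he⟩

/-- One step: twisting once more changes little. -/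
theorem near_succ (hL : PicF.IsInvertible L) {d : ℕ} {C : Set Y} {U : Y.Opens} {e : Γ(L, U)} (he : InvX.IsFrame e)
    (IH : ∀ N : Y.Modules, Coh.IsCoh N → CohB1.support N ⊆ C \ U → ∀ i, Bd d (hseq k L N i))
    {M : Y.Modules} (hM : Coh.IsCoh M) (hMC : CohB1.support M ⊆ C) (i : ℕ) :
    Near d (hseq k L M i) (fun m => hseq k L M i (m + 1)) := by
  haveI := CurveCohLib.isNoetherian_of_proper (k := k) (X := Y)
  obtain ⟨K, I, a, b, c, hK, hI, ha, hb, hc⟩ := Snapper.exists_link_frame hL he
  have hLc := AmpleVan.isCoh_invertible hL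
  let F := AmpleVan.tw M
  have hsupp : ∀ A : Y.Modules, CohB1.support (F.obj A) ⊆ C := fun A =>
    (CurveTensor.support_tensor_subset (E := A) (F := M)).trans hMC
  have hcoh : ∀ {A}, Coh.IsCoh A → Coh.IsCoh (F.obj A) := fun h => AmpleVan.isCoh_tensor h hM
  have key : ∀ {A B : Y.Modules} (φ : A ⟶ B), Coh.IsCoh A → Coh.IsCoh B → Snapper.IsoOn U φ →
      Near d (hseq k L (F.obj A) i) (hseq k L (F.obj B) i) := by
    intro A B φ hA hB hφ
    obtain ⟨hk, hc⟩ := Snapper.support_subset_compl (hφ.tensor M)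
    obtain ⟨hk', hc'⟩ := Snapper.support_sub_of_map (hcoh hA) (hcoh hB) ((AmpleVan.tw M).map φ)
    exact near_of_map hL (hcoh hA) (hcoh hB) _
      (IH _ (QCoh.isCoh_kernel (hcoh hA) (hcoh hB) _) fun x hx => ⟨hsupp _ (hk' hx), hk hx⟩)
      (IH _ (QCoh.isCoh_cokernel (hcoh hA).1 (hcoh hB) _) fun x hx => ⟨hsupp _ (hc' hx), hc hx⟩) i
  have e0 : Near d (hseq k L M i) (hseq k L (F.obj (Coh.structureModule Y)) i) :=
    Near.of_eq fun m => (hseq_congr k (CurveTensor.structureTensorIso M) i m).symm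
  have e1 : Near d (hseq k L (F.obj (Coh.structureModule Y)) i) (hseq k L (F.obj K) i) :=
    (key a hK QCoh.isCoh_structureModule' ha).symm
  have e2 : Near d (hseq k L (F.obj K) i) (hseq k L (F.obj I) i) := key b hK hI hb
  have e3 : Near d (hseq k L (F.obj I) i) (hseq k L (F.obj L) i) := (key c hLc hI hc).symm
  have e4 : Near d (hseq k L (F.obj L) i) (fun m => hseq k L M i (m + 1)) :=
    Near.of_eq fun m => HilbPoly.finrank_HH_iso k (Snapper.twistSuccIso L M m) i
  exact (((e0.trans e1).trans e2).trans e3).trans e4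

/-- The cohomology of the twists of a module supported over a closed set of dimension less than `d`
grows slower than the `d`-th power. -/
theorem bd_of_dim_lt [IsNoetherian X] (hL : PicF.IsInvertible L) (hfr : HasFrames f L) (d : ℕ) :
    ∀ (C : Closeds X), topologicalKrullDim ↥(C : Set X) < (d : WithBot ℕ∞) →
      ∀ M : Y.Modules, Coh.IsCoh M → CohB1.support M ⊆ f.base ⁻¹' (C : Set X) → ∀ i, Bd d (hseq k L M i) := by
  haveI := CurveCohLib.isNoetherian_of_proper (k := k) (X := Y)
  induction d with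
  | zero =>
    intro C hC M hM hMC
    refine bd_of_support_empty hL hM (Set.eq_empty_of_forall_notMem fun y hy => ?_)
    haveI : Nonempty ↥(C : Set X) := ⟨⟨f.base y, hMC hy⟩⟩
    haveI : Nonempty (IrreducibleCloseds ↥(C : Set X)) :=
      ⟨⟨closure {⟨f.base y, hMC hy⟩}, isIrreducible_singleton.closure, isClosed_closure⟩⟩
    exact absurd hC (not_lt.2 (by exact_mod_cast Order.krullDim_nonneg))
  | succ d IHd =>
    intro C
    induction C using WellFoundedLT.induction with
    | ind C IH =>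
      intro hC M hM hMC
      rcases Set.eq_empty_or_nonempty (C : Set X) with h0 | hne
      · exact bd_of_support_empty hL hM (Set.subset_empty_iff.1 (by rw [h0] at hMC; exact hMC))
      by_cases hirr : IsIrreducible (C : Set X)
      · obtain ⟨η, hη⟩ := QuasiSober.sober hirr C.isClosed
        have hηC : η ∈ (C : Set X) := hη.mem
        obtain ⟨U, hηU, e, he⟩ := hfr η
        have hlt : topologicalKrullDim ↥((C : Set X) \ U) < (d : WithBot ℕ∞) := by
          haveI : IrreducibleSpace ↥(C : Set X) := isIrreducible_iff_irreducibleSpace.1 hirr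
          let Z : Set ↥(C : Set X) := {y | (y : X) ∈ (U : Set X)ᶜ}
          have hlt := H23.TopDim.dim_lt_of_ssubset (X := ↥(C : Set X)) (fun h => by rw [h] at hC; exact not_top_lt hC)
            (Y := Z) (U.2.isClosed_compl.preimage continuous_subtype_val)
            (fun h => (h.ge (Set.mem_univ ⟨η, hηC⟩) : η ∈ (U : Set X)ᶜ) hηU)
          have hle : topologicalKrullDim ↥((C : Set X) \ U) ≤ topologicalKrullDim ↥Z := by
            let g : ↥((C : Set X) \ U) → ↥Z := fun p => ⟨⟨p.1, p.2.1⟩, p.2.2⟩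
            have hcomp : Topology.IsInducing ((Subtype.val ∘ Subtype.val : ↥Z → X) ∘ g) :=
              show Topology.IsInducing (Subtype.val : ↥((C : Set X) \ U) → X) from Topology.IsInducing.subtypeVal
            exact ((Topology.IsInducing.subtypeVal.comp Topology.IsInducing.subtypeVal).of_comp_iff.1 hcomp).topologicalKrullDim_le
          refine lt_of_le_of_lt hle ?_
          revert hlt hC
          generalize topologicalKrullDim ↥Z = a
          generalize topologicalKrullDim ↥(C : Set X) = b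
          intro hC hlt
          cases a with
          | bot => exact WithBot.bot_lt_coe _
          | coe a =>
            cases b with
            | bot => exact absurd hlt not_lt_bot
            | coe b =>
              have h1 : a < b := WithBot.coe_lt_coe.1 hlt
              have h2 : b < ((d + 1 : ℕ) : ℕ∞) := WithBot.coe_lt_coe.1 hC
              refine WithBot.coe_lt_coe.2 (lt_of_lt_of_le h1 ?_)
              exact ENat.lt_add_one_iff (ENat.natCast_ne_top d) |>.1 (by exact_mod_cast h2)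
        intro i
        obtain ⟨ε, hε, hε'⟩ := near_succ k hL he (fun N hN hNs => IHd ⟨_, C.isClosed.sdiff U.2⟩ hlt N hN
          (fun y hy => ⟨(hNs hy).1, (hNs hy).2⟩)) hM hMC i
        exact Bd.of_diff hε fun m => (hε' m).2
      · obtain ⟨A, B, hA, hB, hsub, hnA, hnB⟩ : ∃ A B : Set X, IsClosed A ∧ IsClosed B ∧
            (C : Set X) ⊆ A ∪ B ∧ ¬ (C : Set X) ⊆ A ∧ ¬ (C : Set X) ⊆ B := by
          by_contra! hno
          exact hirr ⟨hne, isPreirreducible_iff_isClosed_union_isClosed.2 fun A B hA hB hs =>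
            or_iff_not_imp_left.2 fun hA' => hno A B hA hB hs hA'⟩
        let C₁ : Closeds X := ⟨(C : Set X) ∩ A, C.isClosed.inter hA⟩
        let C₂ : Closeds X := ⟨(C : Set X) ∩ B, C.isClosed.inter hB⟩
        have h1 : C₁ < C := lt_of_le_of_ne (Set.inter_subset_left : (C : Set X) ∩ A ⊆ C)
          fun h => hnA (Set.inter_eq_left.1 (congrArg (SetLike.coe) h))
        have h2 : C₂ < C := lt_of_le_of_ne (Set.inter_subset_left : (C : Set X) ∩ B ⊆ C)
          fun h => hnB (Set.inter_eq_left.1 (congrArg (SetLike.coe) h))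
        have hdim : ∀ C' : Closeds X, C' ≤ C → topologicalKrullDim ↥(C' : Set X) < ((d + 1 : ℕ) : WithBot ℕ∞) :=
          fun C' h => lt_of_le_of_lt ((Topology.IsInducing.subtypeVal.of_comp_iff.1
            (show Topology.IsInducing (Subtype.val ∘ Set.inclusion (show (C' : Set X) ⊆ C from h)) from
              Topology.IsInducing.subtypeVal)).topologicalKrullDim_le) hC
        let W : Y.Opens := ⟨(f.base ⁻¹' (C₂ : Set X))ᶜ, (C₂.isClosed.preimage f.continuous).isOpen_compl⟩
        let φ := Snapper.resMap W M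
        have hQ : Coh.IsQCoh ((Scheme.Modules.pushforward W.ι).obj (M.restrict W.ι)) :=
          QCoh.isQCoh_pushforward W.ι (QCoh.isQCoh_restrict W.ι hM.1)
        have hco := QCoh.isQCoh_cokernel hM.1 hQ φ
        have hI : Coh.IsCoh (Abelian.image φ) :=
          QCoh.isCoh_of_epi (Abelian.factorThruImage φ) hM (QCoh.isQCoh_kernel hQ hco _)
        have hK : Coh.IsCoh (kernel φ) := QCoh.isCoh_of_mono (kernel.ι φ) hM (QCoh.isQCoh_kernel hM.1 hQ φ)
        have hKb : ∀ i, Bd (d + 1) (hseq k L (kernel φ) i) := IH C₂ h2 (hdim C₂ h2.le) _ hK fun y hy =>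
          not_not.1 fun hy2 => (Snapper.support_subset_compl (Snapper.isoOn_resMap W M)).1 hy (show y ∈ W from hy2)
        have hIb : ∀ i, Bd (d + 1) (hseq k L (Abelian.image φ) i) := IH C₁ h1 (hdim C₁ h1.le) _ hI fun y hy => by
          by_contra hy1
          have hP := QCoh.mem_support_of_mono hI.1 hQ (Abelian.image.ι φ) hy
          refine Snapper.notMem_support_push (W := ⟨(f.base ⁻¹' (C₁ : Set X))ᶜ,
            (C₁.isClosed.preimage f.continuous).isOpen_compl⟩) hy1 ?_ hP
          refine Set.disjoint_left.2 fun z hz hzM => ?_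
          exact (hsub (hMC hzM)).elim (fun h => hz.1 ⟨hMC hzM, h⟩) (fun h => hz.2 ⟨hMC hzM, h⟩)
        intro i
        exact ((hKb i).add (hIb i)).le fun m => hseq_mid_le (k := k) (S := ShortComplex.mk (kernel.ι φ)
          (Abelian.factorThruImage φ) ((cancel_mono (Abelian.image.ι φ)).1
            (by rw [Category.assoc, Abelian.image.fac, kernel.condition, zero_comp]))) hL
          { exact := ShortComplex.exact_of_f_is_kernel _ (KernelFork.IsLimit.ofι' _ _ fun {T} t ht =>
              ⟨kernel.lift φ t (by rw [← Abelian.image.fac φ, reassoc_of% ht, zero_comp]), kernel.lift_ι _ _ _⟩)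
            mono_f := inferInstance
            epi_g := inferInstance } hK hM hI i m

end Main

end Groth.Agent.VolLib
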