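import Groth.Prelude.Def_W4c5asymptcohfnACF
import Groth.Agent.VolLib.HiGrowth
import Mathlib.Analysis.SpecificLimits.Basic

/-!
# Asymptotic cohomological functions: boundedness, invariance under small errors, homogeneity
-/

noncomputable section

set_option autoImplicit false
set_option linter.style.haveILetI false
set_option backward.isDefEq.respectTransparency false
set_option backward.isDefEq.respectTransparency.types false
set_option maxHeartbeats 800000

universe u
open CategoryTheory CategoryTheory.Limits AlgebraicGeometry TopologicalSpace Filter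
open Groth.Agent.H23.PicMul

namespace Groth.Agent.VolLib

open Groth.Agent.HilbPoly (pw)

/-- `f m n! / m^n`. -/
def nseq (n : ℕ) (f : ℕ → ℕ) (m : ℕ) : ℝ := (f m : ℝ) * (n.factorial : ℝ) / (m : ℝ) ^ n

/-- The upper limit of `f m n! / m^n`. -/
def vsup (n : ℕ) (f : ℕ → ℕ) : ℝ := limsup (nseq n f) atTop

theorem nseq_nonneg (n : ℕ) (f : ℕ → ℕ) (m : ℕ) : 0 ≤ nseq n f m := by unfold nseq; positivity

theorem isCobounded_nseq (n : ℕ) (f : ℕ → ℕ) : IsCoboundedUnder (· ≤ ·) atTop (nseq n f) :=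
  (isBoundedUnder_of ⟨0, fun m => nseq_nonneg n f m⟩ : IsBoundedUnder (· ≥ ·) atTop (nseq n f)).isCoboundedUnder_le

theorem Bd.exists_nseq_le {n : ℕ} {f : ℕ → ℕ} (h : Bd (n + 1) f) : ∃ B : ℝ, ∀ m, nseq n f m ≤ B := by
  obtain ⟨C, hC⟩ := h
  refine ⟨max ((C : ℝ) * 2 ^ n * n.factorial) (nseq n f 0), fun m => ?_⟩
  rcases Nat.eq_zero_or_pos m with rfl | hm
  · exact le_max_right _ _
  refine le_trans ?_ (le_max_left _ _)
  have h1 : f m ≤ C * (m + 1) ^ n := Nat.le_of_mul_le_mul_right (by rw [mul_assoc, ← pow_succ]; exact hC m) (Nat.succ_pos m)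
  have h2 : f m ≤ C * (2 * m) ^ n := h1.trans (Nat.mul_le_mul_left _ (Nat.pow_le_pow_left (by omega) _))
  have hm' : (0 : ℝ) < (m : ℝ) ^ n := by positivity
  rw [nseq, div_le_iff₀ hm']
  have h3 : (f m : ℝ) ≤ (C : ℝ) * (2 * (m : ℝ)) ^ n := by exact_mod_cast h2
  calc (f m : ℝ) * n.factorial ≤ (C : ℝ) * (2 * (m : ℝ)) ^ n * n.factorial :=
        mul_le_mul_of_nonneg_right h3 (Nat.cast_nonneg _)
    _ = _ := by rw [mul_pow]; ring

theorem Bd.isBounded_nseq {n : ℕ} {f : ℕ → ℕ} (h : Bd (n + 1) f) : IsBoundedUnder (· ≤ ·) atTop (nseq n f) :=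
  let ⟨B, hB⟩ := h.exists_nseq_le
  isBoundedUnder_of ⟨B, hB⟩

theorem Bd.tendsto_nseq {n : ℕ} {e : ℕ → ℕ} (h : Bd n e) : Tendsto (nseq n e) atTop (nhds 0) := by
  obtain ⟨C, hC⟩ := h
  refine squeeze_zero' (Eventually.of_forall fun m => nseq_nonneg n e m) ?_
    (tendsto_const_div_atTop_nhds_zero_nat ((C : ℝ) * 2 ^ n * n.factorial))
  filter_upwards [eventually_ge_atTop 1] with m hm
  have h2 : e m * m ≤ C * (2 * m) ^ n := by
    refine le_trans (le_trans (Nat.mul_le_mul_left _ (Nat.le_succ m)) (hC m)) ?_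
    exact Nat.mul_le_mul_left _ (Nat.pow_le_pow_left (by omega) _)
  have h3 : (e m : ℝ) * m ≤ (C : ℝ) * (2 * (m : ℝ)) ^ n := by exact_mod_cast h2
  have hm' : (0 : ℝ) < m := by exact_mod_cast hm
  rw [nseq, div_le_div_iff₀ (by positivity) hm']
  calc (e m : ℝ) * n.factorial * m = (e m : ℝ) * m * n.factorial := by ring
    _ ≤ (C : ℝ) * (2 * (m : ℝ)) ^ n * n.factorial := mul_le_mul_of_nonneg_right h3 (Nat.cast_nonneg _)
    _ = _ := by rw [mul_pow]; ring

theorem limsup_le_of_tendsto {a b δ : ℕ → ℝ} (ha : IsCoboundedUnder (· ≤ ·) atTop a)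
    (hb : IsBoundedUnder (· ≤ ·) atTop b) (hδ : Tendsto δ atTop (nhds 0)) (h : ∀ᶠ m in atTop, a m ≤ b m + δ m) :
    limsup a atTop ≤ limsup b atTop := by
  refine le_of_forall_pos_le_add fun ε hε => limsup_le_of_le ha ?_
  filter_upwards [h, eventually_lt_of_limsup_lt (lt_add_of_pos_right (limsup b atTop) (half_pos hε)) hb,
    hδ.eventually (gt_mem_nhds (half_pos hε))] with m h1 h2 h3
  linarith

theorem vsup_congr {n : ℕ} {a b : ℕ → ℕ} (h : Near n a b) (hb : Bd (n + 1) b) : vsup n a = vsup n b := by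
  have ha : Bd (n + 1) a := by
    obtain ⟨e, he, h'⟩ := h
    exact (hb.add he.up).le fun m => (h' m).1
  obtain ⟨e, he, h'⟩ := h
  have key : ∀ {p q : ℕ → ℕ}, Bd (n + 1) q → (∀ m, p m ≤ q m + e m) → vsup n p ≤ vsup n q := by
    intro p q hq hpq
    refine limsup_le_of_tendsto (isCobounded_nseq n p) hq.isBounded_nseq he.tendsto_nseq (Eventually.of_forall fun m => ?_)
    simp only [nseq]
    rw [← add_div, ← add_mul]
    have : (p m : ℝ) ≤ (q m : ℝ) + e m := by exact_mod_cast hpq m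
    gcongr
  exact le_antisymm (key hb fun m => (h' m).1) (key ha fun m => (h' m).2)

theorem vsup_eq_zero {n : ℕ} {a : ℕ → ℕ} (h : Bd n a) : vsup n a = 0 := h.tendsto_nseq.limsup_eq

theorem vsup_congr_eq {n : ℕ} {a b : ℕ → ℕ} (h : ∀ m, a m = b m) : vsup n a = vsup n b := by
  rw [show a = b from funext h]

/-- Homogeneity of the upper limit. -/
theorem vsup_scale {n : ℕ} {f : ℕ → ℕ} (hf : Bd (n + 1) f) (hd : Near n f (fun m => f (m + 1))) {a : ℕ} (ha : 1 ≤ a) :
    vsup n (fun q => f (a * q)) = (a : ℝ) ^ n * vsup n f := by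
  obtain ⟨e, ⟨C, hC⟩, he⟩ := hd
  have ha' : (0 : ℝ) < (a : ℝ) ^ n := by
    have : (0 : ℝ) < a := by exact_mod_cast ha
    positivity
  have hstep : ∀ q r, f (a * q + r) ≤ f (a * q) + ∑ j ∈ Finset.range r, e (a * q + j) := by
    intro q r
    induction r with
    | zero => simp
    | succ r ih =>
      rw [Finset.sum_range_succ]
      have := (he (a * q + r)).2
      simp only [← add_assoc] at this ⊢
      omega
  let g : ℕ → ℝ := fun q => nseq n f (a * q)
  have hscale : ∀ q, nseq n (fun q => f (a * q)) q = (a : ℝ) ^ n * g q := fun q => by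
    simp only [g, nseq, Nat.cast_mul, mul_pow]
    rcases eq_or_ne ((q : ℝ) ^ n) 0 with hq | hq
    · simp [hq]
    · field_simp
  obtain ⟨B, hB⟩ := hf.exists_nseq_le
  have hgb : IsBoundedUnder (· ≤ ·) atTop g := isBoundedUnder_of ⟨B, fun q => hB _⟩
  have hgc : IsCoboundedUnder (· ≤ ·) atTop g :=
    (isBoundedUnder_of ⟨0, fun q => nseq_nonneg n f _⟩ : IsBoundedUnder (· ≥ ·) atTop g).isCoboundedUnder_le
  have h1 : limsup g atTop ≤ vsup n f := by
    refine le_of_forall_pos_le_add fun ε hε => limsup_le_of_le hgc ?_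
    have h := eventually_lt_of_limsup_lt (lt_add_of_pos_right (vsup n f) hε) hf.isBounded_nseq
    have ht : Tendsto (fun q : ℕ => a * q) atTop atTop :=
      tendsto_atTop_mono (fun q => Nat.le_mul_of_pos_left q ha) tendsto_id
    exact (ht.eventually h).mono fun q hq => hq.le
  have h2 : vsup n f ≤ limsup g atTop := by
    have hdiv : Tendsto (fun m : ℕ => m / a) atTop atTop := le_of_eq (map_div_atTop_eq_nat a ha)
    have hgm : limsup (fun m => g (m / a)) atTop = limsup g atTop := by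
      show (Filter.map (g ∘ fun m => m / a) atTop).limsSup = (Filter.map g atTop).limsSup
      rw [← Filter.map_map, map_div_atTop_eq_nat a ha]
    rw [← hgm]
    let K : ℝ := (C : ℝ) * a * (2 : ℝ) ^ n * n.factorial * (2 * a)
    refine limsup_le_of_tendsto (isCobounded_nseq n f) (isBoundedUnder_of ⟨B, fun m => hB _⟩)
      (tendsto_const_div_atTop_nhds_zero_nat K) ?_
    filter_upwards [eventually_ge_atTop (2 * a)] with m hm
    set q := m / a with hq
    have hqr : a * q + m % a = m := Nat.div_add_mod m a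
    have hr : m % a < a := Nat.mod_lt _ ha
    have hsum : (∑ j ∈ Finset.range (m % a), e (a * q + j)) * m ≤ a * (C * (2 * m) ^ n) * 2 := by
      rw [Finset.sum_mul]
      refine (Finset.sum_le_card_nsmul _ _ (C * (2 * m) ^ n * 2) fun j hj => ?_).trans ?_
      · have hj' := Finset.mem_range.1 hj
        calc e (a * q + j) * m ≤ e (a * q + j) * ((a * q + j + 1) * 2) := Nat.mul_le_mul_left _ (by omega)
          _ = e (a * q + j) * (a * q + j + 1) * 2 := by ring
          _ ≤ C * (a * q + j + 1) ^ n * 2 := Nat.mul_le_mul_right _ (hC _)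
          _ ≤ C * (2 * m) ^ n * 2 :=
            Nat.mul_le_mul_right _ (Nat.mul_le_mul_left _ (Nat.pow_le_pow_left (by omega) _))
      · rw [Finset.card_range, smul_eq_mul, mul_assoc a]
        exact Nat.mul_le_mul_right _ hr.le
    have hm0 : (0 : ℝ) < m := by exact_mod_cast (by omega : 0 < m)
    have hq0 : (0 : ℝ) < ((a * q : ℕ) : ℝ) := by exact_mod_cast (by omega : 0 < a * q)
    have hle : ((a * q : ℕ) : ℝ) ≤ m := by exact_mod_cast (by omega : a * q ≤ m)
    have hfm : (f m : ℝ) ≤ (f (a * q) : ℝ) + ((∑ j ∈ Finset.range (m % a), e (a * q + j) : ℕ) : ℝ) := by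
      have := hstep q (m % a)
      rw [hqr] at this
      exact_mod_cast this
    have hsum' : ((∑ j ∈ Finset.range (m % a), e (a * q + j) : ℕ) : ℝ) * m ≤ (a : ℝ) * ((C : ℝ) * (2 * (m : ℝ)) ^ n) * 2 := by
      exact_mod_cast hsum
    show (f m : ℝ) * n.factorial / (m : ℝ) ^ n ≤
      (f (a * q) : ℝ) * n.factorial / ((a * q : ℕ) : ℝ) ^ n + K / m
    have hA : (f (a * q) : ℝ) * n.factorial / (m : ℝ) ^ n ≤
        (f (a * q) : ℝ) * n.factorial / ((a * q : ℕ) : ℝ) ^ n := by
      gcongr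
    have hBB : ((∑ j ∈ Finset.range (m % a), e (a * q + j) : ℕ) : ℝ) * n.factorial / (m : ℝ) ^ n ≤ K / m := by
      rw [div_le_div_iff₀ (by positivity) hm0]
      calc _ = ((∑ j ∈ Finset.range (m % a), e (a * q + j) : ℕ) : ℝ) * m * n.factorial := by ring
        _ ≤ (a : ℝ) * ((C : ℝ) * (2 * (m : ℝ)) ^ n) * 2 * n.factorial := mul_le_mul_of_nonneg_right hsum' (Nat.cast_nonneg _)
        _ ≤ (a : ℝ) * ((C : ℝ) * (2 * (m : ℝ)) ^ n) * 2 * n.factorial * a := le_mul_of_one_le_right (by positivity) (by exact_mod_cast ha)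
        _ = _ := by simp only [K, mul_pow]; ring
    calc (f m : ℝ) * n.factorial / (m : ℝ) ^ n
        ≤ ((f (a * q) : ℝ) + ((∑ j ∈ Finset.range (m % a), e (a * q + j) : ℕ) : ℝ)) * n.factorial / (m : ℝ) ^ n := by
          gcongr
      _ = _ := by rw [add_mul, add_div]
      _ ≤ _ := add_le_add hA hBB
  have hlim : vsup n f = limsup g atTop := le_antisymm h2 h1
  rw [hlim]
  show limsup (nseq n fun q => f (a * q)) atTop = _
  rw [show (nseq n fun q => f (a * q)) = fun q => (OrderIso.mulLeft₀ _ ha') (g q) from funext hscale]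
  exact (OrderIso.limsup_apply (OrderIso.mulLeft₀ _ ha') hgb hgc (isBoundedUnder_of ⟨(a : ℝ) ^ n * B, fun q =>
    mul_le_mul_of_nonneg_left (hB _) ha'.le⟩)
    (isBoundedUnder_of ⟨0, fun q => mul_nonneg ha'.le (nseq_nonneg n f _)⟩ :
      IsBoundedUnder (· ≥ ·) atTop fun q => (OrderIso.mulLeft₀ _ ha') (g q)).isCoboundedUnder_le).symm

section Scheme

variable (k : Type u) [Field k] {X : Scheme.{u}} [X.Over (Spec (CommRingCat.of k))]
  [IsProper (X ↘ Spec (CommRingCat.of k))] {n : ℕ} {L : X.Modules}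

omit [IsProper (X ↘ Spec (CommRingCat.of k))] in
theorem hhatF_eq (F : X.Modules) (i : ℕ) : W4c5asymptcohfn.hhatF k X n i F L = vsup n (hseq k L F i) := rfl

theorem hhat_eq (i : ℕ) : W4c5asymptcohfn.hhat k X n i L = vsup n (hseq k L (Coh.structureModule X) i) := by
  refine Eq.trans rfl (vsup_congr_eq (a := fun m => Module.finrank k (Coh.HH X (CohB1.tensorPow L m) i)) fun m => ?_)
  exact (HilbPoly.finrank_HH_iso k (NakaiMo.pw_structure L m).some i).symm

omit [X.Over (Spec (CommRingCat.of k))] [IsProper (X ↘ Spec (CommRingCat.of k))] in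
theorem hasFrames_id (hL : PicF.IsInvertible L) : HasFrames (𝟙 X) L := fun x => by
  obtain ⟨U, hxU, e, he⟩ := InvX.exists_frame hL x
  exact ⟨U, hxU, e, he⟩

/-- Supports of dimension less than `d`. -/
theorem bd_of_support_dim_lt (hL : PicF.IsInvertible L) {d : ℕ} {M : X.Modules} (hM : Coh.IsCoh M)
    (hd : topologicalKrullDim ↥(CohB1.support M) < (d : WithBot ℕ∞)) (i : ℕ) : Bd d (hseq k L M i) := by
  haveI := CurveCohLib.isNoetherian_of_proper (k := k) (X := X)
  exact bd_of_dim_lt k (𝟙 X) hL (hasFrames_id hL) d ⟨_, QCoh.isClosed_support_of_isFT hM.1 hM.2⟩ hd M hM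
    (fun _ hx => hx) i

/-- All coherent modules. -/
theorem bd_all (hL : PicF.IsInvertible L) (hn : topologicalKrullDim X ≤ (n : WithBot ℕ∞)) {M : X.Modules}
    (hM : Coh.IsCoh M) (i : ℕ) : Bd (n + 1) (hseq k L M i) :=
  bd_of_support_dim_lt k hL hM (lt_of_le_of_lt (Topology.IsInducing.subtypeVal.topologicalKrullDim_le.trans hn)
    (by exact_mod_cast Nat.lt_succ_self n)) i

/-- A coherent module missing the generic point is small. -/
theorem bd_of_notMem [IsIntegral X] (hL : PicF.IsInvertible L) (hn : topologicalKrullDim X = n) {M : X.Modules}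
    (hM : Coh.IsCoh M) (h : genericPoint X ∉ CohB1.support M) (i : ℕ) : Bd n (hseq k L M i) := by
  haveI := CurveCohLib.isNoetherian_of_proper (k := k) (X := X)
  refine bd_of_support_dim_lt k hL hM ?_ i
  have := H23.TopDim.dim_lt_of_ssubset (X := X) (by rw [hn]; exact WithBot.coe_inj.not.2 (ENat.coe_ne_top n))
    (QCoh.isClosed_support_of_isFT hM.1 hM.2) (fun he => h (he.symm ▸ Set.mem_univ _))
  rwa [hn] at this

/-- A map which is an isomorphism at the generic point. -/
theorem near_of_generic [IsIntegral X] (hL : PicF.IsInvertible L) (hn : topologicalKrullDim X = n) {A B : X.Modules}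
    (hA : Coh.IsCoh A) (hB : Coh.IsCoh B) (φ : A ⟶ B) (h : IsIso ((DerSch.stalkFunctor X (genericPoint X)).map φ))
    (i : ℕ) : Near n (hseq k L A i) (hseq k L B i) := by
  haveI := CurveCohLib.isNoetherian_of_proper (k := k) (X := X)
  exact near_of_map hL hA hB φ
    (bd_of_notMem k hL hn (QCoh.isCoh_kernel hA hB φ) (Snapper.notMem_support_kernel φ inferInstance))
    (bd_of_notMem k hL hn (QCoh.isCoh_cokernel hA.1 hB φ) (Snapper.notMem_support_cokernel φ inferInstance)) i

theorem near_succ_all [IsIntegral X] (hL : PicF.IsInvertible L) (hn : topologicalKrullDim X = n) {M : X.Modules}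
    (hM : Coh.IsCoh M) (i : ℕ) : Near n (hseq k L M i) (fun m => hseq k L M i (m + 1)) := by
  obtain ⟨U, hηU, e, he⟩ := InvX.exists_frame hL (genericPoint X)
  exact near_succ k hL (C := Set.univ) he (fun N hN hs => bd_of_notMem k hL hn hN fun h => (hs h).2 hηU) hM
    (Set.subset_univ _) i

end Scheme

end Groth.Agent.VolLib
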