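import Groth.Agent.VolLib.GenRank
import Groth.Agent.LerayEuler.Main
import Groth.Agent.IntNum.PushRank
import Groth.Agent.KFlatLib.Scheme.ProjLocFree
import Groth.Agent.S0037
import Groth.Agent.QCoh.RpushAbGod

/-!
# Cohomology growth under a dominant generically finite morphism
-/

set_option autoImplicit false
set_option linter.style.haveILetI false
set_option linter.unusedSectionVars false
set_option backward.isDefEq.respectTransparency false
set_option backward.isDefEq.respectTransparency.types false
set_option maxHeartbeats 1000000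

universe u

open CategoryTheory CategoryTheory.Limits AlgebraicGeometry TopologicalSpace Opposite
open Groth.Agent.PnCoh.Finite (mapLin deltaLin)
open Groth.Agent.QCoh (godQ God toGod godπ)
open Groth.Agent.H23.PicMul
open Groth.Agent.LerayEuler (F sesA sesB sesA_shortExact sesB_shortExact α exists_cls finrank_split finrank_range_eq_of_ker_eq)

namespace Groth.Agent.VolLib

open Groth.Agent.HilbPoly (pw)

section Tower

variable (k : Type u) [Field k] {X Y : Scheme.{u}} [X.Over (Spec (CommRingCat.of k))]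
  [Y.Over (Spec (CommRingCat.of k))] [IsProper (X ↘ Spec (CommRingCat.of k))]
  [IsProper (Y ↘ Spec (CommRingCat.of k))] (f : Y ⟶ X)
  (hf : f ≫ (X ↘ Spec (CommRingCat.of k)) = Y ↘ Spec (CommRingCat.of k))

theorem seq_ineq {S : ShortComplex X.Modules} (hS : S.ShortExact) (p : ℕ)
    (h1 : Module.Finite k (Coh.HH X S.X₁ (p + 1))) (h2 : Module.Finite k (Coh.HH X S.X₂ (p + 1)))
    (h3 : Module.Finite k (Coh.HH X S.X₃ p)) (h3' : Module.Finite k (Coh.HH X S.X₃ (p + 1))) :
    Module.finrank k (Coh.HH X S.X₂ (p + 1)) ≤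
      Module.finrank k (Coh.HH X S.X₁ (p + 1)) + Module.finrank k (Coh.HH X S.X₃ (p + 1)) ∧
    Module.finrank k (Coh.HH X S.X₁ (p + 1)) ≤
      Module.finrank k (Coh.HH X S.X₂ (p + 1)) + Module.finrank k (Coh.HH X S.X₃ p) := by
  haveI := h1; haveI := h2; haveI := h3; haveI := h3'
  have e1 := (mapLin k S.f (p + 1)).finrank_range_add_finrank_ker
  have e2 := (mapLin k S.g (p + 1)).finrank_range_add_finrank_ker
  have r1 := Submodule.finrank_le (LinearMap.range (mapLin k S.f (p + 1)))
  have r2 := Submodule.finrank_le (LinearMap.range (mapLin k S.g (p + 1)))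
  have k1 : Module.finrank k (LinearMap.ker (mapLin k S.g (p + 1))) ≤ Module.finrank k (Coh.HH X S.X₁ (p + 1)) := by
    rw [CurveCohLib.ker_mapLin_g k hS (p + 1)]
    exact LinearMap.finrank_range_le _
  have k2 : Module.finrank k (LinearMap.ker (mapLin k S.f (p + 1))) ≤ Module.finrank k (Coh.HH X S.X₃ p) := by
    rw [CurveCohLib.ker_mapLin_f_succ k hS p]
    exact LinearMap.finrank_range_le _
  omega

variable [HasInjectiveResolutions Y.Modules]

/-- `∑_{p ≤ N} h^p` of the higher direct image `R^{q+1}`. -/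
noncomputable def errR (G : Y.Modules) (N q : ℕ) : ℕ :=
  ∑ p ∈ Finset.range (N + 1), Module.finrank k (Coh.HH X ((Coh.Rpush f (q + 1)).obj G) p)

include hf in
/-- Cohomology through the direct image, up to the higher direct images. -/
theorem leray_near (G : Y.Modules) (hG : Coh.IsCoh G) (n : ℕ) :
    Module.finrank k (Coh.HH Y G n) ≤ Module.finrank k (Coh.HH X ((Coh.Rpush f 0).obj G) n) +
        ∑ q ∈ Finset.range n, errR k f G n q ∧
    Module.finrank k (Coh.HH X ((Coh.Rpush f 0).obj G) n) ≤ Module.finrank k (Coh.HH Y G n) +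
        ∑ q ∈ Finset.range n, errR k f G n q := by
  classical
  haveI : HasInjectiveResolutions X.Modules := KFlatLib.hasInjectiveResolutions_modules
  choose eR heR using fun q => (⟨(QCoh.nonempty_Rpush_iso f G q).some, trivial⟩ :
    ∃ _e : (Coh.Rpush f (q + 1)).obj G ≅ QCoh.rpushModel f G q, True)
  have hRcoh : ∀ q, Coh.IsCoh (QCoh.rpushModel f G q) := fun q => by
    have h := LerayEuler.isCoh_R k f hf G hG (q + 1)
    exact QCoh.isCoh_of_iso_finite (eR q).symm h.1 fun V hV => QCoh.finite_sections h hV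
  haveI := SpObjSS.enoughInjectives_of_hasInjectiveResolutions (C := Y.Modules)
  haveI := QCoh.preservesFiniteLimits_push f
  let e₀ := (Scheme.Modules.pushforward f).rightDerivedZeroIsoSelf.app G
  have hF0 : Coh.IsCoh (F f G 0) := by
    have h := LerayEuler.isCoh_R k f hf G hG 0
    exact QCoh.isCoh_of_iso_finite e₀.symm h.1 fun V hV => QCoh.finite_sections h hV
  have hF0' : ∀ p, Module.finrank k (Coh.HH X ((Coh.Rpush f 0).obj G) p) = Module.finrank k (Coh.HH X (F f G 0) p) :=
    fun p => HilbPoly.finrank_HH_iso k e₀ p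
  have hE : ∀ {N p q : ℕ}, p ≤ N →
      Module.finrank k (Coh.HH X (QCoh.rpushModel f G q) p) ≤ errR k f G N q := fun {N p q} hp => by
    rw [← HilbPoly.finrank_HH_iso k (eR q) p]
    exact Finset.single_le_sum (f := fun p => Module.finrank k (Coh.HH X ((Coh.Rpush f (q + 1)).obj G) p))
      (fun _ _ => Nat.zero_le _) (Finset.mem_range.2 (Nat.lt_succ_of_le hp))
  have hbij : ∀ n p, Function.Bijective (deltaLin k (sesA_shortExact f G n) (p + 1)) := fun n p =>
    QCoh.Ab.connecting_bijective (X := X.toPresheafedSpace.carrier)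
      (QCoh.toAb_shortExact (sesA_shortExact f G n)) (p + 1)
      (LerayEuler.subsingleton_HH_pushGod f _ p) (LerayEuler.subsingleton_HH_pushGod f _ (p + 1))
  have hfin : ∀ n p, Module.Finite k (Coh.HH X (F f G n) (p + 1)) := by
    intro n
    induction n with
    | zero => exact fun p => S0002.result k X _ hF0 (p + 1)
    | succ n ih =>
      intro p
      haveI : Module.Finite k (Coh.HH X (sesB f G n).X₁ (p + 1)) :=
        haveI := ih (p + 1)
        Module.Finite.of_injective (deltaLin k (sesA_shortExact f G n) (p + 1)) (hbij n p).1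
      haveI : Module.Finite k (Coh.HH X (sesB f G n).X₃ (p + 1)) := S0002.result k X _ (hRcoh n) (p + 1)
      exact LerayEuler.finite_of_exact (mapLin k (sesB f G n).f (p + 1)) (mapLin k (sesB f G n).g (p + 1))
        (Euler.range_mapLin_f k (sesB_shortExact f G n) (p + 1))
  have hI : ∀ n p, Module.Finite k (Coh.HH X (sesB f G n).X₁ (p + 1)) := fun n p =>
    haveI := hfin n (p + 1)
    Module.Finite.of_injective (deltaLin k (sesA_shortExact f G n) (p + 1)) (hbij n p).1
  have hshift : ∀ (N n p : ℕ), p + 1 + n ≤ N →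
      Module.finrank k (Coh.HH X (F f G n) (p + 1)) ≤
          Module.finrank k (Coh.HH X (F f G 0) (p + 1 + n)) + ∑ q ∈ Finset.range n, errR k f G N q ∧
      Module.finrank k (Coh.HH X (F f G 0) (p + 1 + n)) ≤
          Module.finrank k (Coh.HH X (F f G n) (p + 1)) + ∑ q ∈ Finset.range n, errR k f G N q := by
    intro N n
    induction n with
    | zero => intro p _; simp
    | succ n ih =>
      intro p hp
      have h := seq_ineq k (sesB_shortExact f G n) p (hI n p) (hfin (n + 1) p) (S0002.result k X _ (hRcoh n) p)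
        (S0002.result k X _ (hRcoh n) (p + 1))
      have heq : Module.finrank k (Coh.HH X (sesB f G n).X₁ (p + 1)) =
          Module.finrank k (Coh.HH X (F f G n) (p + 1 + 1)) :=
        LinearEquiv.finrank_eq (LinearEquiv.ofBijective (deltaLin k (sesA_shortExact f G n) (p + 1)) (hbij n p))
      have hr1 := hE (N := N) (p := p) (q := n) (by omega)
      have hr2 := hE (N := N) (p := p + 1) (q := n) (by omega)
      have hh := ih (p + 1) (by omega)
      rw [show p + 1 + 1 + n = p + 1 + (n + 1) by omega] at hh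
      rw [Finset.sum_range_succ]
      change Module.finrank k (Coh.HH X (F f G (n + 1)) (p + 1)) ≤
          Module.finrank k (Coh.HH X (sesB f G n).X₁ (p + 1)) +
            Module.finrank k (Coh.HH X (QCoh.rpushModel f G n) (p + 1)) ∧
          Module.finrank k (Coh.HH X (sesB f G n).X₁ (p + 1)) ≤
            Module.finrank k (Coh.HH X (F f G (n + 1)) (p + 1)) +
              Module.finrank k (Coh.HH X (QCoh.rpushModel f G n) p) at h
      omega
  rw [hF0' n]
  cases n with
  | zero =>
    have hc : Module.finrank k (Coh.HH X (F f G 0) 0) = Module.finrank k (Coh.HH Y G 0) := by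
      obtain ⟨b, hb, hker⟩ := exists_cls k f hf G 0
      refine LinearEquiv.finrank_eq (LinearEquiv.ofBijective b ⟨?_, hb⟩)
      rw [injective_iff_map_eq_zero]
      intro x hx
      have h : LerayEuler.sec f (godQ G 0) x = 0 := (Submodule.mem_bot _).1 ((hker x).1 hx)
      exact (LerayEuler.bijective_sec f _).1
        (h.trans (map_zero (Sheaf.H.equiv₀ (Coh.toAb (F f G 0)) isTerminalTop)).symm)
    simp [hc]
  | succ n =>
    haveI := S0002.result k Y G hG (n + 1)
    have hA := sesA_shortExact f G n
    have hB := sesB_shortExact f G n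
    obtain ⟨b, hb, hker⟩ := exists_cls k f hf G (n + 1)
    have hkb : ∀ x, b x = 0 ↔ x ∈ LinearMap.range (mapLin k (α f G n) 0) := fun x =>
      (hker x).trans (LerayEuler.mem_bd_succ k f G n x)
    have hfac : ∀ w, mapLin k (sesB f G n).f 0 (mapLin k (sesA f G n).g 0 w) = mapLin k (α f G n) 0 w :=
      LerayEuler.mapLin_comp k _ _ _ (Abelian.image.fac _) 0
    have hs := finrank_split b hb (mapLin k (sesB f G n).f 0) (mapLin k (sesB f G n).g 0)
      (Euler.range_mapLin_f k hB 0) (fun x hx => by
        obtain ⟨w, rfl⟩ := (hkb x).1 hx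
        rw [← hfac w, ← Euler.range_mapLin_f k hB 0]
        exact ⟨_, rfl⟩)
    have hk : LinearMap.ker (b.comp (mapLin k (sesB f G n).f 0)) = LinearMap.ker (deltaLin k hA 0) := by
      rw [← Euler.range_mapLin_g k hA 0]
      ext x
      rw [LinearMap.mem_ker, LinearMap.comp_apply, hkb]
      constructor
      · rintro ⟨w, hw⟩
        refine ⟨w, LinearMap.ker_eq_bot.1 (Euler.ker_mapLin_f_zero k hB) ?_⟩
        rw [hfac, hw]
      · rintro ⟨w, rfl⟩
        exact ⟨w, (hfac w).symm⟩
    have hsurj : Function.Surjective (deltaLin k hA 0) :=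
      QCoh.Ab.connecting_surjective (X := X.toPresheafedSpace.carrier)
        (QCoh.toAb_shortExact hA) 0 (LerayEuler.subsingleton_HH_pushGod f _ 0)
    have hδ : Module.finrank k (LinearMap.range (deltaLin k hA 0)) = Module.finrank k (Coh.HH X (F f G n) 1) := by
      rw [LinearMap.range_eq_top.2 hsurj]
      exact finrank_top k _
    have hr2 := finrank_range_eq_of_ker_eq _ _ hk
    haveI : Module.Finite k (Coh.HH X (sesB f G n).X₃ 0) := S0002.result k X _ (hRcoh n) 0
    have hr : Module.finrank k (LinearMap.range (mapLin k (sesB f G n).g 0)) ≤ errR k f G (n + 1) n :=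
      (Submodule.finrank_le _).trans (hE (N := n + 1) (p := 0) (q := n) (Nat.zero_le _))
    have hh := hshift (n + 1) n 0 (by omega)
    rw [show 0 + 1 + n = n + 1 by omega] at hh
    have h01 : Module.finrank k (Coh.HH X (F f G n) (0 + 1)) = Module.finrank k (LinearMap.range (deltaLin k hA 0)) :=
      hδ.symm
    rw [Finset.sum_range_succ]
    omega

end Tower

/-- Only the generic point lies over the generic point. -/
theorem eq_genericPoint_of_residueDegree {X Y : Scheme.{u}} [IsIntegral X] [IsIntegral Y] (f : Y ⟶ X)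
    (hdom : f.base (genericPoint Y) = genericPoint X) (hd : 0 < f.residueDegree (genericPoint Y)) (z : Y)
    (hz : f.base z = genericPoint X) : z = genericPoint Y := by
  set η := genericPoint Y
  obtain ⟨_, ⟨V, hV, rfl⟩, hξV, -⟩ := X.isBasis_affineOpens.exists_subset_of_mem_open
    (Set.mem_univ (genericPoint X)) isOpen_univ
  have hzV : z ∈ f ⁻¹ᵁ V := by show f.base z ∈ V; rw [hz]; exact hξV
  obtain ⟨_, ⟨U, hU, rfl⟩, hzU, hle⟩ := Y.isBasis_affineOpens.exists_subset_of_mem_open hzV (f ⁻¹ᵁ V).2
  have hηU : η ∈ U := (genericPoint_specializes z).mem_open U.2 hzU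
  haveI : Nonempty U := ⟨⟨z, hzU⟩⟩
  haveI : Nonempty V := ⟨⟨_, hξV⟩⟩
  have hle' : U ≤ f ⁻¹ᵁ V := hle
  let ψ : Γ(X, V) →+* Γ(Y, U) := (f.appLE V U hle').hom
  have hinjV : ∀ (x : X) (hx : x ∈ V), x = genericPoint X →
      Function.Injective (X.presheaf.germ V x hx) := by
    rintro x hx rfl
    exact germ_injective_of_isIntegral X _ hx
  suffices hQ : (hU.primeIdealOf ⟨z, hzU⟩).asIdeal = ⊥ by
    have h1 := hU.fromSpec_primeIdealOf ⟨z, hzU⟩
    have h2 : hU.primeIdealOf ⟨z, hzU⟩ = hU.primeIdealOf ⟨η, hηU⟩ := by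
      rw [hU.primeIdealOf_genericPoint, genericPoint_eq_bot_of_affine]
      exact PrimeSpectrum.ext hQ
    rw [h2, hU.fromSpec_primeIdealOf] at h1
    exact h1.symm
  letI := ψ.toAlgebra
  have hηV : f.base η ∈ V := hle' hηU
  let S₀ := X.presheaf.stalk (f.base η)
  let S₁ := Y.presheaf.stalk η
  have hfrac : ∀ (x : X) (hx : x ∈ V), x = genericPoint X →
      letI : Algebra Γ(X, V) (X.presheaf.stalk x) := (X.presheaf.germ V x hx).hom.toAlgebra
      IsFractionRing Γ(X, V) (X.presheaf.stalk x) ∧ IsField (X.presheaf.stalk x) := by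
    rintro x hx rfl
    exact ⟨functionField_isFractionRing_of_isAffineOpen X V hV, CurveBundle.isField_stalk_generic⟩
  obtain ⟨hF, hK⟩ := hfrac _ hηV hdom
  have hL : IsField S₁ := CurveBundle.isField_stalk_generic
  letI : Algebra S₀ S₁ := (f.stalkMap η).hom.toAlgebra
  letI : Algebra Γ(X, V) S₀ := (X.presheaf.germ V _ hηV).hom.toAlgebra
  haveI : IsFractionRing Γ(X, V) S₀ := hF
  letI : Algebra Γ(Y, U) S₁ := (Y.presheaf.germ U η hηU).hom.toAlgebra
  letI : Algebra Γ(X, V) S₁ := ((Y.presheaf.germ U η hηU).hom.comp ψ).toAlgebra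
  haveI : IsScalarTower Γ(X, V) Γ(Y, U) S₁ := IsScalarTower.of_algebraMap_eq fun _ => rfl
  haveI : IsScalarTower Γ(X, V) S₀ S₁ := IsScalarTower.of_algebraMap_eq fun a => by
    show Y.presheaf.germ U η hηU (ψ a) = f.stalkMap η (X.presheaf.germ V _ hηV a)
    rw [Scheme.Hom.germ_stalkMap_apply f V η hηV a]
    show Y.presheaf.germ U η hηU ((f.appLE V U hle').hom a) = _
    rw [Scheme.Hom.appLE, CommRingCat.comp_apply]
    exact Y.presheaf.germ_res_apply (homOfLE hle') η hηU (f.app V a)
  haveI hfinite : Module.Finite S₀ S₁ := by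
    have hbij : ∀ (Z : Scheme.{u}) (z : Z), IsField (Z.presheaf.stalk z) → Function.Bijective (Z.residue z) := by
      intro Z z hz
      letI := hz.toField
      exact ⟨RingHom.injective _, IsLocalRing.residue_surjective⟩
    letI := hK.toField
    have hd' : Module.finrank S₀ S₁ = f.residueDegree η := by
      unfold Scheme.Hom.residueDegree
      letI := (f.residueFieldMap η).hom.toAlgebra
      exact Algebra.finrank_eq_of_equiv_equiv (RingEquiv.ofBijective (X.residue (f.base η)).hom (hbij _ _ hK))
        (RingEquiv.ofBijective (Y.residue η).hom (hbij _ _ hL))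
        (RingHom.ext fun a => congrArg (fun φ => φ a) (Scheme.residue_residueFieldMap f η))
    exact Module.finite_of_finrank_pos (by rw [hd']; exact hd)
  by_contra hne
  obtain ⟨b, hb, hb0⟩ := (Submodule.ne_bot_iff _).1 hne
  have hinjU : Function.Injective (algebraMap Γ(Y, U) S₁) := germ_injective_of_isIntegral Y η hηU
  have halg : IsAlgebraic Γ(X, V) b := by
    rw [← isAlgebraic_algebraMap_iff hinjU]
    letI := hK.toField
    exact (IsFractionRing.isAlgebraic_iff Γ(X, V) S₀ S₁).2 (IsIntegral.of_finite S₀ _).isAlgebraic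
  refine Ideal.comap_ne_bot_of_algebraic_mem hb0 hb halg (eq_bot_iff.2 fun a ha => ?_)
  have hnu : ¬ IsUnit (Y.presheaf.germ U z hzU (ψ a)) := by
    letI := Y.presheaf.algebra_section_stalk (⟨z, hzU⟩ : U)
    haveI := hU.isLocalization_stalk (⟨z, hzU⟩ : U)
    exact fun h => ((IsLocalization.AtPrime.isUnit_to_map_iff (Y.presheaf.stalk z)
      (hU.primeIdealOf ⟨z, hzU⟩).asIdeal (ψ a)).1 h) ha
  rw [show Y.presheaf.germ U z hzU (ψ a) = f.stalkMap z (X.presheaf.germ V (f.base z) hzV a) by
    rw [Scheme.Hom.germ_stalkMap_apply f V z hzV a]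
    show Y.presheaf.germ U z hzU ((f.appLE V U hle').hom a) = _
    rw [Scheme.Hom.appLE, CommRingCat.comp_apply]
    exact Y.presheaf.germ_res_apply (homOfLE hle') z hzU (f.app V a)] at hnu
  rw [Ideal.mem_bot]
  by_contra ha0
  refine hnu (IsUnit.map _ ?_)
  obtain ⟨-, hK'⟩ := hfrac _ hzV hz
  letI := hK'.toField
  exact isUnit_iff_ne_zero.2 fun h => ha0 (hinjV _ hzV hz (h.trans (map_zero _).symm))

section Main

variable (k : Type u) [Field k] {X Y : Scheme.{u}} [X.Over (Spec (CommRingCat.of k))]
  [Y.Over (Spec (CommRingCat.of k))] [IsProper (X ↘ Spec (CommRingCat.of k))]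
  [IsProper (Y ↘ Spec (CommRingCat.of k))] [IsIntegral X] [IsIntegral Y]

theorem bd_sum {ι : Type*} (s : Finset ι) {d : ℕ} {h : ι → ℕ → ℕ} (H : ∀ j ∈ s, Bd d (h j)) :
    Bd d (fun m => ∑ j ∈ s, h j m) := by
  classical
  induction s using Finset.induction_on with
  | empty => exact (Bd.zero d).le fun m => by simp
  | insert a s ha ih =>
    exact ((H a (Finset.mem_insert_self a s)).add (ih fun j hj => H j (Finset.mem_insert_of_mem hj))).le
      fun m => by simp [Finset.sum_insert ha]

/-- Cohomology of the pulled back powers, against twists of the direct image. -/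
theorem near_push {n : ℕ} (hn : topologicalKrullDim X = n)
    (f : Y ⟶ X) (hf : f ≫ (X ↘ Spec (CommRingCat.of k)) = Y ↘ Spec (CommRingCat.of k))
    (hdom : f.base (genericPoint Y) = genericPoint X) (hd0 : 0 < f.residueDegree (genericPoint Y))
    {L : X.Modules} (hL : PicF.IsInvertible L) (i : ℕ) :
    Coh.IsCoh ((Scheme.Modules.pushforward f).obj (Coh.structureModule Y)) ∧
    Module.finrank (X.presheaf.stalk (genericPoint X))
      (((Scheme.Modules.pushforward f).obj (Coh.structureModule Y)).presheaf.stalk (genericPoint X)) =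
        f.residueDegree (genericPoint Y) ∧
    Near n (hseq k ((Scheme.Modules.pullback f).obj L) (Coh.structureModule Y) i)
      (hseq k L ((Scheme.Modules.pushforward f).obj (Coh.structureModule Y)) i) := by
  haveI := CurveCohLib.isNoetherian_of_proper (k := k) (X := X)
  haveI := CurveCohLib.isNoetherian_of_proper (k := k) (X := Y)
  haveI : IsProper f := LerayEuler.isProper_f k f hf
  haveI : HasInjectiveResolutions Y.Modules := KFlatLib.hasInjectiveResolutions_modules
  have hone : ∀ z, f.base z = genericPoint X → z = genericPoint Y :=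
    eq_genericPoint_of_residueDegree f hdom hd0
  have hfib : (f.base ⁻¹' {genericPoint X}).Finite :=
    (Set.finite_singleton (genericPoint Y)).subset fun z hz => hone z hz
  have hO : Coh.IsCoh (Coh.structureModule Y) := QCoh.isCoh_structureModule'
  let R : ℕ → X.Modules := fun q => (Coh.Rpush f q).obj (Coh.structureModule Y)
  have hR : ∀ q, Coh.IsCoh (R q) := LerayEuler.isCoh_R k f hf _ hO
  let G : ℕ → Y.Modules := fun m =>
    CohB1.tensorMod ((Scheme.Modules.pullback f).obj (CohB1.tensorPow L m)) (Coh.structureModule Y)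
  have hGY : ∀ m p, Module.finrank k (Coh.HH Y (G m) p) =
      hseq k ((Scheme.Modules.pullback f).obj L) (Coh.structureModule Y) p m := fun m p => by
    obtain ⟨a⟩ := IntNum.pullback_tensorPow f L m
    exact HilbPoly.finrank_HH_iso k (PicGrp.tensorModIso a (Iso.refl _) ≪≫
      CurveTensor.commIso (CohB1.tensorPow ((Scheme.Modules.pullback f).obj L) m) (Coh.structureModule Y)) p
  have hGR : ∀ m q p, Module.finrank k (Coh.HH X ((Coh.Rpush f q).obj (G m)) p) = hseq k L (R q) p m :=
    fun m q p => by
    obtain ⟨e⟩ := KFlatLib.nonempty_rpush_tensor_finLocFree f (Coh.structureModule Y) (CohB1.tensorPow L m)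
      (isFinLocFree_inv (InvX.isInvertible_tensorPow hL m)) q
    exact HilbPoly.finrank_HH_iso k (e.symm ≪≫ CurveTensor.commIso (CohB1.tensorPow L m) (R q)) p
  have hsmall : ∀ q p, Bd n (hseq k L (R (q + 1)) p) := fun q => by
    refine bd_of_notMem k hL hn (hR (q + 1)) fun h => h ?_
    have hz := S0037.result f (genericPoint X) hfib (Coh.structureModule Y) hO (q + 1) (Nat.succ_pos q)
    obtain ⟨e₁⟩ := QCoh.nonempty_RpushAb_iso f (Coh.structureModule Y) q
    obtain ⟨e₂⟩ := QCoh.nonempty_Rpush_iso f (Coh.structureModule Y) q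
    have := hz.of_iso ((TopCat.Presheaf.stalkFunctor Ab.{u} (genericPoint X)).mapIso
      ((sheafToPresheaf _ _).mapIso ((QCoh.toAbFunctor X).mapIso e₂ ≪≫ e₁.symm)))
    exact AddCommGrpCat.subsingleton_of_isZero this
  have h1 : Near n (hseq k ((Scheme.Modules.pullback f).obj L) (Coh.structureModule Y) i) (hseq k L (R 0) i) := by
    refine ⟨fun m => ∑ q ∈ Finset.range i, ∑ p ∈ Finset.range (i + 1), hseq k L (R (q + 1)) p m,
      bd_sum _ fun q _ => bd_sum _ fun p _ => hsmall q p, fun m => ?_⟩
    have h := leray_near k f hf (G m)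
      (AmpleVan.isCoh_tensor (AmpleVan.isCoh_invertible (PicClLib.isInvertible_pullback f
        (InvX.isInvertible_tensorPow hL m))) hO) i
    simp only [errR, hGR, hGY] at h
    exact h
  haveI := SpObjSS.enoughInjectives_of_hasInjectiveResolutions (C := Y.Modules)
  haveI := QCoh.preservesFiniteLimits_push f
  let e := ((Scheme.Modules.pushforward f).rightDerivedZeroIsoSelf.app (Coh.structureModule Y))
  exact ⟨QCoh.isCoh_of_iso_finite e.symm (hR 0).1 fun V hV => QCoh.finite_sections (hR 0) hV,
    IntNum.rk_push_structure f f.isClosedMap hdom hone,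
    h1.trans (Near.of_eq fun m => hseq_congr k e i m)⟩

/-- Cohomology of the pulled back powers, against `deg` copies downstairs. -/
theorem near_genFinite {A : X.Modules} (hA : CohB1.IsAmple A) {n : ℕ} (hn : topologicalKrullDim X = n)
    (f : Y ⟶ X) (hf : f ≫ (X ↘ Spec (CommRingCat.of k)) = Y ↘ Spec (CommRingCat.of k))
    (hdom : f.base (genericPoint Y) = genericPoint X) {d : ℕ} (hd : f.residueDegree (genericPoint Y) = d)
    (hd0 : 1 ≤ d) {L : X.Modules} (hL : PicF.IsInvertible L) (i : ℕ) :
    Near n (hseq k ((Scheme.Modules.pullback f).obj L) (Coh.structureModule Y) i)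
      (fun m => d * hseq k L (Coh.structureModule X) i m) := by
  obtain ⟨hc, hrk, h1⟩ := near_push k hn f hf hdom (by omega) hL i
  have h2 := near_free (k := k) hA hn hL hc i
  rw [hrk, hd] at h2
  exact h1.trans h2

/-- A birational morphism changes little. -/
theorem near_birational {n : ℕ} (hn : topologicalKrullDim X = n)
    (f : Y ⟶ X) (hf : f ≫ (X ↘ Spec (CommRingCat.of k)) = Y ↘ Spec (CommRingCat.of k))
    (hdom : f.base (genericPoint Y) = genericPoint X) (hd : f.residueDegree (genericPoint Y) = 1)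
    {L : X.Modules} (hL : PicF.IsInvertible L) (i : ℕ) :
    Near n (hseq k ((Scheme.Modules.pullback f).obj L) (Coh.structureModule Y) i)
      (hseq k L (Coh.structureModule X) i) := by
  haveI := CurveCohLib.isNoetherian_of_proper (k := k) (X := X)
  obtain ⟨hc, hrk, h1⟩ := near_push k hn f hf hdom (by omega) hL i
  let P := (Scheme.Modules.pushforward f).obj (Coh.structureModule Y)
  let φ : Coh.structureModule X ⟶ P := QCoh.homOfTop (show Γ(P, ⊤) from (1 : Γ(Y, f ⁻¹ᵁ ⊤)))
  refine h1.trans (near_of_generic k hL hn QCoh.isCoh_structureModule' hc φ ?_ i).symm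
  set ξ := genericPoint X
  let S := X.presheaf.stalk ξ
  letI : Field S := (CurveBundle.isField_stalk_generic (X := X)).toField
  let V := (DerSch.stalkFunctor X ξ).obj (Coh.structureModule X)
  let W := (DerSch.stalkFunctor X ξ).obj P
  let g : V →ₗ[S] W := ((DerSch.stalkFunctor X ξ).map φ).hom
  let one' : V := (Coh.structureModule X).presheaf.germ ⊤ ξ trivial (show Γ(Coh.structureModule X, ⊤) from (1 : Γ(X, ⊤)))
  have hne : g one' ≠ 0 := by
    intro h0
    have h1' : g one' = P.presheaf.germ ⊤ ξ trivial (show Γ(P, ⊤) from (1 : Γ(Y, f ⁻¹ᵁ ⊤))) := by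
      refine (DerSch.stalkFunctor_map_germ ξ φ ⊤ trivial _).trans ?_
      refine congrArg (P.presheaf.germ ⊤ ξ trivial).hom ?_
      exact (QCoh.homOfTop_app (P := P) _ (1 : Γ(X, ⊤))).trans ((one_smul _ _).trans (QCoh.map_id' (M := P) _ _))
    obtain ⟨W', hW, i', j', hii⟩ := TopCat.Presheaf.germ_eq P.presheaf (U := (⊤ : X.Opens)) (V := (⊤ : X.Opens)) ξ trivial trivial _
      (0 : Γ(P, (⊤ : X.Opens))) ((h1'.symm.trans h0).trans (map_zero _).symm)
    rw [map_zero] at hii
    have hη : genericPoint Y ∈ f ⁻¹ᵁ W' := by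
      show f.base (genericPoint Y) ∈ W'
      rw [hdom]; exact hW
    haveI : Nonempty (f ⁻¹ᵁ W' : Y.Opens) := ⟨⟨_, hη⟩⟩
    exact one_ne_zero (α := Γ(Y, f ⁻¹ᵁ W'))
      ((map_one (Y.presheaf.map ((Opens.map f.base).map i').op).hom).symm.trans hii)
  have hV : ∀ v : V, ∃ c : S, c • one' = v := fun v =>
    ((InvX.isFrame_one (X := X) ⊤).germ_bijective (x := ξ) trivial).2 v
  have hfr : Module.finrank S W = 1 := hrk.trans hd
  refine (ConcreteCategory.isIso_iff_bijective _).2 (show Function.Bijective g from ⟨?_, fun w => ?_⟩)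
  · rw [injective_iff_map_eq_zero]
    intro v hv
    obtain ⟨c, rfl⟩ := hV v
    rw [map_smul] at hv
    rw [(smul_eq_zero.1 hv).resolve_right hne, zero_smul]
  · obtain ⟨c, hc'⟩ := exists_smul_eq_of_finrank_eq_one hfr hne w
    exact ⟨c • one', by rw [map_smul]; exact hc'⟩

end Main

end Groth.Agent.VolLib
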