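import Groth.Agent.VolLib.UnifTools
import Groth.Agent.AssPtX.Noeth
import Groth.Agent.H23.TrivBasic
import Groth.Agent.VarDim.Top
import Mathlib.Algebra.Module.Submodule.Union

/-!
# Sections avoiding the associated points of a coherent module
-/

noncomputable section

set_option autoImplicit false
set_option linter.style.haveILetI false
set_option linter.unusedSectionVars false
set_option backward.isDefEq.respectTransparency false
set_option backward.isDefEq.respectTransparency.types false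
set_option maxHeartbeats 800000

universe u
open CategoryTheory CategoryTheory.Limits AlgebraicGeometry TopologicalSpace
open Groth.Agent.H23

namespace Groth.Agent.VolLib

variable {k : Type u} [Field k] {X : Scheme.{u}} [X.Over (Spec (CommRingCat.of k))]
  [IsProper (X ↘ Spec (CommRingCat.of k))]

/-- The section attached to a class in degree zero. -/
def secOf (B : X.Modules) (c : Coh.HH X B 0) : Γ(B, ⊤) := Sheaf.H.equiv₀ (Coh.toAb B) isTerminalTop c

theorem secOf_add (B : X.Modules) (a b : Coh.HH X B 0) : secOf B (a + b) = secOf B a + secOf B b :=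
  map_add (Sheaf.H.equiv₀ (Coh.toAb B) isTerminalTop) a b

theorem secOf_zero (B : X.Modules) : secOf B (0 : Coh.HH X B 0) = 0 :=
  map_zero (Sheaf.H.equiv₀ (Coh.toAb B) isTerminalTop)

theorem exists_secOf_smul (B : X.Modules) (a : k) :
    ∃ r : Γ(X, ⊤), ∀ c : Coh.HH X B 0, secOf B (a • c) = r • secOf B c :=
  ⟨(show Γ(X, ⊤) from Coh.resTop X (Opposite.op ⊤) (Coh.toGlobal (X ↘ Spec (CommRingCat.of k)) a)),
    fun c => CurveCohLib.h0Equiv_smul B a c⟩

theorem exists_secOf_avoid [Infinite k] {B : X.Modules} (hB : PicF.IsInvertible B) (hgen : Gen B) {P : Set X}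
    (hP : P.Finite) : ∃ c : Coh.HH X B 0, ∀ x ∈ P, x ∈ TrivBasic.locus (secOf B c) := by
  classical
  haveI := hP.to_subtype
  haveI := Fintype.ofFinite P
  choose U hU e he using fun x : X => InvX.exists_frame hB x
  choose g hg using fun (x : X) (c : Coh.HH X B 0) =>
    (he x).exists_coord le_rfl (AModX.res B (le_top : U x ≤ ⊤) (secOf B c))
  simp only [AModX.res_self] at hg
  have hmem : ∀ x c, x ∈ TrivBasic.locus (secOf B c) ↔ IsUnit (X.presheaf.germ (U x) x (hU x) (g x c)) := by
    intro x c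
    have h := TrivBasic.locus_eq_basicOpen (he x) (hg x c)
    constructor
    · intro hx
      exact (Scheme.mem_basicOpen _ _ x (hU x)).1 (h.le ⟨hx, hU x⟩)
    · intro hu
      exact (h.ge ((Scheme.mem_basicOpen _ _ x (hU x)).2 hu)).1
  have huniq : ∀ x (r : Γ(X, U x)) c, AModX.res B (le_top : U x ≤ ⊤) (secOf B c) = r • e x → g x c = r := by
    intro x r c hr
    exact ((he x) (U x) le_rfl).1 (by simpa only [AModX.res_self] using (hg x c).symm.trans hr)
  have hadd : ∀ x a b, g x (a + b) = g x a + g x b := fun x a b => huniq x _ _ (by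
    rw [secOf_add, map_add, hg, hg, add_smul])
  have hzero : ∀ x, g x 0 = 0 := fun x => huniq x _ _ (by rw [secOf_zero, map_zero, zero_smul])
  have hsmul : ∀ x (a : k), ∃ r : Γ(X, U x), ∀ c, g x (a • c) = r * g x c := by
    intro x a
    obtain ⟨r, hr⟩ := exists_secOf_smul B a
    exact ⟨AModX.resR (le_top : U x ≤ ⊤) r, fun c => huniq x _ _ (by rw [hr, AModX.res_smul, hg, mul_smul])⟩
  let p : P → Submodule k (Coh.HH X B 0) := fun x =>
    { carrier := {c | X.presheaf.germ (U x.1) x.1 (hU x.1) (g x.1 c) ∈ IsLocalRing.maximalIdeal _}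
      add_mem' := fun {a b} ha hb => by
        show X.presheaf.germ _ _ _ (g x.1 (a + b)) ∈ IsLocalRing.maximalIdeal _
        rw [hadd, map_add]
        exact Ideal.add_mem _ ha hb
      zero_mem' := by
        show X.presheaf.germ _ _ _ (g x.1 0) ∈ IsLocalRing.maximalIdeal _
        rw [hzero, map_zero]
        exact Ideal.zero_mem _
      smul_mem' := fun a c hc => by
        obtain ⟨r, hr⟩ := hsmul x.1 a
        show X.presheaf.germ _ _ _ (g x.1 (a • c)) ∈ IsLocalRing.maximalIdeal _
        rw [hr, map_mul]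
        exact Ideal.mul_mem_left _ _ hc }
  have hp : ∀ x, p x ≠ ⊤ := by
    intro x htop
    obtain ⟨r, s, hs⟩ := hgen
    obtain ⟨l, hl⟩ := hs x.1
    let c := (Sheaf.H.equiv₀ (Coh.toAb B) isTerminalTop).symm (InvX.one (s l))
    have hc : secOf B c = InvX.one (s l) := (Sheaf.H.equiv₀ (Coh.toAb B) isTerminalTop).apply_symm_apply _
    have hx : x.1 ∈ TrivBasic.locus (secOf B c) := by
      rw [hc]
      refine TrivBasic.mem_locus_iff.2 ?_
      obtain ⟨V, hV, hfr⟩ := InvX.mem_genLocus hl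
      exact ⟨V, hV, hfr⟩
    have hm : c ∈ p x := htop ▸ Submodule.mem_top
    exact (IsLocalRing.mem_maximalIdeal _).1 hm ((hmem x.1 c).1 hx)
  obtain ⟨c, hc⟩ := Submodule.exists_forall_notMem_of_forall_ne_top p hp
  refine ⟨c, fun x hx => (hmem x c).2 ?_⟩
  by_contra hu
  exact hc ⟨x, hx⟩ ((IsLocalRing.mem_maximalIdeal _).2 hu)

/-- A section not vanishing at the weakly associated points. -/
def RegSec (B Q : X.Modules) (s : Coh.structureModule X ⟶ B) : Prop :=
  ∀ x, Curv2.IsWeakAssPoint Q x → x ∈ CohB1.genLocus B s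

theorem exists_regSec [Infinite k] {B : X.Modules} (hB : PicF.IsInvertible B) (hgen : Gen B) {Q : X.Modules}
    (hQ : Coh.IsCoh Q) : ∃ s, RegSec B Q s := by
  haveI := CurveCohLib.isNoetherian_of_proper (k := k) (X := X)
  have hfin := AssPtX.finite_assPoints hQ (U := ⊤) (by
    rw [Opens.coe_top]; exact isCompact_univ)
  obtain ⟨c, hc⟩ := exists_secOf_avoid (k := k) hB hgen hfin
  exact ⟨InvX.ofSect (secOf B c), fun x hx => hc x ⟨trivial, AssPtX.isAssPoint_iff.2 hx⟩⟩

theorem mono_of_regSec {B Q : X.Modules} (hQ : Coh.IsQCoh Q) {s : Coh.structureModule X ⟶ B} (hs : RegSec B Q s) :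
    Mono (AmpleVan.mulSec (InvX.one s) Q) :=
  AssPtX.mono_of_stalk _ hQ fun x => by
    by_cases hx : Curv2.IsWeakAssPoint Q x
    · exact Or.inl ((ConcreteCategory.isIso_iff_bijective _).1 (isoOn_mulSec s Q x (hs x hx))).1
    · exact Or.inr hx

variable (k) in
include k in
/-- Cutting by a section missing no associated point lowers the dimension of the support. -/
theorem dim_lt_of_regSec {B Q : X.Modules} (hB : PicF.IsInvertible B) (hQ : Coh.IsCoh Q)
    {s : Coh.structureModule X ⟶ B} (hs : RegSec B Q s) {d : ℕ}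
    (hd : topologicalKrullDim ↥(CohB1.support Q) < (d : WithBot ℕ∞)) :
    topologicalKrullDim ↥(CohB1.support (cokernel (AmpleVan.mulSec (InvX.one s) Q))) <
      ((d - 1 : ℕ) : WithBot ℕ∞) := by
  classical
  haveI := CurveCohLib.isNoetherian_of_proper (k := k) (X := X)
  let f := X ↘ Spec (CommRingCat.of k)
  have hBQ : Coh.IsCoh ((AmpleVan.tw B).obj Q) := isCoh_tw hB hQ
  have hC := QCoh.isCoh_cokernel hQ.1 hBQ (AmpleVan.mulSec (InvX.one s) Q)
  have hS := QCoh.isClosed_support_of_isFT hQ.1 hQ.2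
  have hsub : CohB1.support (cokernel (AmpleVan.mulSec (InvX.one s) Q)) ⊆ CohB1.support Q := fun x hx =>
    support_tw_subset B Q (QCoh.support_of_epi hBQ.1 hC.1 (cokernel.π _) hx)
  have hout := (Snapper.support_subset_compl (isoOn_mulSec s Q)).2
  have hdeg : ∀ z ∈ CohB1.support Q, VarDim.deg f z < d := by
    intro z hz
    rw [VarDim.topologicalKrullDim_set_eq_iSup_deg f hS] at hd
    have h := (le_iSup (fun z : ↥(CohB1.support Q) => ((VarDim.deg f z : ℕ∞) : WithBot ℕ∞)) ⟨z, hz⟩).trans_lt hd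
    exact_mod_cast h
  have hlt : ∀ x ∈ CohB1.support (cokernel (AmpleVan.mulSec (InvX.one s) Q)), VarDim.deg f x + 2 ≤ d := by
    intro x hx
    let T := {j : ℕ | ∃ z ∈ CohB1.support Q, z ⤳ x ∧ VarDim.deg f z = j}
    have hne : T.Nonempty := ⟨_, x, hsub hx, specializes_rfl, rfl⟩
    have hbd : BddAbove T := ⟨d, fun j ⟨z, hz, _, hj⟩ => hj ▸ (hdeg z hz).le⟩
    obtain ⟨z, hz, hzx, hzj⟩ := Nat.sSup_mem hne hbd
    have hmax : ∀ y : X, y ∈ CohB1.support Q → y ⤳ z → y = z := fun y hy hyz =>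
      VarDim.eq_of_specializes_of_deg_le f hyz
        (hzj ▸ le_csSup hbd ⟨y, hy, hyz.trans hzx, rfl⟩)
    have hzg : z ∈ CohB1.genLocus B s := hs z (AssPtX.isWeakAssPoint_of_maximal hQ.1 hz hmax)
    have hne' : z ≠ x := fun h => hout hx (h ▸ hzg)
    have h1 : VarDim.deg f x < VarDim.deg f z := by
      by_contra hle
      exact hne' (VarDim.eq_of_specializes_of_deg_le f hzx (Nat.le_of_not_lt hle))
    have := hdeg z hz
    omega
  rcases (CohB1.support (cokernel (AmpleVan.mulSec (InvX.one s) Q))).eq_empty_or_nonempty with h0 | ⟨x₀, hx₀⟩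
  · rw [h0]
    haveI : IsEmpty ↥(∅ : Set X) := inferInstance
    haveI : IsEmpty (IrreducibleCloseds ↥(∅ : Set X)) :=
      ⟨fun C => C.isIrreducible'.nonempty.elim fun x _ => isEmptyElim x⟩
    rw [topologicalKrullDim, Order.krullDim_eq_bot]
    exact WithBot.bot_lt_coe _
  · have h2 : 2 ≤ d := le_trans (Nat.le_add_left _ _) (hlt x₀ hx₀)
    rw [VarDim.topologicalKrullDim_set_eq_iSup_deg f (QCoh.isClosed_support_of_isFT hC.1 hC.2)]
    refine lt_of_le_of_lt (iSup_le fun z => (?_ : _ ≤ ((d - 2 : ℕ) : WithBot ℕ∞))) (by exact_mod_cast (by omega : d - 2 < d - 1))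
    have := hlt z z.2
    show ((VarDim.deg f (z : X) : ℕ∞) : WithBot ℕ∞) ≤ ((((d - 2 : ℕ) : ℕ∞)) : WithBot ℕ∞)
    exact WithBot.coe_le_coe.2 (Nat.cast_le.2 (by omega))

end Groth.Agent.VolLib
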