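import Groth.Agent.VolLib.MultiGrowth
import Groth.Agent.IntSym.Curves
import Groth.Agent.NakaiMo.Main

/-!
# The upper growth of sections only depends on the numerical class
-/

noncomputable section

set_option autoImplicit false
set_option linter.style.haveILetI false
set_option linter.unusedSectionVars false
set_option backward.isDefEq.respectTransparency false
set_option backward.isDefEq.respectTransparency.types false
set_option maxHeartbeats 800000

universe u
open CategoryTheory CategoryTheory.Limits AlgebraicGeometry TopologicalSpace Filter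
open Groth.Agent.H23.PicMul

namespace Groth.Agent.VolLib

variable (k : Type u) [Field k] {X : Scheme.{u}} [X.Over (Spec (CommRingCat.of k))]
  [IsProper (X ↘ Spec (CommRingCat.of k))]

/-- Ampleness only depends on the numerical class. -/
theorem isAmple_of_numEq {L L' : X.Modules} (hL : PicF.IsInvertible L) (hL' : PicF.IsInvertible L')
    (hnum : IntSym.NumEq k L' L) (hamp : CohB1.IsAmple L) : CohB1.IsAmple L' := by
  haveI := CurveCohLib.isNoetherian_of_proper (k := k) (X := X)
  refine NakaiMo.isAmple_of_pos k hL' fun W i _ _ d hd0 hd => ?_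
  have hO : Coh.IsCoh ((Coh.push i).obj (Coh.structureModule W)) := QCoh.isCoh_push_structure i
  have hdim := IntSym.dim_push_le i (QCoh.isQCoh_structureModule (X := W)) hd.le
  rw [← IntSym.sym_replicate, ← List.ofFn_const,
    IntSym.sym_ofFn_eq_of_numEq k (L' := fun _ : Fin d => L) (fun _ => hL') (fun _ => hL) (fun _ => hnum) hO hdim,
    List.ofFn_const, IntSym.sym_replicate]
  obtain ⟨C, -, hs, hdC, ⟨e⟩⟩ := IntSym.exists_ideal k i
  refine (HilbPoly.mult_nonneg_and_pos k hamp d _ hO hdim).2 ?_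
  rw [QCoh.support_iso e hO.1, ← hd, ← hdC]
  have hsupp : CohB1.support (ClSub.quotMod C) = (C.support : Set X) := by
    rw [← C.range_subschemeι]
    refine Set.Subset.antisymm (QCoh.support_push_subset C.subschemeι QCoh.isQCoh_structureModule) ?_
    rintro _ ⟨z, rfl⟩ hz
    haveI : Subsingleton ((ClSub.quotMod C).presheaf.stalk (C.subschemeι z)) := hz
    have h := H23.ClosedPushLen.length_stalk C.subschemeι (Coh.structureModule C.subscheme) z
    rw [Module.length_eq_zero, H23.ClosedPushLen.length_structureModule] at h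
    exact absurd (Module.length_eq_zero_iff.1 h.symm) (not_subsingleton _)
  rw [hsupp]

/-- Adding a power of a numerically trivial module keeps ampleness. -/
theorem isAmple_tensor_numTriv {A P : X.Modules} (hA : CohB1.IsAmple A) (hP : PicF.IsInvertible P)
    (hnum : Pic13.IsNumEquivZero k X P) (q : ℕ) : CohB1.IsAmple (CohB1.tensorMod A (CohB1.tensorPow P q)) := by
  haveI := CurveCohLib.isNoetherian_of_proper (k := k) (X := X)
  have hPq := InvX.isInvertible_tensorPow hP q
  refine isAmple_of_numEq k hA.1 (InvX.isInvertible_tensorMod hA.1 hPq) (fun Z i _ _ hZ => ?_) hA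
  have hO : Coh.IsCoh ((Coh.push i).obj (Coh.structureModule Z)) := QCoh.isCoh_push_structure i
  have hd := IntSym.dim_push_le i (QCoh.isQCoh_structureModule (X := Z)) (d := ((1 : ℕ) : WithBot ℕ∞))
    (by rw [Nat.cast_one]; exact hZ.le)
  rw [IntSym.sym_tensor_head k hA.1 hPq (l := []) (List.forall_mem_nil _) hO hd,
    IntSym.sym_tensorPow_head k hP (l := []) (List.forall_mem_nil _) hO hd q,
    ← IntSym.curveDeg_eq k i hZ hP, hnum Z i ‹_› hZ, mul_zero, add_zero]

theorem isNumEquivZero_inverse {P P' : X.Modules} (hP : PicF.IsInvertible P) (hP' : PicF.IsInvertible P')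
    (e : CohB1.tensorMod P P' ≅ Coh.structureModule X) (hnum : Pic13.IsNumEquivZero k X P) :
    Pic13.IsNumEquivZero k X P' := by
  haveI := CurveCohLib.isNoetherian_of_proper (k := k) (X := X)
  intro Z i _ hZi hZ
  have hO : Coh.IsCoh ((Coh.push i).obj (Coh.structureModule Z)) :=
    haveI := hZi; QCoh.isCoh_push_structure i
  have hd := IntSym.dim_push_le i (QCoh.isQCoh_structureModule (X := Z)) (d := ((1 : ℕ) : WithBot ℕ∞))
    (by rw [Nat.cast_one]; exact hZ.le)
  have h := hnum Z i hZi hZ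
  rw [IntSym.curveDeg_eq k i hZ hP, IntSym.sym_inverse_head k hP hP' e (l := []) (List.forall_mem_nil _) hO hd] at h
  rw [IntSym.curveDeg_eq k i hZ hP']
  linarith

variable [IsIntegral X]

theorem vol_le {A : X.Modules} (hA : CohB1.IsAmple A) {n : ℕ} (hn : topologicalKrullDim X = n)
    {L P P' : X.Modules} (hL : PicF.IsInvertible L) (hP : PicF.IsInvertible P) (hP' : PicF.IsInvertible P')
    (e : CohB1.tensorMod P P' ≅ Coh.structureModule X) (hnum : Pic13.IsNumEquivZero k X P') :
    vsup n (hseq k (CohB1.tensorMod L P) (Coh.structureModule X) 0) ≤ vsup n (hseq k L (Coh.structureModule X) 0) := by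
  haveI := CurveCohLib.isNoetherian_of_proper (k := k) (X := X)
  haveI : X.IsSeparated := AmpleVan.isSeparated_of_proper (A := k)
  have hO : Coh.IsCoh (Coh.structureModule X) := QCoh.isCoh_structureModule'
  have hLP := InvX.isInvertible_tensorMod hL hP
  obtain ⟨L', -, hL'⟩ := H23.PicInv.exists_inverse hL
  obtain ⟨A', -, hA'⟩ := H23.PicInv.exists_inverse hA.1
  let Ls : Fin 2 → X.Modules := ![L, A]
  let Ms : Fin 2 → X.Modules := ![L', A']
  have hLs : ∀ j, PicF.IsInvertible (Ls j) := by
    intro j; fin_cases j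
    · exact hL
    · exact hA.1
  have hMs : ∀ j, ClSub.IsInverseOf (Ls j) (Ms j) := by
    intro j; fin_cases j
    · exact hL'
    · exact hA'
  obtain ⟨C, hC⟩ := lip_integral k (zFam hLs hMs) hn 0
  have hcl : ∀ a b : ℕ, PicF.cl (W4c5asymptcohfn.ztwist X Ls Ms ![(a : ℤ), (b : ℤ)]) = PicF.cl L ^ a * PicF.cl A ^ b := by
    intro a b
    rw [cl_ztwist hLs hMs, Fin.prod_univ_two, Units.val_mul]
    show ((ucl hL ^ (a : ℤ) : (PicF.Cl X)ˣ) : PicF.Cl X) * ((ucl hA.1 ^ (b : ℤ) : (PicF.Cl X)ˣ) : PicF.Cl X) = _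
    rw [zpow_natCast, zpow_natCast, Units.val_pow_eq_pow_val, Units.val_pow_eq_pow_val, val_ucl, val_ucl]
  have hg : ∀ a b : ℕ, gseq k (zFam hLs hMs) (Coh.structureModule X) 0 ![(a : ℤ), (b : ℤ)] =
      Module.finrank k (Coh.HH X (CohB1.tensorMod (CohB1.tensorPow L a) (CohB1.tensorPow A b)) 0) := fun a b =>
    finrank_congr_cl (by
      show PicF.cl (CohB1.tensorMod _ (W4c5asymptcohfn.ztwist X Ls Ms ![(a : ℤ), (b : ℤ)])) = _
      rw [cl_tensor, hcl, ← H23.PicMul.one_def, one_mul, cl_tensor, cl_tensorPow, cl_tensorPow])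
  let f := hseq k (CohB1.tensorMod L P) (Coh.structureModule X) 0
  let g := hseq k L (Coh.structureModule X) 0
  have hfb : Bd (n + 1) f := bd_all k hLP hn.le hO 0
  have hgb : Bd (n + 1) g := bd_all k hL hn.le hO 0
  have hgg : ∀ m : ℕ, g m = gseq k (zFam hLs hMs) (Coh.structureModule X) 0 ![(m : ℤ), ((0 : ℕ) : ℤ)] := fun m => by
    rw [hg]
    exact finrank_congr_cl (by
      show PicF.cl (CohB1.tensorMod _ (CohB1.tensorPow L m)) = _
      simp only [cl_tensor, cl_tensorPow, ← H23.PicMul.one_def, one_mul, pow_zero, mul_one])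
  set K : ℝ := (C : ℝ) * 2 ^ n * (n.factorial : ℝ) with hK
  have key : ∀ q : ℕ, 1 ≤ q → vsup n f ≤ vsup n g + K / q := by
    intro q hq
    have hB : CohB1.IsAmple (CohB1.tensorMod A (CohB1.tensorPow P' q)) := isAmple_tensor_numTriv k hA hP' hnum q
    obtain ⟨k₀, hk₀⟩ := exists_section_twist hB (InvX.isInvertible_structureModule (X := X))
    have hineq : ∀ c, max k₀ 1 ≤ c → f (q * c) ≤ g (q * c) + c * (C * pT n (q * c + 1)) := by
      intro c hc
      obtain ⟨σ, hσ⟩ := hk₀ c (le_of_max_le_left hc)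
      have hu : PicF.cl P * PicF.cl P' = 1 := by
        rw [← cl_tensor, H23.PicMul.one_def]; exact cl_eq_iff.2 ⟨e⟩
      have h1 : f (q * c) ≤ gseq k (zFam hLs hMs) (Coh.structureModule X) 0 ![((q * c : ℕ) : ℤ), (c : ℤ)] := by
        rw [hg]
        refine le_trans (le_of_eq (finrank_congr_cl (F := CohB1.tensorPow (CohB1.tensorMod L P) (q * c)) ?_))
          ((finrank_le_tensor (k := k) (isFinLocFree_inv (InvX.isInvertible_tensorPow hLP _))
            (isFinLocFree_inv (InvX.isInvertible_tensorMod InvX.isInvertible_structureModule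
              (InvX.isInvertible_tensorPow hB.1 c))) σ hσ).trans_eq (finrank_congr_cl ?_))
        · show PicF.cl (CohB1.tensorMod _ (CohB1.tensorPow (CohB1.tensorMod L P) (q * c))) = _
          rw [cl_tensor, ← H23.PicMul.one_def, one_mul]
        · simp only [cl_tensor, cl_tensorPow, ← H23.PicMul.one_def, one_mul, mul_pow, ← pow_mul]
          rw [mul_mul_mul_comm, ← mul_pow (PicF.cl P), hu, one_pow, mul_one]
      have h2 := hC ![((q * c : ℕ) : ℤ), (c : ℤ)] ![((q * c : ℕ) : ℤ), ((0 : ℕ) : ℤ)]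
      have hd : dist1 ![((q * c : ℕ) : ℤ), (c : ℤ)] ![((q * c : ℕ) : ℤ), ((0 : ℕ) : ℤ)] = c := by
        simp [dist1, Fin.sum_univ_two]
      have hs : max (sz ![((q * c : ℕ) : ℤ), (c : ℤ)]) (sz ![((q * c : ℕ) : ℤ), ((0 : ℕ) : ℤ)]) ≤ q * c := by
        have hcq : c ≤ q * c := Nat.le_mul_of_pos_left c hq
        refine max_le (Finset.sup_le fun j _ => ?_) (Finset.sup_le fun j _ => ?_) <;>
        · fin_cases j <;> simp [Int.natAbs_mul, hcq]
      rw [hd] at h2
      rw [hgg]
      exact h1.trans (h2.trans (Nat.add_le_add_left (Nat.mul_le_mul_left _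
        (Nat.mul_le_mul_left _ (pT_mono n (Nat.add_le_add_right hs 1)))) _))
    have hq' : (0 : ℝ) < q := by exact_mod_cast hq
    have hgs : Bd (n + 1) (fun c => g (q * c)) := by
      obtain ⟨D, hD⟩ := hgb
      refine ⟨D * (q + 1) ^ (n + 1), fun c => ?_⟩
      refine (Nat.mul_le_mul_left _ (Nat.add_le_add_right (Nat.le_mul_of_pos_left c hq) 1)).trans ((hD _).trans ?_)
      rw [mul_assoc, ← mul_pow]
      exact Nat.mul_le_mul_left _ (Nat.pow_le_pow_left (by rw [Nat.add_mul, Nat.mul_succ]; omega) _)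
    have h3 : vsup n (fun c => f (q * c)) ≤ vsup n (fun c => g (q * c)) + K * (q : ℝ) ^ n / q := by
      refine le_trans ?_ (le_of_eq rfl)
      refine le_of_forall_pos_le_add fun ε hε => limsup_le_of_le (isCobounded_nseq n _) ?_
      filter_upwards [eventually_lt_of_limsup_lt (lt_add_of_pos_right (vsup n (fun c => g (q * c))) hε) hgs.isBounded_nseq,
        eventually_ge_atTop (max k₀ 1)] with c h1 h2
      have hc0 : (0 : ℝ) < c := by exact_mod_cast lt_of_lt_of_le Nat.one_pos (le_of_max_le_right h2)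
      have h4 : c * (C * pT n (q * c + 1)) * q ≤ C * 2 ^ n * q ^ n * c ^ n := by
        have hc1 : 1 ≤ q * c := Nat.mul_pos hq (le_of_max_le_right h2)
        rcases n with _ | d
        · simp [pT]
        · calc c * (C * (q * c + 1) ^ d) * q ≤ c * (C * (2 * (q * c)) ^ d) * q :=
                Nat.mul_le_mul_right _ (Nat.mul_le_mul_left _ (Nat.mul_le_mul_left _ (Nat.pow_le_pow_left (by omega) _)))
            _ = C * 2 ^ d * q ^ (d + 1) * c ^ (d + 1) := by rw [mul_pow, mul_pow, pow_succ c, pow_succ q]; ring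
            _ ≤ _ := Nat.mul_le_mul_right _ (Nat.mul_le_mul_right _ (Nat.mul_le_mul_left _
                (Nat.pow_le_pow_right (by omega) (Nat.le_succ d))))
      have h5 : (f (q * c) : ℝ) ≤ (g (q * c) : ℝ) + ((c * (C * pT n (q * c + 1)) : ℕ) : ℝ) := by
        exact_mod_cast hineq c h2
      have h6 : ((c * (C * pT n (q * c + 1)) : ℕ) : ℝ) * q ≤ (C : ℝ) * 2 ^ n * (q : ℝ) ^ n * (c : ℝ) ^ n := by
        exact_mod_cast h4
      have h7 : nseq n (fun c => f (q * c)) c ≤ nseq n (fun c => g (q * c)) c + K * (q : ℝ) ^ n / q := by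
        simp only [nseq]
        rw [div_add_div _ _ (by positivity) hq'.ne', div_le_div_iff₀ (by positivity) (by positivity)]
        have hp : (0 : ℝ) < (c : ℝ) ^ n := by positivity
        have hf' : (0 : ℝ) ≤ (n.factorial : ℝ) := Nat.cast_nonneg _
        calc (f (q * c) : ℝ) * n.factorial * ((c : ℝ) ^ n * q)
            ≤ ((g (q * c) : ℝ) + ((c * (C * pT n (q * c + 1)) : ℕ) : ℝ)) * n.factorial * ((c : ℝ) ^ n * q) := by
              gcongr
          _ = (g (q * c) : ℝ) * n.factorial * ((c : ℝ) ^ n * q) +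
              ((c * (C * pT n (q * c + 1)) : ℕ) : ℝ) * q * (n.factorial * (c : ℝ) ^ n) := by ring
          _ ≤ (g (q * c) : ℝ) * n.factorial * ((c : ℝ) ^ n * q) +
              (C : ℝ) * 2 ^ n * (q : ℝ) ^ n * (c : ℝ) ^ n * (n.factorial * (c : ℝ) ^ n) := by
              gcongr
          _ = _ := by rw [hK]; ring
      linarith
    rw [vsup_scale hfb (near_succ_all k hLP hn hO 0) hq, vsup_scale hgb (near_succ_all k hL hn hO 0) hq] at h3
    have hqn : (0 : ℝ) < (q : ℝ) ^ n := by positivity
    refine le_of_mul_le_mul_left ?_ hqn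
    rw [mul_add]
    calc (q : ℝ) ^ n * vsup n f ≤ (q : ℝ) ^ n * vsup n g + K * (q : ℝ) ^ n / q := h3
      _ = _ := by ring
  exact le_of_tendsto_of_tendsto tendsto_const_nhds
    (by simpa using! (tendsto_const_nhds (x := vsup n g)).add (tendsto_const_div_atTop_nhds_zero_nat K))
    (eventually_atTop.2 ⟨1, key⟩)

end Groth.Agent.VolLib
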