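import Groth.Agent.VolLib.UnifMain
import Groth.Agent.VolLib.SecAvoid
import Groth.Agent.ExpDescLib.Core

/-!
# Cohomology of twists along cokernels of sections of numerically fixed classes

`Lev w Q`: `Q` is obtained from a numerically trivial invertible module by successively taking cokernels of
sections of the classes listed in `w`, each avoiding the associated points. The cohomology of
`Q ⊗ N ⊗ H₀^a ⊗ H₁^{-t}` (`t ≤ a`) is `O(a^(n - |w|))` uniformly in `Q` and the numerically trivial `N`.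
-/

noncomputable section

set_option autoImplicit false
set_option linter.style.haveILetI false
set_option linter.unusedSectionVars false
set_option backward.isDefEq.respectTransparency false
set_option backward.isDefEq.respectTransparency.types false
set_option maxHeartbeats 800000

universe u
open CategoryTheory CategoryTheory.Limits AlgebraicGeometry TopologicalSpace
open Groth.Agent.H23.PicMul

namespace Groth.Agent.VolLib

variable {k : Type u} [Field k] {X : Scheme.{u}} [X.Over (Spec (CommRingCat.of k))]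
  [IsProper (X ↘ Spec (CommRingCat.of k))]

theorem GoodF.dimH_left {G : X.Modules ⥤ X.Modules} (hG : GoodF G) {S : ShortComplex X.Modules} (hS : S.ShortExact)
    (h₁ : Coh.IsCoh S.X₁) (h₂ : Coh.IsCoh S.X₂) (h₃ : Coh.IsCoh S.X₃) (q : ℕ) :
    dimH k (G.obj S.X₁) q ≤ dimH k (G.obj S.X₂) q + dimH k (G.obj S.X₃) (q - 1) := by
  obtain ⟨_, hT⟩ := hG.ses hS
  simp only [dimH_def]
  have e := hh_left_le (k := k) hT
  exact e (hG.coh h₁) (hG.coh h₂) (hG.coh h₃) q

theorem GoodF.dimH_zero_le {G : X.Modules ⥤ X.Modules} (hG : GoodF G) {S : ShortComplex X.Modules} (hS : S.ShortExact)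
    (h₂ : Coh.IsCoh S.X₂) : dimH k (G.obj S.X₁) 0 ≤ dimH k (G.obj S.X₂) 0 := by
  obtain ⟨_, hT⟩ := hG.ses hS
  haveI : Mono (G.map S.f) := hT.mono_f
  rw [dimH_def, dimH_def]
  exact finrank_le_of_mono (k := k) (G.map S.f) (hG.coh h₂)

theorem GoodF.dimH_right {G : X.Modules ⥤ X.Modules} (hG : GoodF G) {S : ShortComplex X.Modules} (hS : S.ShortExact)
    (h₁ : Coh.IsCoh S.X₁) (h₂ : Coh.IsCoh S.X₂) (h₃ : Coh.IsCoh S.X₃) (q : ℕ) :
    dimH k (G.obj S.X₃) q ≤ dimH k (G.obj S.X₂) q + dimH k (G.obj S.X₁) (q + 1) := by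
  obtain ⟨_, hT⟩ := hG.ses hS
  simp only [dimH_def]
  have e := hh_right_le (k := k) hT
  exact e (hG.coh h₁) (hG.coh h₂) (hG.coh h₃) q

theorem euler_of_cl {M N : X.Modules} (h : PicF.cl M = PicF.cl N) : Curv2.euler k X M = Curv2.euler k X N :=
  CurveCohLib.euler_congr (k := k) (cl_eq_iff.1 h).some

theorem subsingleton_of_cl {M N : X.Modules} (h : PicF.cl M = PicF.cl N) {q : ℕ}
    (hM : Subsingleton (Coh.HH X M q)) : Subsingleton (Coh.HH X N q) :=
  QCoh.subsingleton_HH_of_iso (cl_eq_iff.1 h).some q hM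

theorem cl_tw (P M : X.Modules) : PicF.cl ((AmpleVan.tw P).obj M) = PicF.cl M * PicF.cl P := cl_tensor M P

theorem gen_of_gg [CompactSpace X] {B : X.Modules} (hB : PicF.IsInvertible B) (hgg : Curv2.IsGloballyGenerated B) :
    Gen B := by
  classical
  choose s hs using fun x => ExpDescLib.exists_genLocus hB hgg x
  obtain ⟨T, hT⟩ := isCompact_univ.elim_finite_subcover (fun x : X => (CohB1.genLocus B (s x) : Set X))
    (fun x => (CohB1.genLocus B (s x)).2) (fun x _ => Set.mem_iUnion.2 ⟨x, hs x⟩)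
  refine ⟨T.card, fun l => s (T.equivFin.symm l).1, fun x => ?_⟩
  obtain ⟨y, hy, hxy⟩ := Set.mem_iUnion₂.1 (hT (Set.mem_univ x))
  exact ⟨T.equivFin ⟨y, hy⟩, by simp only [Equiv.symm_apply_apply]; exact hxy⟩

theorem Gen.pow {B : X.Modules} (h : Gen B) (hB : PicF.IsInvertible B) (p : ℕ) :
    Gen (CohB1.tensorPow B (p + 1)) := by
  obtain ⟨r, s, hs⟩ := h
  exact ⟨r, fun l => InvX.powHom (s l) (p + 1), fun x => (hs x).imp fun l hl => by
    rw [InvX.genLocus_powHom hB]; exact hl⟩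

variable (k) in
/-- Obtained from a numerically trivial module by cutting with sections of the classes in `w`. -/
def Lev (H : Fin 2 → X.Modules) : List (Fin 2) → X.Modules → Prop
  | [], Q => ∃ N, NT k N ∧ Nonempty (Q ≅ N)
  | j :: w, Q => ∃ (N Q₀ B : X.Modules) (s : Coh.structureModule X ⟶ B), NT k N ∧ Lev H w Q₀ ∧
      PicF.IsInvertible B ∧ PicF.cl B = PicF.cl (H j) * PicF.cl N ∧ RegSec B Q₀ s ∧
      Nonempty (Q ≅ cokernel (AmpleVan.mulSec (InvX.one s) Q₀))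

variable {H : Fin 2 → X.Modules}

theorem Lev.coh : ∀ {w : List (Fin 2)} {Q : X.Modules}, Lev k H w Q → Coh.IsCoh Q
  | [], Q, ⟨N, hN, ⟨e⟩⟩ => by
    haveI := CurveCohLib.isNoetherian_of_proper (k := k) (X := X)
    exact QCoh.isCoh_of_mono e.hom (AmpleVan.isCoh_invertible hN.1)
      ((QCoh.isQCoh_iff_iso e).2 (ProjUPX.isQCoh_of_isInvertible hN.1))
  | j :: w, Q, ⟨N, Q₀, B, s, _, h₀, hB, _, _, ⟨e⟩⟩ => by
    haveI := CurveCohLib.isNoetherian_of_proper (k := k) (X := X)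
    have hc := QCoh.isCoh_cokernel h₀.coh.1 (isCoh_tw hB h₀.coh) (AmpleVan.mulSec (InvX.one s) Q₀)
    exact QCoh.isCoh_of_mono e.hom hc ((QCoh.isQCoh_iff_iso e).2 hc.1)

theorem Lev.step {j : Fin 2} {w : List (Fin 2)} {Q : X.Modules} (h : Lev k H (j :: w) Q) :
    ∃ (N Q₀ B : X.Modules) (f : Q₀ ⟶ (AmpleVan.tw B).obj Q₀) (h0 : f ≫ cokernel.π f = 0),
      NT k N ∧ Lev k H w Q₀ ∧ PicF.IsInvertible B ∧ PicF.cl B = PicF.cl (H j) * PicF.cl N ∧
      (ShortComplex.mk f (cokernel.π f) h0).ShortExact ∧ Coh.IsCoh ((AmpleVan.tw B).obj Q₀) ∧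
      Coh.IsCoh (cokernel f) ∧ Nonempty (Q ≅ cokernel f) := by
  haveI := CurveCohLib.isNoetherian_of_proper (k := k) (X := X)
  obtain ⟨N, Q₀, B, s, hN, h₀, hB, hcl, hs, e⟩ := h
  haveI := mono_of_regSec h₀.coh.1 hs
  exact ⟨N, Q₀, B, _, cokernel.condition _, hN, h₀, hB, hcl,
    { exact := ShortComplex.exact_of_g_is_cokernel _ (cokernelIsCokernel _) },
    isCoh_tw hB h₀.coh, QCoh.isCoh_cokernel h₀.coh.1 (isCoh_tw hB h₀.coh) _, e⟩

theorem Lev.dim {n : ℕ} (hn : topologicalKrullDim X ≤ (n : WithBot ℕ∞)) :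
    ∀ {w : List (Fin 2)} {Q : X.Modules}, Lev k H w Q →
      topologicalKrullDim ↥(CohB1.support Q) < ((n + 1 - w.length : ℕ) : WithBot ℕ∞)
  | [], Q, _ => ((topologicalKrullDim_subspace_le X _).trans hn).trans_lt (by exact_mod_cast Nat.lt_succ_self n)
  | j :: w, Q, h => by
    haveI := CurveCohLib.isNoetherian_of_proper (k := k) (X := X)
    obtain ⟨N, Q₀, B, s, _, h₀, hB, _, hs, ⟨e⟩⟩ := id h
    have hd := dim_lt_of_regSec k hB h₀.coh hs (Lev.dim hn h₀)
    rw [QCoh.support_iso e h.coh.1, show n + 1 - (j :: w).length = n + 1 - w.length - 1 by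
      rw [List.length_cons]; omega]
    exact hd

theorem euler_lev {H₀ : X.Modules} (hH₀ : CohB1.IsAmple H₀) {n : ℕ} (hn : topologicalKrullDim X ≤ (n : WithBot ℕ∞))
    (hH : ∀ j, PicF.IsInvertible (H j)) :
    ∀ (w : List (Fin 2)) (G : X.Modules), PicF.IsInvertible G → ∀ Q Q', Lev k H w Q → Lev k H w Q' →
      ∀ N N', NT k N → NT k N' →
        Curv2.euler k X ((AmpleVan.tw (CohB1.tensorMod G N)).obj Q) =
          Curv2.euler k X ((AmpleVan.tw (CohB1.tensorMod G N')).obj Q')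
  | [], G, hG, Q, Q', ⟨M, hM, ⟨e⟩⟩, ⟨M', hM', ⟨e'⟩⟩, N, N', hN, hN' => by
    haveI := CurveCohLib.isNoetherian_of_proper (k := k) (X := X)
    have hu := unif k hH₀ (AmpleVan.isCoh_invertible hG) (d := n + 1)
      (((topologicalKrullDim_subspace_le X _).trans hn).trans_lt (by exact_mod_cast Nat.lt_succ_self n))
    have key : ∀ {Q M N : X.Modules}, (Q ≅ M) → NT k M → NT k N →
        Curv2.euler k X ((AmpleVan.tw (CohB1.tensorMod G N)).obj Q) = Curv2.euler k X G := fun {Q M N} e hM hN => by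
      rw [← hu.chi _ (hM.tensor hN)]
      exact euler_of_cl (by rw [cl_tw, cl_tw, cl_tensor, cl_tensor, cl_eq_iff.2 ⟨e⟩, mul_left_comm])
    rw [key e hM hN, key e' hM' hN']
  | j :: w, G, hG, Q, Q', h, h', N, N', hN, hN' => by
    have key : ∀ {Q N : X.Modules}, Lev k H (j :: w) Q → NT k N → ∃ (Q₀ M : X.Modules), Lev k H w Q₀ ∧ NT k M ∧
        Curv2.euler k X ((AmpleVan.tw (CohB1.tensorMod G N)).obj Q) =
          Curv2.euler k X ((AmpleVan.tw (CohB1.tensorMod (CohB1.tensorMod (H j) G) M)).obj Q₀) -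
            Curv2.euler k X ((AmpleVan.tw (CohB1.tensorMod G N)).obj Q₀) := fun {Q N} h hN => by
      obtain ⟨N₀, Q₀, B, f, h0, hN₀, h₀, hB, hcl, hS, hB₀, hc, ⟨e⟩⟩ := h.step
      refine ⟨Q₀, CohB1.tensorMod N₀ N, h₀, hN₀.tensor hN, ?_⟩
      obtain ⟨θ⟩ := exists_twCompIso (P := B) (Q := CohB1.tensorMod G N)
        (R := CohB1.tensorMod (CohB1.tensorMod (H j) G) (CohB1.tensorMod N₀ N)) (by
          simp only [cl_tensor, hcl]; ac_rfl)
      have hadd := (goodF_tw k (InvX.isInvertible_tensorMod hG hN.1)).euler_add (k := k) hS h₀.coh hB₀ hc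
      rw [euler_comp θ Q₀] at hadd
      rw [CurveCohLib.euler_congr (k := k) ((AmpleVan.tw (CohB1.tensorMod G N)).mapIso e)]
      change Curv2.euler k X ((AmpleVan.tw (CohB1.tensorMod (CohB1.tensorMod (H j) G) (CohB1.tensorMod N₀ N))).obj Q₀) =
        Curv2.euler k X ((AmpleVan.tw (CohB1.tensorMod G N)).obj Q₀) +
          Curv2.euler k X ((AmpleVan.tw (CohB1.tensorMod G N)).obj (cokernel f)) at hadd
      omega
    obtain ⟨Q₀, M, h₀, hM, e⟩ := key h hN
    obtain ⟨Q₀', M', h₀', hM', e'⟩ := key h' hN'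
    rw [e, e', euler_lev hH₀ hn hH w _ (InvX.isInvertible_tensorMod (hH j) hG) _ _ h₀ h₀' _ _ hM hM',
      euler_lev hH₀ hn hH w G hG _ _ h₀ h₀' _ _ hN hN']

theorem van_lev {H₀ : X.Modules} (hH₀ : CohB1.IsAmple H₀) {n : ℕ} (hn : topologicalKrullDim X ≤ (n : WithBot ℕ∞))
    (hH : ∀ j, PicF.IsInvertible (H j)) :
    ∀ (w : List (Fin 2)) (G : X.Modules), PicF.IsInvertible G → ∃ m₀, ∀ a, m₀ ≤ a → ∀ Q, Lev k H w Q →
      ∀ N, NT k N → ∀ q, Subsingleton (Coh.HH X ((AmpleVan.tw (CohB1.tensorMod G (tP H₀ N a))).obj Q) (q + 1))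
  | [], G, hG => by
    haveI := CurveCohLib.isNoetherian_of_proper (k := k) (X := X)
    obtain ⟨m₀, hv⟩ := (unif k hH₀ (AmpleVan.isCoh_invertible hG) (d := n + 1)
      (((topologicalKrullDim_subspace_le X _).trans hn).trans_lt (by exact_mod_cast Nat.lt_succ_self n))).van
    refine ⟨m₀, fun a ha Q ⟨M, hM, ⟨e⟩⟩ N hN q =>
      subsingleton_of_cl ?_ (hv (CohB1.tensorMod M N) (hM.tensor hN) a ha q)⟩
    simp only [cl_tw, cl_tensor, cl_eq_iff.2 ⟨e⟩]
    ac_rfl
  | j :: w, G, hG => by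
    obtain ⟨m₁, h₁⟩ := van_lev hH₀ hn hH w G hG
    obtain ⟨m₂, h₂⟩ := van_lev hH₀ hn hH w _ (InvX.isInvertible_tensorMod (hH j) hG)
    refine ⟨max m₁ m₂, fun a ha Q h N hN q => ?_⟩
    obtain ⟨N₀, Q₀, B, f, h0, hN₀, h₀, hB, hcl, hS, hB₀, hc, ⟨e⟩⟩ := h.step
    refine QCoh.subsingleton_HH_of_iso ((AmpleVan.tw _).mapIso e.symm) _ ?_
    have hP := InvX.isInvertible_tensorMod hG (isInvertible_tP hH₀.1 hN.1 a)
    obtain ⟨θ⟩ := exists_twCompIso (P := B) (Q := CohB1.tensorMod G (tP H₀ N a))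
      (R := CohB1.tensorMod (CohB1.tensorMod (H j) G) (tP H₀ (CohB1.tensorMod N₀ N) a)) (by
        simp only [cl_tensor, hcl]; ac_rfl)
    refine subsingleton_of_dimH ((goodF_tw k hP).coh hc) (k := k) (Nat.eq_zero_of_le_zero ?_)
    refine ((goodF_tw k hP).dimH_right (k := k) hS h₀.coh hB₀ hc (q + 1)).trans_eq ?_
    dsimp only
    rw [dimH_comp θ Q₀, dimH_of_subsingleton (h₂ a (le_of_max_le_right ha) Q₀ h₀ _ (hN₀.tensor hN) q),
      dimH_of_subsingleton (h₁ a (le_of_max_le_left ha) Q₀ h₀ N hN (q + 1))]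

theorem h0_lev {H₀ : X.Modules} (hH₀ : CohB1.IsAmple H₀) {n : ℕ} (hn : topologicalKrullDim X ≤ (n : WithBot ℕ∞))
    (hH : ∀ j, PicF.IsInvertible (H j)) (w : List (Fin 2)) :
    ∃ C m₀, ∀ a, m₀ ≤ a → ∀ Q, Lev k H w Q → ∀ N, NT k N →
      dimH k ((AmpleVan.tw (tP H₀ N a)).obj Q) 0 ≤ C * pT (n + 1 - w.length) (a + 1) := by
  classical
  obtain ⟨m₀, hv⟩ := van_lev (H := H) (k := k) hH₀ hn hH w _ (InvX.isInvertible_structureModule (X := X))
  by_cases hex : ∃ Q₁, Lev k H w Q₁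
  · obtain ⟨Q₁, hQ₁⟩ := hex
    obtain ⟨C, hC⟩ := (unif k hH₀ hQ₁.coh (hQ₁.dim hn)).h0
    refine ⟨C, m₀, fun a ha Q hQ N hN => le_of_eq_of_le ?_ (hC _ NT.one a)⟩
    have hpos : ∀ Q, Lev k H w Q → ∀ N, NT k N →
        (dimH k ((AmpleVan.tw (tP H₀ N a)).obj Q) 0 : ℤ) =
          Curv2.euler k X ((AmpleVan.tw (CohB1.tensorMod (CohB1.tensorPow H₀ a) N)).obj Q) := fun Q hQ N hN => by
      obtain ⟨θ⟩ := exists_twIso (P := CohB1.tensorMod (CohB1.tensorPow H₀ a) N) (Q := tP H₀ N a)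
        (by rw [cl_tensor, cl_tensor, mul_comm])
      obtain ⟨θ'⟩ := exists_twIso (P := CohB1.tensorMod (Coh.structureModule X) (tP H₀ N a)) (Q := tP H₀ N a)
        (by rw [cl_tensor, ← H23.PicMul.one_def, one_mul])
      rw [CurveCohLib.euler_congr (k := k) (θ.app Q), euler_one fun q =>
        QCoh.subsingleton_HH_of_iso (θ'.app Q) _ (hv a ha Q hQ N hN q)]
    have h := (hpos Q hQ N hN).trans ((euler_lev hH₀ hn hH w _ (InvX.isInvertible_tensorPow hH₀.1 a) Q Q₁ hQ hQ₁ N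
      _ hN NT.one).trans (hpos Q₁ hQ₁ _ NT.one).symm)
    exact_mod_cast h
  · exact ⟨0, 0, fun a _ Q hQ => absurd ⟨Q, hQ⟩ hex⟩

/-- **Uniform bound on all cohomology groups.** -/
theorem dimH_lev [Infinite k] (hH₀ : CohB1.IsAmple (H 0)) {n : ℕ} (hn : topologicalKrullDim X ≤ (n : WithBot ℕ∞))
    (hH₁ : PicF.IsInvertible (H 1)) (hgen : Gen (H 1)) {D : X.Modules} (hD : PicF.IsInvertible D)
    (hHD : PicF.cl (H 1) * PicF.cl D = 1) (i : ℕ) :
    ∀ w : List (Fin 2), ∃ C m₀, ∀ a, m₀ ≤ a → ∀ t, t ≤ a → ∀ Q, Lev k H w Q → ∀ N, NT k N →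
      dimH k ((AmpleVan.tw (CohB1.tensorMod (tP (H 0) N a) (CohB1.tensorPow D t))).obj Q) i ≤
        C * pT (n + 1 - w.length) (a + 1) := by
  have hH : ∀ j, PicF.IsInvertible (H j) := by
    intro j; fin_cases j
    · exact hH₀.1
    · exact hH₁
  have hP : ∀ {N : X.Modules}, NT k N → ∀ a t,
      PicF.IsInvertible (CohB1.tensorMod (tP (H 0) N a) (CohB1.tensorPow D t)) := fun hN a t =>
    InvX.isInvertible_tensorMod (isInvertible_tP hH₀.1 hN.1 a) (InvX.isInvertible_tensorPow hD t)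
  have hseq : ∀ {w : List (Fin 2)} {Q : X.Modules}, Lev k H w Q → ∃ (f : Q ⟶ (AmpleVan.tw (H 1)).obj Q)
      (h0 : f ≫ cokernel.π f = 0), (ShortComplex.mk f (cokernel.π f) h0).ShortExact ∧
        Coh.IsCoh ((AmpleVan.tw (H 1)).obj Q) ∧ Coh.IsCoh (cokernel f) ∧ Lev k H (1 :: w) (cokernel f) := by
    intro w Q hQ
    haveI := CurveCohLib.isNoetherian_of_proper (k := k) (X := X)
    obtain ⟨s, hs⟩ := exists_regSec (k := k) hH₁ hgen hQ.coh
    haveI := mono_of_regSec hQ.coh.1 hs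
    exact ⟨_, cokernel.condition _, { exact := ShortComplex.exact_of_g_is_cokernel _ (cokernelIsCokernel _) },
      isCoh_tw hH₁ hQ.coh, QCoh.isCoh_cokernel hQ.coh.1 (isCoh_tw hH₁ hQ.coh) _,
      ⟨Coh.structureModule X, Q, H 1, s, NT.one, hQ, hH₁, by rw [← H23.PicMul.one_def, mul_one], hs,
        ⟨Iso.refl _⟩⟩⟩
  have hθ : ∀ (N : X.Modules) (a t : ℕ), Nonempty (AmpleVan.tw (H 1) ⋙
      AmpleVan.tw (CohB1.tensorMod (tP (H 0) N a) (CohB1.tensorPow D (t + 1))) ≅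
        AmpleVan.tw (CohB1.tensorMod (tP (H 0) N a) (CohB1.tensorPow D t))) := fun N a t =>
    exists_twCompIso (by
      simp only [cl_tensor, cl_tensorPow]
      rw [show PicF.cl (H 1) * (PicF.cl N * PicF.cl (H 0) ^ a * PicF.cl D ^ (t + 1)) =
        PicF.cl N * PicF.cl (H 0) ^ a * PicF.cl D ^ t * (PicF.cl (H 1) * PicF.cl D) by rw [pow_succ]; ac_rfl,
        hHD, mul_one])
  have hzero : ∀ (N : X.Modules) (a : ℕ),
      Nonempty (AmpleVan.tw (CohB1.tensorMod (tP (H 0) N a) (CohB1.tensorPow D 0)) ≅ AmpleVan.tw (tP (H 0) N a)) :=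
    fun N a => exists_twIso (by rw [cl_tensor, cl_tensorPow, pow_zero, mul_one])
  induction i with
  | zero =>
    intro w
    obtain ⟨C, m₀, hC⟩ := h0_lev (H := H) (k := k) hH₀ hn hH w
    refine ⟨C, m₀, fun a ha t _ Q hQ N hN => ?_⟩
    obtain ⟨f, h0, hS, hB, -, -⟩ := hseq hQ
    induction t with
    | zero =>
      obtain ⟨θ⟩ := hzero N a
      exact (dimH_iso (θ.app Q) 0).trans_le (hC a ha Q hQ N hN)
    | succ t ih =>
      obtain ⟨θ⟩ := hθ N a t
      exact ((goodF_tw k (hP hN a (t + 1))).dimH_zero_le (k := k) hS hB).trans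
        ((dimH_comp θ Q 0).trans_le (ih (Nat.le_of_succ_le ‹_›)))
  | succ i hi =>
    intro w
    obtain ⟨C, m₁, hC⟩ := hi (1 :: w)
    obtain ⟨m₂, hv⟩ := van_lev (H := H) (k := k) hH₀ hn hH w _ (InvX.isInvertible_structureModule (X := X))
    refine ⟨C, max m₁ m₂, fun a ha t ht Q hQ N hN => ?_⟩
    obtain ⟨f, h0, hS, hB, hc, hQ'⟩ := hseq hQ
    have key : ∀ t, t ≤ a → dimH k ((AmpleVan.tw (CohB1.tensorMod (tP (H 0) N a) (CohB1.tensorPow D t))).obj Q) (i + 1) ≤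
        t * (C * pT (n + 1 - (w.length + 1)) (a + 1)) := by
      intro t ht
      induction t with
      | zero =>
        obtain ⟨θ⟩ := hzero N a
        obtain ⟨θ'⟩ := exists_twIso (P := CohB1.tensorMod (Coh.structureModule X) (tP (H 0) N a)) (Q := tP (H 0) N a)
          (by rw [cl_tensor, ← H23.PicMul.one_def, one_mul])
        rw [dimH_iso (θ.app Q), dimH_of_subsingleton
          (QCoh.subsingleton_HH_of_iso (θ'.app Q) _ (hv a (le_of_max_le_right ha) Q hQ N hN i))]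
        exact Nat.zero_le _
      | succ t ih =>
        obtain ⟨θ⟩ := hθ N a t
        refine ((goodF_tw k (hP hN a (t + 1))).dimH_left (k := k) hS hQ.coh hB hc (i + 1)).trans ?_
        dsimp only
        rw [dimH_comp θ Q, Nat.succ_mul]
        exact add_le_add (ih (Nat.le_of_succ_le ht)) (hC a (le_of_max_le_left ha) (t + 1) ht _ hQ' N hN)
    refine (key t ht).trans ?_
    rw [mul_left_comm]
    refine Nat.mul_le_mul_left _ ?_
    rcases Nat.eq_zero_or_pos (n + 1 - (w.length + 1)) with h | h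
    · rw [h]
      simp [pT]
    · obtain ⟨e, he⟩ := Nat.exists_eq_add_of_le' h
      rw [he, show n + 1 - w.length = e + 2 by omega]
      show t * (a + 1) ^ e ≤ (a + 1) ^ (e + 1)
      rw [pow_succ']
      exact Nat.mul_le_mul_right _ (by omega)

/-- Sections of the classes: a nonzero section of `H₀ ⊗ N` cuts a member of level one. -/
theorem lev_cut [IsIntegral X] {M N : X.Modules} (hN : NT k N) {j : Fin 2} (hHj : PicF.IsInvertible (H j))
    (hM : NT k M) {B : X.Modules} (hB : PicF.cl B = PicF.cl (H j) * PicF.cl N) (hBi : PicF.IsInvertible B)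
    {s : Coh.structureModule X ⟶ B} (hs : RegSec B M s) :
    Lev k H [j] (cokernel (AmpleVan.mulSec (InvX.one s) M)) :=
  ⟨N, M, B, s, hN, ⟨M, hM, ⟨Iso.refl _⟩⟩, hBi, hB, hs, ⟨Iso.refl _⟩⟩

theorem regSec_structure [IsIntegral X] {B : X.Modules} (hB : PicF.IsInvertible B)
    {s : Coh.structureModule X ⟶ B} (hs : s ≠ 0) : RegSec B (Coh.structureModule X) s := by
  intro x hx
  haveI := InvEnd.mono_of_ne_zero InvX.isInvertible_structureModule hB s hs
  rw [(AssPtX.isWeakAssPoint_structureModule_iff QCoh.isQCoh_structureModule x).1 hx (genericPoint X)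
    (genericPoint_specializes x) |>.symm]
  exact NakaiMo.genericPoint_mem_genLocus hB s

/-- **The cohomology of large powers changes little under numerically trivial twists.** -/
theorem twist_compare [Infinite k] [IsIntegral X] (hH₀ : CohB1.IsAmple (H 0)) {n : ℕ}
    (hn : topologicalKrullDim X ≤ (n : WithBot ℕ∞)) (hH₁ : PicF.IsInvertible (H 1)) (hgen₀ : Gen (H 0))
    (hgen : Gen (H 1)) {D : X.Modules} (hD : PicF.IsInvertible D) (hHD : PicF.cl (H 1) * PicF.cl D = 1)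
    (hsec : ∀ N, NT k N → 0 < dimH k (CohB1.tensorMod (H 0) N) 0) (i : ℕ) :
    ∃ C m₀, ∀ a, m₀ ≤ a → ∀ N, NT k N →
      dimH k (CohB1.tensorMod (CohB1.tensorPow (CohB1.tensorMod (H 0) D) a) N) i ≤
          dimH k (CohB1.tensorPow (CohB1.tensorMod (H 0) D) a) i + C * pT n (a + 1) ∧
        dimH k (CohB1.tensorPow (CohB1.tensorMod (H 0) D) a) i ≤
          dimH k (CohB1.tensorMod (CohB1.tensorPow (CohB1.tensorMod (H 0) D) a) N) i + C * pT n (a + 1) := by
  haveI := CurveCohLib.isNoetherian_of_proper (k := k) (X := X)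
  obtain ⟨C₁, m₁, h₁⟩ := dimH_lev (k := k) (H := H) hH₀ hn hH₁ hgen hD hHD i [0]
  obtain ⟨C₂, m₂, h₂⟩ := dimH_lev (k := k) (H := H) hH₀ hn hH₁ hgen hD hHD (i - 1) [0]
  refine ⟨2 * (C₁ + C₂), max m₁ m₂, fun a ha N hN => ?_⟩
  let G := AmpleVan.tw (CohB1.tensorMod (tP (H 0) (Coh.structureModule X) a) (CohB1.tensorPow D a))
  have hG : GoodF (X := X) G := goodF_tw k (InvX.isInvertible_tensorMod
    (isInvertible_tP hH₀.1 InvX.isInvertible_structureModule a) (InvX.isInvertible_tensorPow hD a))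
  have hL : ∀ M : X.Modules, PicF.cl (G.obj M) =
      PicF.cl M * PicF.cl (CohB1.tensorPow (CohB1.tensorMod (H 0) D) a) := fun M => by
    simp only [G, cl_tw, cl_tensor, cl_tensorPow, ← H23.PicMul.one_def, one_mul, mul_pow]
  -- one step along a section
  have key : ∀ (M B : X.Modules) (N' : X.Modules) (s : Coh.structureModule X ⟶ B), NT k M → NT k N' →
      PicF.IsInvertible B → PicF.cl B = PicF.cl (H 0) * PicF.cl N' → RegSec B M s →
      dimH k (G.obj M) i ≤ dimH k (G.obj ((AmpleVan.tw B).obj M)) i + C₂ * pT n (a + 1) ∧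
        dimH k (G.obj ((AmpleVan.tw B).obj M)) i ≤ dimH k (G.obj M) i + C₁ * pT n (a + 1) := by
    intro M B N' s hM hN' hB hcl hs
    haveI := mono_of_regSec (AmpleVan.isCoh_invertible hM.1).1 hs
    have hMB := isCoh_tw hB (AmpleVan.isCoh_invertible hM.1)
    have hQ := lev_cut (H := H) hN' hH₀.1 hM hcl hB hs
    have hS : (ShortComplex.mk (AmpleVan.mulSec (InvX.one s) M) (cokernel.π _)
        (cokernel.condition (AmpleVan.mulSec (InvX.one s) M))).ShortExact :=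
      { exact := ShortComplex.exact_of_g_is_cokernel _ (cokernelIsCokernel _) }
    have e₁ := hG.dimH_mid (k := k) hS (AmpleVan.isCoh_invertible hM.1) hMB hQ.coh i
    have e₂ := hG.dimH_left (k := k) hS (AmpleVan.isCoh_invertible hM.1) hMB hQ.coh i
    have b₁ := h₁ a (le_of_max_le_left ha) a le_rfl _ hQ _ NT.one
    have b₂ := h₂ a (le_of_max_le_right ha) a le_rfl _ hQ _ NT.one
    simp only [List.length_singleton, Nat.add_sub_cancel] at b₁ b₂
    exact ⟨e₂.trans (Nat.add_le_add_left b₂ _), e₁.trans (Nat.add_le_add_left b₁ _)⟩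
  have hBN : PicF.IsInvertible (CohB1.tensorMod (H 0) N) := InvX.isInvertible_tensorMod hH₀.1 hN.1
  obtain ⟨τ, hτ⟩ := exists_section_of_pos (k := k) (E := CohB1.tensorMod (H 0) N) (by
    rw [← dimH_def]; exact hsec N hN)
  have hs₀ : InvX.ofSect τ ≠ 0 := fun h => hτ (by
    rw [← InvX.one_ofSect τ]
    exact congrArg InvX.one h)
  obtain ⟨s', hs'⟩ := exists_regSec (k := k) hH₀.1 hgen₀ (AmpleVan.isCoh_invertible hN.1)
  have k₁ := key _ _ N _ NT.one hN hBN (cl_tensor _ _) (regSec_structure hBN hs₀)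
  have k₂ := key _ _ _ _ hN NT.one hH₀.1 (by rw [← H23.PicMul.one_def, mul_one]) hs'
  obtain ⟨e₁⟩ := cl_eq_iff.1 (show PicF.cl (G.obj (Coh.structureModule X)) =
    PicF.cl (CohB1.tensorPow (CohB1.tensorMod (H 0) D) a) by rw [hL, ← H23.PicMul.one_def, one_mul])
  obtain ⟨e₂⟩ := cl_eq_iff.1 (show PicF.cl (G.obj N) =
    PicF.cl (CohB1.tensorMod (CohB1.tensorPow (CohB1.tensorMod (H 0) D) a) N) by rw [hL, cl_tensor, mul_comm])
  obtain ⟨e₃⟩ := cl_eq_iff.1 (show PicF.cl (G.obj ((AmpleVan.tw (CohB1.tensorMod (H 0) N)).obj (Coh.structureModule X))) =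
    PicF.cl (G.obj ((AmpleVan.tw (H 0)).obj N)) by
      rw [hL, hL, cl_tw, cl_tw, cl_tensor (H 0) N, ← H23.PicMul.one_def, one_mul, mul_comm (PicF.cl N)])
  rw [dimH_iso e₁, dimH_iso e₃] at k₁
  rw [dimH_iso e₂] at k₂
  rw [mul_assoc 2, add_mul]
  omega

end Groth.Agent.VolLib
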