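import Groth.Agent.VolLib.Hhat
import Groth.Agent.VolLib.Kodaira
import Groth.Agent.IntSym.Bridge

/-!
# Cohomology of twists by several invertible modules with integer exponents
-/

noncomputable section

set_option autoImplicit false
set_option linter.style.haveILetI false
set_option backward.isDefEq.respectTransparency false
set_option backward.isDefEq.respectTransparency.types false
set_option maxHeartbeats 800000

universe u
open CategoryTheory CategoryTheory.Limits AlgebraicGeometry TopologicalSpace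
open Groth.Agent.H23.PicMul

namespace Groth.Agent.VolLib

/-- Invertible modules indexed by exponents in `ℤ ^ r`. -/
structure TwistFam (X : Scheme.{u}) (r : ℕ) where
  P : (Fin r → ℤ) → X.Modules
  isInv : ∀ a, PicF.IsInvertible (P a)
  L : Fin r → X.Modules
  hL : ∀ j, PicF.IsInvertible (L j)
  step : ∀ a j, Nonempty (CohB1.tensorMod (L j) (P a) ≅ P (a + Pi.single j 1))

/-- The size of an exponent. -/
def sz {r : ℕ} (a : Fin r → ℤ) : ℕ := Finset.univ.sup fun j => (a j).natAbs

theorem natAbs_le_sz {r : ℕ} (a : Fin r → ℤ) (j : Fin r) : (a j).natAbs ≤ sz a :=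
  Finset.le_sup (f := fun j => (a j).natAbs) (Finset.mem_univ j)

theorem cast_sz_le_norm {r : ℕ} (a : Fin r → ℤ) : (sz a : ℝ) ≤ ‖(fun j => ((a j : ℤ) : ℝ))‖ := by
  refine le_trans (Nat.cast_le.2 (Finset.sup_le fun j _ => Nat.le_floor ?_)) (Nat.floor_le (norm_nonneg _))
  refine le_trans (le_of_eq ?_) (norm_le_pi_norm (fun j => ((a j : ℤ) : ℝ)) j)
  rw [Real.norm_eq_abs, Nat.cast_natAbs, Int.cast_abs]

theorem sz_smul {r : ℕ} (m : ℕ) (a : Fin r → ℤ) : sz ((m : ℤ) • a) ≤ m * sz a := Finset.sup_le fun j _ => by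
  rw [Pi.smul_apply, smul_eq_mul, Int.natAbs_mul, Int.natAbs_natCast]
  exact Nat.mul_le_mul_left _ (natAbs_le_sz a j)

/-- The distance of two exponents. -/
def dist1 {r : ℕ} (a b : Fin r → ℤ) : ℕ := ∑ j, (a j - b j).natAbs

theorem dist1_le {r : ℕ} (a b : Fin r → ℤ) : dist1 a b ≤ r * sz (fun j => a j - b j) := by
  refine (Finset.sum_le_card_nsmul _ _ _ fun j _ => natAbs_le_sz (fun j => a j - b j) j).trans_eq ?_
  rw [Finset.card_univ, Fintype.card_fin, smul_eq_mul]

theorem dist1_smul {r : ℕ} (m : ℕ) (a b : Fin r → ℤ) : dist1 ((m : ℤ) • a) ((m : ℤ) • b) = m * dist1 a b := by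
  rw [dist1, dist1, Finset.mul_sum]
  refine Finset.sum_congr rfl fun j _ => ?_
  rw [Pi.smul_apply, Pi.smul_apply, smul_eq_mul, smul_eq_mul, ← mul_sub, Int.natAbs_mul, Int.natAbs_natCast]

/-- `N ^ (d - 1)`, and zero for `d = 0`. -/
def pT : ℕ → ℕ → ℕ
  | 0, _ => 0
  | d + 1, N => N ^ d

theorem pT_mono : ∀ (d : ℕ) {M N : ℕ}, M ≤ N → pT d M ≤ pT d N
  | 0, _, _, _ => le_rfl
  | _ + 1, _, _, h => Nat.pow_le_pow_left h _

/-- Bounded by the power below `d`. -/
def Gd {r : ℕ} (d : ℕ) (g : (Fin r → ℤ) → ℕ) : Prop := ∃ C, ∀ a, g a ≤ C * pT d (sz a + 1)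

theorem Gd.add {r d : ℕ} {g g' : (Fin r → ℤ) → ℕ} (h : Gd d g) (h' : Gd d g') : Gd d (g + g') :=
  let ⟨C, hC⟩ := h; let ⟨C', hC'⟩ := h'
  ⟨C + C', fun a => by rw [add_mul]; exact add_le_add (hC a) (hC' a)⟩

theorem Gd.le {r d : ℕ} {g g' : (Fin r → ℤ) → ℕ} (h : Gd d g) (hle : ∀ a, g' a ≤ g a) : Gd d g' :=
  let ⟨C, hC⟩ := h; ⟨C, fun a => (hle a).trans (hC a)⟩

/-- Lipschitz up to the power below `d`. -/
def Lip {r : ℕ} (d : ℕ) (g : (Fin r → ℤ) → ℕ) : Prop :=
  ∃ C, ∀ a b, g a ≤ g b + dist1 a b * (C * pT d (max (sz a) (sz b) + 1))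

/-- A bound on unit steps gives a Lipschitz bound. -/
theorem Lip.of_step {r d : ℕ} {g : (Fin r → ℤ) → ℕ}
    (h : ∀ j, ∃ e, Gd d e ∧ ∀ a, g (a + Pi.single j 1) ≤ g a + e a ∧ g a ≤ g (a + Pi.single j 1) + e a) :
    Lip d g := by
  classical
  choose e he hg using h
  choose C hC using he
  refine ⟨∑ j, C j, fun a b => ?_⟩
  induction hD : dist1 a b using Nat.strong_induction_on generalizing a with
  | _ D ih =>
    rcases Nat.eq_zero_or_pos D with rfl | hpos
    · have : a = b := funext fun j => by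
        have := Finset.sum_eq_zero_iff.1 hD j (Finset.mem_univ j)
        simpa [sub_eq_zero] using this
      rw [this, zero_mul, add_zero]
    obtain ⟨j, hj⟩ : ∃ j, a j ≠ b j := by
      by_contra hno
      push Not at hno
      simp [dist1, hno] at hD
      omega
    have key : ∀ a' : Fin r → ℤ, dist1 a' b + 1 = D → sz a' ≤ max (sz a) (sz b) →
        (∀ c, (c = a ∨ c = a') → sz c ≤ max (sz a) (sz b)) →
        (∃ c, (c = a ∨ c = a') ∧ g a ≤ g a' + e j c) →
        g a ≤ g b + D * ((∑ j, C j) * pT d (max (sz a) (sz b) + 1)) := by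
      rintro a' hd ha' hc ⟨c, hcc, hle⟩
      have h1 := ih _ (by omega) a' rfl
      have h2 : pT d (max (sz a') (sz b) + 1) ≤ pT d (max (sz a) (sz b) + 1) :=
        pT_mono d (Nat.add_le_add_right (max_le ha' (le_max_right _ _)) 1)
      have h3 : e j c ≤ (∑ j, C j) * pT d (max (sz a) (sz b) + 1) :=
        (hC j c).trans (Nat.mul_le_mul (Finset.single_le_sum (f := C) (fun _ _ => Nat.zero_le _) (Finset.mem_univ j))
          (pT_mono d (Nat.add_le_add_right (hc c hcc) 1)))
      have h4 := Nat.mul_le_mul_left (dist1 a' b) (Nat.mul_le_mul_left (∑ j, C j) h2)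
      rw [← hd, Nat.add_mul, Nat.one_mul]
      omega
    have hdist : ∀ (a' : Fin r → ℤ), (∀ l, l ≠ j → a' l = a l) → (a' j - b j).natAbs + 1 = (a j - b j).natAbs →
        dist1 a' b + 1 = D := fun a' h1 h2 => by
      rw [← hD, dist1, dist1, ← Finset.add_sum_erase _ _ (Finset.mem_univ j),
        ← Finset.add_sum_erase _ _ (Finset.mem_univ j),
        Finset.sum_congr rfl (fun l hl => by rw [h1 l (Finset.ne_of_mem_erase hl)] :
          ∀ l ∈ Finset.univ.erase j, (a' l - b l).natAbs = (a l - b l).natAbs)]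
      omega
    have hsz : ∀ (a' : Fin r → ℤ), (∀ l, l ≠ j → a' l = a l) → (a' j).natAbs ≤ max (a j).natAbs (b j).natAbs →
        sz a' ≤ max (sz a) (sz b) := fun a' h1 h2 => Finset.sup_le fun l _ => by
      rcases eq_or_ne l j with rfl | hl
      · exact h2.trans (max_le_max (natAbs_le_sz a l) (natAbs_le_sz b l))
      · rw [h1 l hl]
        exact le_max_of_le_left (natAbs_le_sz a l)
    rcases lt_or_gt_of_ne hj with hlt | hgt
    · let a' := a + Pi.single j 1
      have h1 : ∀ l, l ≠ j → a' l = a l := fun l hl => by simp [a', hl]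
      have h2 : a' j = a j + 1 := by simp [a']
      have hs := hsz a' h1 (by rw [h2]; omega)
      exact key a' (hdist a' h1 (by rw [h2]; omega)) hs (fun c hc => by
        rcases hc with rfl | rfl
        · exact le_max_left _ _
        · exact hs) ⟨a, Or.inl rfl, (hg j a).2⟩
    · let a' := a - Pi.single j 1
      have h1 : ∀ l, l ≠ j → a' l = a l := fun l hl => by simp [a', hl]
      have h2 : a' j = a j - 1 := by simp [a']
      have hs := hsz a' h1 (by rw [h2]; omega)
      have h3 : a' + Pi.single j 1 = a := sub_add_cancel _ _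
      have h4 := (hg j a').1
      rw [h3] at h4
      exact key a' (hdist a' h1 (by rw [h2]; omega)) hs (fun c hc => by
        rcases hc with rfl | rfl
        · exact le_max_left _ _
        · exact hs) ⟨a', Or.inr rfl, h4⟩

theorem Lip.gd {r d : ℕ} {g : (Fin r → ℤ) → ℕ} (h : Lip d g) : Gd (d + 1) g := by
  obtain ⟨C, hC⟩ := h
  refine ⟨g 0 + r * C, fun a => ?_⟩
  show g a ≤ _ * (sz a + 1) ^ d
  have hz : sz (0 : Fin r → ℤ) = 0 := Nat.eq_zero_of_le_zero (Finset.sup_le fun j _ => by simp)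
  have h1 := hC a 0
  rw [hz, max_eq_left (Nat.zero_le _)] at h1
  have h2 : dist1 a 0 ≤ r * sz a := by
    have := dist1_le a 0
    simpa using this
  refine h1.trans ?_
  rw [add_mul]
  refine add_le_add (Nat.le_mul_of_pos_right _ (pow_pos (Nat.succ_pos _) _)) ?_
  cases d with
  | zero => simp [pT]
  | succ d =>
    calc dist1 a 0 * (C * (sz a + 1) ^ d) ≤ r * (sz a + 1) * (C * (sz a + 1) ^ d) :=
          Nat.mul_le_mul_right _ (h2.trans (Nat.mul_le_mul_left _ (Nat.le_succ _)))
      _ = r * C * (sz a + 1) ^ (d + 1) := by ring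

section Fam

variable (k : Type u) [Field k] {X : Scheme.{u}} [X.Over (Spec (CommRingCat.of k))]
  [IsProper (X ↘ Spec (CommRingCat.of k))] {r : ℕ} (T : TwistFam X r)

/-- The dimension of `H^i(X, M ⊗ P a)`. -/
def gseq (M : X.Modules) (i : ℕ) (a : Fin r → ℤ) : ℕ := Module.finrank k (Coh.HH X (CohB1.tensorMod M (T.P a)) i)

theorem gd_of_empty {d : ℕ} {M : X.Modules} (h : CohB1.support M = ∅) (i : ℕ) : Gd d (gseq k T M i) := by
  refine ⟨0, fun a => ?_⟩
  have hz : IsZero M := PerfGen7.LowerBound.isZero_of_stalks _ fun x => Snapper.notMem_support_iff.1 (by rw [h]; exact id)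
  haveI := AmpleVan.isEquivalence_tw (T.isInv a)
  haveI : (AmpleVan.tw (T.P a)).Additive := Functor.additive_of_preserves_binary_products _
  haveI : Subsingleton (Coh.HH X (CohB1.tensorMod M (T.P a)) i) :=
    Euler.subsingleton_HH_of_isZero ((AmpleVan.tw (T.P a)).map_isZero hz) i
  simp [gseq, Module.finrank_zero_of_subsingleton]

variable {k} {T}

theorem gseq_ses {S : ShortComplex X.Modules} (hS : S.ShortExact) (h₁ : Coh.IsCoh S.X₁) (h₂ : Coh.IsCoh S.X₂)
    (h₃ : Coh.IsCoh S.X₃) (i : ℕ) (a : Fin r → ℤ) :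
    gseq k T S.X₂ i a ≤ gseq k T S.X₁ i a + gseq k T S.X₃ i a ∧
    gseq k T S.X₃ i a ≤ gseq k T S.X₂ i a + gseq k T S.X₁ (i + 1) a ∧
    gseq k T S.X₁ i a ≤ gseq k T S.X₂ i a + gseq k T S.X₃ (i - 1) a := by
  haveI := CurveCohLib.isNoetherian_of_proper (k := k) (X := X)
  haveI := AmpleVan.isEquivalence_tw (T.isInv a)
  haveI : (AmpleVan.tw (T.P a)).Additive := Functor.additive_of_preserves_binary_products _
  have hP := AmpleVan.isCoh_invertible (T.isInv a)
  have hS' := hS.map_of_exact (AmpleVan.tw (T.P a))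
  have g₁ : Coh.IsCoh (S.map (AmpleVan.tw (T.P a))).X₁ := AmpleVan.isCoh_tensor h₁ hP
  have g₂ : Coh.IsCoh (S.map (AmpleVan.tw (T.P a))).X₂ := AmpleVan.isCoh_tensor h₂ hP
  have g₃ : Coh.IsCoh (S.map (AmpleVan.tw (T.P a))).X₃ := AmpleVan.isCoh_tensor h₃ hP
  exact ⟨hh_mid_le hS' g₁ g₂ g₃ i, hh_right_le hS' g₁ g₂ g₃ i, hh_left_le hS' g₁ g₂ g₃ i⟩

theorem gseq_map {M N : X.Modules} (hM : Coh.IsCoh M) (hN : Coh.IsCoh N) (φ : M ⟶ N) (i : ℕ) (a : Fin r → ℤ) :
    gseq k T N i a ≤ gseq k T M i a + (gseq k T (kernel φ) (i + 1) a + gseq k T (cokernel φ) i a) ∧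
    gseq k T M i a ≤ gseq k T N i a + (gseq k T (kernel φ) i a + gseq k T (cokernel φ) (i - 1) a) := by
  haveI := CurveCohLib.isNoetherian_of_proper (k := k) (X := X)
  haveI := AmpleVan.isEquivalence_tw (T.isInv a)
  haveI : (AmpleVan.tw (T.P a)).Additive := Functor.additive_of_preserves_binary_products _
  have hK := QCoh.isCoh_kernel hM hN φ
  have hC := QCoh.isCoh_cokernel hM.1 hN φ
  have hI : Coh.IsCoh (Abelian.image φ) :=
    QCoh.isCoh_of_epi (Abelian.factorThruImage φ) hM (QCoh.isQCoh_kernel hN.1 hC.1 _)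
  have h1 : (ShortComplex.mk (kernel.ι φ) (Abelian.factorThruImage φ)
      ((cancel_mono (Abelian.image.ι φ)).1 (by rw [Category.assoc, Abelian.image.fac, kernel.condition, zero_comp]))).ShortExact :=
    { exact := ShortComplex.exact_of_f_is_kernel _ (KernelFork.IsLimit.ofι' _ _ fun {T} t ht =>
        ⟨kernel.lift φ t (by rw [← Abelian.image.fac φ, reassoc_of% ht, zero_comp]), kernel.lift_ι _ _ _⟩)
      mono_f := inferInstance
      epi_g := inferInstance }
  have h2 : (ShortComplex.mk (Abelian.image.ι φ) (cokernel.π φ) (kernel.condition _)).ShortExact :=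
    { exact := ShortComplex.exact_of_f_is_kernel _ (kernelIsKernel (cokernel.π φ))
      mono_f := inferInstance
      epi_g := inferInstance }
  have a1 := gseq_ses (k := k) (T := T) h1 hK hM hI i a
  have a2 := gseq_ses (k := k) (T := T) h2 hI hN hC i a
  simp only at a1 a2
  constructor <;> omega

theorem gseq_mid {M : X.Modules} (hM : Coh.IsCoh M) {N : X.Modules} (φ : M ⟶ N) (hN : Coh.IsQCoh N) (i : ℕ)
    (a : Fin r → ℤ) : gseq k T M i a ≤ gseq k T (kernel φ) i a + gseq k T (Abelian.image φ) i a := by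
  haveI := CurveCohLib.isNoetherian_of_proper (k := k) (X := X)
  haveI := AmpleVan.isEquivalence_tw (T.isInv a)
  haveI : (AmpleVan.tw (T.P a)).Additive := Functor.additive_of_preserves_binary_products _
  have hK : Coh.IsCoh (kernel φ) := QCoh.isCoh_of_mono (kernel.ι φ) hM (QCoh.isQCoh_kernel hM.1 hN φ)
  have hI : Coh.IsCoh (Abelian.image φ) :=
    QCoh.isCoh_of_epi (Abelian.factorThruImage φ) hM (QCoh.isQCoh_kernel hN (QCoh.isQCoh_cokernel hM.1 hN φ) _)
  exact (gseq_ses (k := k) (T := T) (show (ShortComplex.mk (kernel.ι φ) (Abelian.factorThruImage φ)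
      ((cancel_mono (Abelian.image.ι φ)).1 (by rw [Category.assoc, Abelian.image.fac, kernel.condition, zero_comp]))).ShortExact from
    { exact := ShortComplex.exact_of_f_is_kernel _ (KernelFork.IsLimit.ofι' _ _ fun {T} t ht =>
        ⟨kernel.lift φ t (by rw [← Abelian.image.fac φ, reassoc_of% ht, zero_comp]), kernel.lift_ι _ _ _⟩)
      mono_f := inferInstance
      epi_g := inferInstance }) hK hM hI i a).1

/-- The Lipschitz bound on an irreducible support. -/
theorem lip_of_frames {d : ℕ} {C : Set X} {η : X}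
    (IH : ∀ U : X.Opens, η ∈ U → ∀ N : X.Modules, Coh.IsCoh N → CohB1.support N ⊆ C \ U → ∀ i, Gd d (gseq k T N i))
    {M : X.Modules} (hM : Coh.IsCoh M) (hMC : CohB1.support M ⊆ C) (i : ℕ) : Lip d (gseq k T M i) := by
  haveI := CurveCohLib.isNoetherian_of_proper (k := k) (X := X)
  refine Lip.of_step fun j => ?_
  obtain ⟨U, hηU, e, he⟩ := InvX.exists_frame (T.hL j) η
  obtain ⟨K, I, p, q, c, hK, hI, hp, hq, hc⟩ := Snapper.exists_link_frame (T.hL j) he
  have hLc := AmpleVan.isCoh_invertible (T.hL j)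
  let F := AmpleVan.tw M
  have hsupp : ∀ A : X.Modules, CohB1.support (F.obj A) ⊆ C := fun A =>
    (CurveTensor.support_tensor_subset (E := A) (F := M)).trans hMC
  have hcoh : ∀ {A}, Coh.IsCoh A → Coh.IsCoh (F.obj A) := fun h => AmpleVan.isCoh_tensor h hM
  have key : ∀ {A B : X.Modules} (φ : A ⟶ B), Coh.IsCoh A → Coh.IsCoh B → Snapper.IsoOn U φ →
      ∃ e, Gd d e ∧ ∀ a, gseq k T (F.obj A) i a ≤ gseq k T (F.obj B) i a + e a ∧
        gseq k T (F.obj B) i a ≤ gseq k T (F.obj A) i a + e a := by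
    intro A B φ hA hB hφ
    obtain ⟨hk, hcc⟩ := Snapper.support_subset_compl (hφ.tensor M)
    obtain ⟨hk', hc'⟩ := Snapper.support_sub_of_map (hcoh hA) (hcoh hB) ((AmpleVan.tw M).map φ)
    have gK := IH U hηU _ (QCoh.isCoh_kernel (hcoh hA) (hcoh hB) _) fun x hx => ⟨hsupp _ (hk' hx), hk hx⟩
    have gC := IH U hηU _ (QCoh.isCoh_cokernel (hcoh hA).1 (hcoh hB) _) fun x hx => ⟨hsupp _ (hc' hx), hcc hx⟩
    refine ⟨_, ((gK i).add (gK (i + 1))).add ((gC i).add (gC (i - 1))), fun a => ?_⟩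
    have := gseq_map (k := k) (T := T) (hcoh hA) (hcoh hB) ((AmpleVan.tw M).map φ) i a
    simp only [Pi.add_apply, F] at this ⊢
    omega
  obtain ⟨e1, he1, h1⟩ := key p hK QCoh.isCoh_structureModule' hp
  obtain ⟨e2, he2, h2⟩ := key q hK hI hq
  obtain ⟨e3, he3, h3⟩ := key c hLc hI hc
  refine ⟨_, (he1.add he2).add he3, fun a => ?_⟩
  have h0 : gseq k T (F.obj (Coh.structureModule X)) i a = gseq k T M i a :=
    HilbPoly.finrank_HH_iso k ((AmpleVan.tw (T.P a)).mapIso (CurveTensor.structureTensorIso M)) i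
  have h4 : gseq k T (F.obj (T.L j)) i a = gseq k T M i (a + Pi.single j 1) := by
    obtain ⟨s⟩ := T.step a j
    exact HilbPoly.finrank_HH_iso k ((AmpleVan.tw (T.P a)).mapIso
      (CurveTensor.commIso (T.L j) M : F.obj (T.L j) ≅ CohB1.tensorMod M (T.L j)) ≪≫
      AmpleVan.assocT M (T.L j) (T.P a) ≪≫ PicGrp.tensorModIso (Iso.refl M) s) i
  have := h1 a; have := h2 a; have := h3 a
  simp only [Pi.add_apply]
  omega

variable (k) (T)

/-- Multi-twists of a module with support of dimension less than `d`. -/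
theorem gd_of_dim_lt (d : ℕ) : ∀ (C : Closeds X), topologicalKrullDim ↥(C : Set X) < (d : WithBot ℕ∞) →
    ∀ M : X.Modules, Coh.IsCoh M → CohB1.support M ⊆ C → ∀ i, Gd d (gseq k T M i) := by
  haveI := CurveCohLib.isNoetherian_of_proper (k := k) (X := X)
  induction d with
  | zero =>
    intro C hC M hM hMC
    refine gd_of_empty k T (Set.eq_empty_of_forall_notMem fun y hy => ?_)
    haveI : Nonempty ↥(C : Set X) := ⟨⟨y, hMC hy⟩⟩
    haveI : Nonempty (IrreducibleCloseds ↥(C : Set X)) :=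
      ⟨⟨closure {⟨y, hMC hy⟩}, isIrreducible_singleton.closure, isClosed_closure⟩⟩
    exact absurd hC (not_lt.2 (by exact_mod_cast Order.krullDim_nonneg))
  | succ d IHd =>
    intro C
    induction C using WellFoundedLT.induction with
    | ind C IH =>
      intro hC M hM hMC
      rcases Set.eq_empty_or_nonempty (C : Set X) with h0 | hne
      · exact gd_of_empty k T (Set.subset_empty_iff.1 (by rw [h0] at hMC; exact hMC))
      by_cases hirr : IsIrreducible (C : Set X)
      · obtain ⟨η, hη⟩ := QuasiSober.sober hirr C.isClosed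
        have hηC : η ∈ (C : Set X) := hη.mem
        intro i
        refine (lip_of_frames (η := η) (fun U hηU N hN hNs => IHd ⟨_, C.isClosed.sdiff U.2⟩ ?_ N hN hNs) hM hMC i).gd
        haveI : IrreducibleSpace ↥(C : Set X) := isIrreducible_iff_irreducibleSpace.1 hirr
        let Z : Set ↥(C : Set X) := {y | (y : X) ∈ (U : Set X)ᶜ}
        have hlt := H23.TopDim.dim_lt_of_ssubset (X := ↥(C : Set X)) (fun h => by rw [h] at hC; exact not_top_lt hC)
          (Y := Z) (U.2.isClosed_compl.preimage continuous_subtype_val)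
          (fun h => (h.ge (Set.mem_univ ⟨η, hηC⟩) : η ∈ (U : Set X)ᶜ) hηU)
        have hle : topologicalKrullDim ↥((C : Set X) \ U) ≤ topologicalKrullDim ↥Z := by
          let g : ↥((C : Set X) \ U) → ↥Z := fun p => ⟨⟨p.1, p.2.1⟩, p.2.2⟩
          have hcomp : Topology.IsInducing ((Subtype.val ∘ Subtype.val : ↥Z → X) ∘ g) :=
            show Topology.IsInducing (Subtype.val : ↥((C : Set X) \ U) → X) from Topology.IsInducing.subtypeVal
          exact ((Topology.IsInducing.subtypeVal.comp Topology.IsInducing.subtypeVal).of_comp_iff.1 hcomp).topologicalKrullDim_le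
        refine lt_of_le_of_lt hle ?_
        revert hlt hC
        generalize topologicalKrullDim ↥Z = a
        generalize topologicalKrullDim ↥(C : Set X) = b
        intro hC hlt
        cases a with
        | bot => exact WithBot.bot_lt_coe _
        | coe a =>
          cases b with
          | bot => exact absurd hlt not_lt_bot
          | coe b =>
            have h1 : a < b := WithBot.coe_lt_coe.1 hlt
            have h2 : b < ((d + 1 : ℕ) : ℕ∞) := WithBot.coe_lt_coe.1 hC
            refine WithBot.coe_lt_coe.2 (lt_of_lt_of_le h1 ?_)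
            exact ENat.lt_add_one_iff (ENat.natCast_ne_top d) |>.1 (by exact_mod_cast h2)
      · obtain ⟨A, B, hA, hB, hsub, hnA, hnB⟩ : ∃ A B : Set X, IsClosed A ∧ IsClosed B ∧
            (C : Set X) ⊆ A ∪ B ∧ ¬ (C : Set X) ⊆ A ∧ ¬ (C : Set X) ⊆ B := by
          by_contra! hno
          exact hirr ⟨hne, isPreirreducible_iff_isClosed_union_isClosed.2 fun A B hA hB hs =>
            or_iff_not_imp_left.2 fun hA' => hno A B hA hB hs hA'⟩
        let C₁ : Closeds X := ⟨(C : Set X) ∩ A, C.isClosed.inter hA⟩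
        let C₂ : Closeds X := ⟨(C : Set X) ∩ B, C.isClosed.inter hB⟩
        have h1 : C₁ < C := lt_of_le_of_ne (Set.inter_subset_left : (C : Set X) ∩ A ⊆ C)
          fun h => hnA (Set.inter_eq_left.1 (congrArg (SetLike.coe) h))
        have h2 : C₂ < C := lt_of_le_of_ne (Set.inter_subset_left : (C : Set X) ∩ B ⊆ C)
          fun h => hnB (Set.inter_eq_left.1 (congrArg (SetLike.coe) h))
        have hdim : ∀ C' : Closeds X, C' ≤ C → topologicalKrullDim ↥(C' : Set X) < ((d + 1 : ℕ) : WithBot ℕ∞) :=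
          fun C' h => lt_of_le_of_lt (H23.TopDim.dim_le_dim_of_subset (show (C' : Set X) ⊆ C from h)) hC
        let W : X.Opens := ⟨(C₂ : Set X)ᶜ, C₂.isClosed.isOpen_compl⟩
        let φ := Snapper.resMap W M
        have hQ : Coh.IsQCoh ((Scheme.Modules.pushforward W.ι).obj (M.restrict W.ι)) :=
          QCoh.isQCoh_pushforward W.ι (QCoh.isQCoh_restrict W.ι hM.1)
        have hI : Coh.IsCoh (Abelian.image φ) :=
          QCoh.isCoh_of_epi (Abelian.factorThruImage φ) hM (QCoh.isQCoh_kernel hQ (QCoh.isQCoh_cokernel hM.1 hQ φ) _)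
        have hK : Coh.IsCoh (kernel φ) := QCoh.isCoh_of_mono (kernel.ι φ) hM (QCoh.isQCoh_kernel hM.1 hQ φ)
        have hKb := IH C₂ h2 (hdim C₂ h2.le) _ hK fun y hy =>
          not_not.1 fun hy2 => (Snapper.support_subset_compl (Snapper.isoOn_resMap W M)).1 hy (show y ∈ W from hy2)
        have hIb := IH C₁ h1 (hdim C₁ h1.le) _ hI fun y hy => by
          by_contra hy1
          have hP := QCoh.mem_support_of_mono hI.1 hQ (Abelian.image.ι φ) hy
          refine Snapper.notMem_support_push (W := ⟨(C₁ : Set X)ᶜ, C₁.isClosed.isOpen_compl⟩) hy1 ?_ hP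
          refine Set.disjoint_left.2 fun z hz hzM => ?_
          exact (hsub (hMC hzM)).elim (fun h => hz.1 ⟨hMC hzM, h⟩) (fun h => hz.2 ⟨hMC hzM, h⟩)
        intro i
        exact ((hKb i).add (hIb i)).le fun a => gseq_mid hM φ hQ i a

/-- On an integral scheme the structure sheaf's twists are Lipschitz. -/
theorem lip_integral [IsIntegral X] {n : ℕ} (hn : topologicalKrullDim X = n) (i : ℕ) :
    Lip n (gseq k T (Coh.structureModule X) i) := by
  haveI := CurveCohLib.isNoetherian_of_proper (k := k) (X := X)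
  refine lip_of_frames (C := Set.univ) (η := genericPoint X) (fun U hηU N hN hs =>
    gd_of_dim_lt k T n ⟨(U : Set X)ᶜ, U.2.isClosed_compl⟩ ?_ N hN fun x hx => (hs hx).2)
    QCoh.isCoh_structureModule' (Set.subset_univ _) i
  have := H23.TopDim.dim_lt_of_ssubset (X := X) (by rw [hn]; exact WithBot.coe_inj.not.2 (ENat.coe_ne_top n))
    U.2.isClosed_compl (fun he => (he.ge (Set.mem_univ (genericPoint X))) hηU)
  rwa [hn] at this

end Fam

section ZTwist

variable {X : Scheme.{u}} {r : ℕ}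

/-- The class of an invertible module as a unit. -/
def ucl {L : X.Modules} (hL : PicF.IsInvertible L) : (PicF.Cl X)ˣ := (isUnit_cl hL).unit

theorem val_ucl {L : X.Modules} (hL : PicF.IsInvertible L) : (ucl hL : PicF.Cl X) = PicF.cl L :=
  (isUnit_cl hL).unit_spec

theorem cl_ztwist {L M : Fin r → X.Modules} (hL : ∀ j, PicF.IsInvertible (L j))
    (hM : ∀ j, ClSub.IsInverseOf (L j) (M j)) (a : Fin r → ℤ) :
    PicF.cl (W4c5asymptcohfn.ztwist X L M a) = ((∏ j, ucl (hL j) ^ a j : (PicF.Cl X)ˣ) : PicF.Cl X) := by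
  have hinv : ∀ j, PicF.cl (M j) = (((ucl (hL j))⁻¹ : (PicF.Cl X)ˣ) : PicF.Cl X) := fun j => by
    have h : PicF.cl (L j) * PicF.cl (M j) = 1 := by
      rw [← cl_tensor, H23.PicMul.one_def]; exact cl_eq_iff.2 (hM j)
    rw [← val_ucl (hL j)] at h
    exact (Units.inv_eq_of_mul_eq_one_right h).symm
  rw [W4c5asymptcohfn.ztwist, cl_tensor, IntSym.cl_multiTwist, IntSym.cl_multiTwist, ← Finset.prod_mul_distrib,
    Units.coe_prod]
  refine Finset.prod_congr rfl fun j _ => ?_
  rw [hinv, ← val_ucl (hL j), ← Units.val_pow_eq_pow_val, ← Units.val_pow_eq_pow_val, ← Units.val_mul, inv_pow,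
    ← zpow_natCast, ← zpow_natCast, ← zpow_neg, ← zpow_add]
  congr 2
  omega

theorem isInvertible_ztwist {L M : Fin r → X.Modules} (hL : ∀ j, PicF.IsInvertible (L j))
    (hM : ∀ j, PicF.IsInvertible (M j)) (a : Fin r → ℤ) : PicF.IsInvertible (W4c5asymptcohfn.ztwist X L M a) := by
  have key : ∀ l : List X.Modules, (∀ A ∈ l, PicF.IsInvertible A) → PicF.IsInvertible (FGA.tensorList l) := by
    intro l hl
    induction l with
    | nil => exact InvX.isInvertible_structureModule
    | cons A l ih =>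
      exact InvX.isInvertible_tensorMod (hl A List.mem_cons_self) (ih fun B hB => hl B (List.mem_cons_of_mem _ hB))
  refine InvX.isInvertible_tensorMod (key _ fun A hA => ?_) (key _ fun A hA => ?_) <;>
  · obtain ⟨j, -, rfl⟩ := List.mem_map.1 hA
    first
      | exact InvX.isInvertible_tensorPow (hL j) _
      | exact InvX.isInvertible_tensorPow (hM j) _

variable {k : Type u} [Field k] [X.Over (Spec (CommRingCat.of k))] [IsProper (X ↘ Spec (CommRingCat.of k))]
  [IsIntegral X]

/-- The family of integral twists. -/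
def zFam {L M : Fin r → X.Modules} (hL : ∀ j, PicF.IsInvertible (L j))
    (hM : ∀ j, ClSub.IsInverseOf (L j) (M j)) : TwistFam X r where
  P := W4c5asymptcohfn.ztwist X L M
  isInv := isInvertible_ztwist hL fun j => by
    obtain ⟨D, hD, ⟨u⟩⟩ := H23.PicInv.exists_inverse (hL j)
    refine isInvertible_of_iso (cl_eq_iff.1 ?_).some hD
    refine (isUnit_cl (hL j)).mul_left_cancel ?_
    rw [← cl_tensor, ← cl_tensor, cl_eq_iff.2 ⟨u⟩]
    exact (cl_eq_iff.2 (hM j)).symm
  L := L
  hL := hL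
  step a j := cl_eq_iff.1 (by
    rw [cl_tensor, cl_ztwist hL hM, cl_ztwist hL hM, ← val_ucl (hL j), ← Units.val_mul]
    congr 1
    simp only [Pi.add_apply, zpow_add, Finset.prod_mul_distrib]
    rw [mul_comm]
    congr 1
    rw [Finset.prod_eq_single j (fun l _ hl => by rw [Pi.single_eq_of_ne hl, zpow_zero]) (by simp),
      Pi.single_eq_same, zpow_one])

variable (k)

/-- The sequence of the `m`-th powers of a twist. -/
def fz {L M : Fin r → X.Modules} (hL : ∀ j, PicF.IsInvertible (L j)) (hM : ∀ j, ClSub.IsInverseOf (L j) (M j))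
    (i : ℕ) (a : Fin r → ℤ) (m : ℕ) : ℕ := gseq k (zFam hL hM) (Coh.structureModule X) i ((m : ℤ) • a)

omit [IsProper (X ↘ Spec (CommRingCat.of k))] [IsIntegral X] in
theorem hhat_ztwist {L M : Fin r → X.Modules} (hL : ∀ j, PicF.IsInvertible (L j))
    (hM : ∀ j, ClSub.IsInverseOf (L j) (M j)) (n i : ℕ) (a : Fin r → ℤ) :
    W4c5asymptcohfn.hhat k X n i (W4c5asymptcohfn.ztwist X L M a) = vsup n (fz k hL hM i a) := by
  refine vsup_congr_eq (a := fun m => Module.finrank k
    (Coh.HH X (CohB1.tensorPow (W4c5asymptcohfn.ztwist X L M a) m) i)) fun m => ?_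
  refine HilbPoly.finrank_HH_iso k (cl_eq_iff.1 ?_).some i
  show _ = PicF.cl (CohB1.tensorMod _ (W4c5asymptcohfn.ztwist X L M ((m : ℤ) • a)))
  rw [cl_tensor, cl_tensorPow, cl_ztwist hL hM, cl_ztwist hL hM, ← H23.PicMul.one_def, one_mul,
    ← Units.val_pow_eq_pow_val, ← Finset.prod_pow]
  congr 1
  exact Finset.prod_congr rfl fun j _ => by
    rw [Pi.smul_apply, smul_eq_mul, mul_comm, zpow_mul, zpow_natCast]

theorem bd_fz {L M : Fin r → X.Modules} (hL : ∀ j, PicF.IsInvertible (L j)) (hM : ∀ j, ClSub.IsInverseOf (L j) (M j))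
    {n : ℕ} (hn : topologicalKrullDim X = n) (i : ℕ) :
    ∃ C : ℕ, ∀ (a : Fin r → ℤ) (m : ℕ), fz k hL hM i a m ≤ C * (m * sz a + 1) ^ n := by
  haveI := CurveCohLib.isNoetherian_of_proper (k := k) (X := X)
  obtain ⟨C, hC⟩ := (lip_integral k (zFam hL hM) hn i).gd
  exact ⟨C, fun a m => (hC _).trans (Nat.mul_le_mul_left _ (pT_mono (n + 1) (Nat.add_le_add_right (sz_smul m a) 1)))⟩

theorem bd_fz' {L M : Fin r → X.Modules} (hL : ∀ j, PicF.IsInvertible (L j)) (hM : ∀ j, ClSub.IsInverseOf (L j) (M j))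
    {n : ℕ} (hn : topologicalKrullDim X = n) (i : ℕ) (a : Fin r → ℤ) : Bd (n + 1) (fz k hL hM i a) := by
  obtain ⟨C, hC⟩ := bd_fz k hL hM hn i
  refine ⟨C * (sz a + 1) ^ n, fun m => ?_⟩
  rw [pow_succ (m + 1), ← mul_assoc, mul_assoc C, ← mul_pow]
  refine Nat.mul_le_mul_right _ ((hC a m).trans (Nat.mul_le_mul_left _ (Nat.pow_le_pow_left ?_ _)))
  rw [Nat.add_mul, Nat.mul_succ, Nat.mul_comm m]
  omega

theorem limsup_le_add {n : ℕ} {f g : ℕ → ℕ} (hg : Bd (n + 1) g) {K : ℝ}
    (h : ∀ m, 1 ≤ m → nseq n f m ≤ nseq n g m + K) : vsup n f ≤ vsup n g + K := by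
  refine le_of_forall_pos_le_add fun ε hε => Filter.limsup_le_of_le (isCobounded_nseq n f) ?_
  filter_upwards [Filter.eventually_lt_of_limsup_lt (lt_add_of_pos_right (vsup n g) hε) hg.isBounded_nseq,
    Filter.eventually_ge_atTop 1] with m h1 h2
  linarith [h m h2]

/-- Lipschitz estimate for the asymptotic functions. -/
theorem exists_lip {L M : Fin r → X.Modules} (hL : ∀ j, PicF.IsInvertible (L j))
    (hM : ∀ j, ClSub.IsInverseOf (L j) (M j)) {d : ℕ} (hn : topologicalKrullDim X = ((d + 1 : ℕ) : WithBot ℕ∞)) (i : ℕ) :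
    ∃ C : ℝ, 0 ≤ C ∧ ∀ a b : Fin r → ℤ,
      |W4c5asymptcohfn.hhat k X (d + 1) i (W4c5asymptcohfn.ztwist X L M a) -
        W4c5asymptcohfn.hhat k X (d + 1) i (W4c5asymptcohfn.ztwist X L M b)| ≤
      C * ((max (sz a) (sz b) : ℕ) : ℝ) ^ d * (sz (fun j => a j - b j) : ℝ) := by
  obtain ⟨C, hC⟩ := lip_integral k (zFam hL hM) hn i
  refine ⟨(C : ℝ) * 2 ^ d * r * ((d + 1).factorial : ℝ), by positivity, fun a b => ?_⟩
  have key : ∀ a b : Fin r → ℤ, vsup (d + 1) (fz k hL hM i a) ≤ vsup (d + 1) (fz k hL hM i b) +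
      (C : ℝ) * 2 ^ d * r * ((d + 1).factorial : ℝ) * ((max (sz a) (sz b) : ℕ) : ℝ) ^ d *
        (sz (fun j => a j - b j) : ℝ) := by
    intro a b
    refine limsup_le_add (bd_fz' k hL hM hn i b) fun m hm => ?_
    have h1 := hC ((m : ℤ) • a) ((m : ℤ) • b)
    rw [dist1_smul] at h1
    set N := max (sz a) (sz b)
    set D := sz (fun j => a j - b j)
    have h2 : fz k hL hM i a m ≤ fz k hL hM i b m + m * (r * D) * (C * ((2 * m) ^ d * N ^ d)) := by
      refine h1.trans (Nat.add_le_add_left ?_ _)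
      rcases Nat.eq_zero_or_pos N with hN | hN
      · have hab : a = b := funext fun j => by
          have ha := natAbs_le_sz a j
          have hb := natAbs_le_sz b j
          simp only [N] at hN
          omega
        simp [dist1, hab]
      refine Nat.mul_le_mul (Nat.mul_le_mul_left _ (dist1_le a b)) (Nat.mul_le_mul_left _ ?_)
      rw [← mul_pow]
      refine Nat.pow_le_pow_left ?_ _
      have ha' := sz_smul m a
      have hb' := sz_smul m b
      have hma : m * sz a ≤ m * N := Nat.mul_le_mul_left _ (le_max_left _ _)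
      have hmb : m * sz b ≤ m * N := Nat.mul_le_mul_left _ (le_max_right _ _)
      have hmN : 1 ≤ m * N := Nat.one_le_iff_ne_zero.2 (Nat.mul_ne_zero (by omega) (by omega))
      rw [Nat.mul_assoc]
      omega
    have h3 : (fz k hL hM i a m : ℝ) ≤ (fz k hL hM i b m : ℝ) +
        (m : ℝ) * ((r : ℝ) * D) * ((C : ℝ) * ((2 * (m : ℝ)) ^ d * (N : ℝ) ^ d)) := by exact_mod_cast h2
    have hm' : (0 : ℝ) < m := by exact_mod_cast hm
    simp only [nseq]
    rw [div_le_iff₀ (by positivity), add_mul, div_mul_cancel₀ _ (by positivity)]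
    calc (fz k hL hM i a m : ℝ) * ((d + 1).factorial : ℝ)
        ≤ ((fz k hL hM i b m : ℝ) + (m : ℝ) * ((r : ℝ) * D) * ((C : ℝ) * ((2 * (m : ℝ)) ^ d * (N : ℝ) ^ d))) *
          ((d + 1).factorial : ℝ) := mul_le_mul_of_nonneg_right h3 (Nat.cast_nonneg _)
      _ = _ := by rw [mul_pow, pow_succ (m : ℝ)]; ring
  rw [hhat_ztwist k hL hM, hhat_ztwist k hL hM, abs_sub_le_iff]
  refine ⟨by linarith [key a b], ?_⟩
  have h := key b a
  have hs : sz (fun j => b j - a j) = sz (fun j => a j - b j) :=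
    Finset.sup_congr rfl fun j _ => by simp only; omega
  rw [hs, max_comm (sz b)] at h
  linarith

/-- In dimension zero nothing depends on the exponent. -/
theorem hhat_const {L M : Fin r → X.Modules} (hL : ∀ j, PicF.IsInvertible (L j))
    (hM : ∀ j, ClSub.IsInverseOf (L j) (M j)) (hn : topologicalKrullDim X = ((0 : ℕ) : WithBot ℕ∞)) (i : ℕ)
    (a b : Fin r → ℤ) :
    W4c5asymptcohfn.hhat k X 0 i (W4c5asymptcohfn.ztwist X L M a) =
      W4c5asymptcohfn.hhat k X 0 i (W4c5asymptcohfn.ztwist X L M b) := by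
  obtain ⟨C, hC⟩ := lip_integral k (zFam hL hM) hn i
  rw [hhat_ztwist k hL hM, hhat_ztwist k hL hM]
  refine vsup_congr_eq fun m => le_antisymm ?_ ?_
  · simpa [pT] using! hC ((m : ℤ) • a) ((m : ℤ) • b)
  · simpa [pT] using! hC ((m : ℤ) • b) ((m : ℤ) • a)

end ZTwist

end Groth.Agent.VolLib
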