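import Groth.Agent.VolLib.UnifStep

/-!
# Uniform vanishing and bounds for numerically trivial twists

For a coherent module `M` on a proper scheme and an ample module `A`: the higher cohomology of
`M ⊗ L ⊗ A^m` vanishes for large `m` uniformly in the numerically trivial invertible `L`, the Euler
characteristic of `M ⊗ L` does not depend on `L`, and the sections are bounded uniformly in `L`.
-/

noncomputable section

set_option autoImplicit false
set_option linter.style.haveILetI false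
set_option linter.unusedSectionVars false
set_option backward.isDefEq.respectTransparency false
set_option backward.isDefEq.respectTransparency.types false
set_option maxHeartbeats 800000

universe u
open CategoryTheory CategoryTheory.Limits AlgebraicGeometry TopologicalSpace
open Groth.Agent.H23.PicMul
open Groth.Agent.PnCoh.Finite (mapLin deltaLin)

namespace Groth.Agent.VolLib

attribute [local instance] Groth.Agent.QCoh.hasFiniteBiproducts

section Basics

variable (k : Type u) [Field k] {X : Scheme.{u}} [X.Over (Spec (CommRingCat.of k))]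
  [IsProper (X ↘ Spec (CommRingCat.of k))]

/-- Uniformity in the numerically trivial twist. -/
structure Unif (A : X.Modules) (d : ℕ) (M : X.Modules) : Prop where
  van : ∃ m₀, ∀ L, NT k L → ∀ m, m₀ ≤ m → ∀ q,
    Subsingleton (Coh.HH X ((AmpleVan.tw (tP A L m)).obj M) (q + 1))
  chi : ∀ L, NT k L → Curv2.euler k X ((AmpleVan.tw L).obj M) = Curv2.euler k X M
  h0 : ∃ B, ∀ L, NT k L → ∀ m, dimH k ((AmpleVan.tw (tP A L m)).obj M) 0 ≤ B * pT d (m + 1)

include k in
theorem goodF_tw {P : X.Modules} (hP : PicF.IsInvertible P) : GoodF (X := X) (AmpleVan.tw P) where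
  ses hS := ses_tw hP hS
  coh hM := haveI := CurveCohLib.isNoetherian_of_proper (k := k) (X := X); isCoh_tw hP hM
  add := by
    haveI := AmpleVan.isEquivalence_tw hP
    exact Functor.additive_of_preserves_binary_products _

theorem isZero_of_dim_neg [IsNoetherian X] {M : X.Modules}
    (h : topologicalKrullDim ↥(CohB1.support M) < ((0 : ℕ) : WithBot ℕ∞)) : IsZero M := by
  refine PerfGen7.LowerBound.isZero_of_stalks _ fun x => Snapper.notMem_support_iff.1 fun hx => ?_
  haveI : Nonempty ↥(CohB1.support M) := ⟨⟨x, hx⟩⟩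
  haveI : Nonempty (IrreducibleCloseds ↥(CohB1.support M)) :=
    ⟨⟨irreducibleComponent (Classical.arbitrary _), isIrreducible_irreducibleComponent, isClosed_irreducibleComponent⟩⟩
  exact absurd h (not_lt.2 (by rw [Nat.cast_zero]; exact Order.krullDim_nonneg))

theorem tw_isZero {P M : X.Modules} (hP : PicF.IsInvertible P) (h : IsZero M) : IsZero ((AmpleVan.tw P).obj M) := by
  haveI := AmpleVan.isEquivalence_tw hP
  haveI : (AmpleVan.tw P).Additive := Functor.additive_of_preserves_binary_products _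
  exact (AmpleVan.tw P).map_isZero h

theorem pT_le_of_le {d d' M : ℕ} (h : d ≤ d') (hM : 1 ≤ M) : pT d M ≤ pT d' M := by
  cases d with
  | zero => exact Nat.zero_le _
  | succ d =>
    obtain ⟨e, rfl⟩ := Nat.exists_eq_add_of_le' (lt_of_lt_of_le (Nat.succ_pos d) h)
    exact Nat.pow_le_pow_right hM (by omega)

variable {k}

theorem Unif.of_isZero {A M : X.Modules} (hA : PicF.IsInvertible A) (d : ℕ) (h : IsZero M) : Unif k A d M :=
  ⟨⟨0, fun _ hL m _ q => Euler.subsingleton_HH_of_isZero (tw_isZero (isInvertible_tP hA hL.1 m) h) _⟩,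
    fun _ hL => by rw [euler_of_isZero (tw_isZero hL.1 h), euler_of_isZero h],
    ⟨0, fun _ hL m => by
      rw [dimH_of_subsingleton (Euler.subsingleton_HH_of_isZero (tw_isZero (isInvertible_tP hA hL.1 m) h) 0)]
      exact Nat.zero_le _⟩⟩

theorem Unif.of_iso {A M N : X.Modules} {d : ℕ} (h : Unif k A d M) (e : M ≅ N) : Unif k A d N := by
  obtain ⟨⟨m₀, hv⟩, hc, ⟨B, hB⟩⟩ := h
  refine ⟨⟨m₀, fun L hL m hm q => QCoh.subsingleton_HH_of_iso ((AmpleVan.tw _).mapIso e) _ (hv L hL m hm q)⟩,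
    fun L hL => ?_, ⟨B, fun L hL m => ?_⟩⟩
  · rw [← CurveCohLib.euler_congr (k := k) ((AmpleVan.tw L).mapIso e), ← CurveCohLib.euler_congr (k := k) e]
    exact hc L hL
  · exact (dimH_iso ((AmpleVan.tw _).mapIso e) 0).ge.trans (hB L hL m)

theorem Unif.up {A M : X.Modules} {d d' : ℕ} (h : Unif k A d M) (hd : d ≤ d') : Unif k A d' M :=
  ⟨h.van, h.chi, h.h0.imp fun _ hB L hL m =>
    (hB L hL m).trans (Nat.mul_le_mul_left _ (pT_le_of_le hd (Nat.le_add_left 1 m)))⟩

theorem Unif.ext {A : X.Modules} (hA : PicF.IsInvertible A) {d : ℕ} {S : ShortComplex X.Modules}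
    (hS : S.ShortExact) (h₁ : Coh.IsCoh S.X₁) (h₂ : Coh.IsCoh S.X₂) (h₃ : Coh.IsCoh S.X₃)
    (u₁ : Unif k A d S.X₁) (u₃ : Unif k A d S.X₃) : Unif k A d S.X₂ := by
  obtain ⟨⟨m₁, v₁⟩, c₁, ⟨B₁, b₁⟩⟩ := u₁
  obtain ⟨⟨m₃, v₃⟩, c₃, ⟨B₃, b₃⟩⟩ := u₃
  refine ⟨⟨max m₁ m₃, fun L hL m hm q => ?_⟩, fun L hL => ?_, ⟨B₁ + B₃, fun L hL m => ?_⟩⟩
  · exact (goodF_tw k (isInvertible_tP hA hL.1 m)).van_mid (k := k) hS _
      (v₁ L hL m (le_of_max_le_left hm) q) (v₃ L hL m (le_of_max_le_right hm) q)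
  · rw [(goodF_tw k hL.1).euler_add (k := k) hS h₁ h₂ h₃, CurveCohLib.euler_additive (k := k) hS h₁ h₂ h₃, c₁ L hL, c₃ L hL]
  · rw [add_mul]
    exact ((goodF_tw k (isInvertible_tP hA hL.1 m)).dimH_mid (k := k) hS h₁ h₂ h₃ 0).trans (add_le_add (b₁ L hL m) (b₃ L hL m))

theorem dimH_push {Z : Scheme.{u}} [Z.Over (Spec (CommRingCat.of k))] (i : Z ⟶ X) [IsAffineHom i]
    (hi : i ≫ (X ↘ Spec (CommRingCat.of k)) = Z ↘ Spec (CommRingCat.of k))
    [IsProper (Z ↘ Spec (CommRingCat.of k))] {M : Z.Modules} (hM : Coh.IsQCoh M) (q : ℕ) :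
    dimH k ((Coh.push i).obj M) q = dimH k M q ∧
      (Subsingleton (Coh.HH Z M q) → Subsingleton (Coh.HH X ((Coh.push i).obj M) q)) := by
  obtain ⟨l⟩ := QCoh.HH_push_linear i (Coh.toGlobal (X ↘ Spec (CommRingCat.of k)))
    (Coh.toGlobal (Z ↘ Spec (CommRingCat.of k))) (fun b => by rw [← hi]; rfl) hM q
  refine ⟨?_, fun h => l.symm.toEquiv.subsingleton⟩
  rw [dimH_def, dimH_def]
  exact l.finrank_eq.symm

theorem Unif.push {Z : Scheme.{u}} [Z.Over (Spec (CommRingCat.of k))] [IsProper (Z ↘ Spec (CommRingCat.of k))]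
    (i : Z ⟶ X) [IsClosedImmersion i]
    (hi : i ≫ (X ↘ Spec (CommRingCat.of k)) = Z ↘ Spec (CommRingCat.of k)) {A : X.Modules}
    (hA : PicF.IsInvertible A) {d : ℕ} {I : Z.Modules} (hI : Coh.IsQCoh I)
    (h : Unif k ((Scheme.Modules.pullback i).obj A) d I) : Unif k A d ((Coh.push i).obj I) := by
  have proj : ∀ (P : X.Modules) {Q : Z.Modules}, ((Scheme.Modules.pullback i).obj P ≅ Q) →
      Nonempty ((AmpleVan.tw P).obj ((Coh.push i).obj I) ≅ (Coh.push i).obj ((AmpleVan.tw Q).obj I)) := fun P Q e => by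
    obtain ⟨p⟩ := IntNum.push_tensor i I P
    exact ⟨p.symm ≪≫ (Coh.push i).mapIso (PicGrp.tensorModIso (Iso.refl I) e)⟩
  have key : ∀ L m, Nonempty ((AmpleVan.tw (tP A L m)).obj ((Coh.push i).obj I) ≅
      (Coh.push i).obj ((AmpleVan.tw (tP ((Scheme.Modules.pullback i).obj A)
        ((Scheme.Modules.pullback i).obj L) m)).obj I)) := fun L m => by
    obtain ⟨a⟩ := IntNum.pullback_tensorPow i A m
    exact proj _ (IntNum.pullTensor i L (CohB1.tensorPow A m) ≪≫ PicGrp.tensorModIso (Iso.refl _) a)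
  have hA' := PicClLib.isInvertible_pullback i hA
  obtain ⟨⟨m₀, hv⟩, hc, ⟨B, hB⟩⟩ := h
  refine ⟨⟨m₀, fun L hL m hm q => ?_⟩, fun L hL => ?_, ⟨B, fun L hL m => ?_⟩⟩
  · obtain ⟨e⟩ := key L m
    have hL' := hL.pullback i hi
    exact QCoh.subsingleton_HH_of_iso e.symm _
      ((dimH_push i hi (isQCoh_tw (isInvertible_tP hA' hL'.1 m) hI) (q + 1)).2 (hv _ hL' m hm q))
  · obtain ⟨e⟩ := proj L (Iso.refl _)
    have hL' := hL.pullback i hi
    rw [CurveCohLib.euler_congr (k := k) e, IntNum.euler_push k i hi hI,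
      IntNum.euler_push k i hi (isQCoh_tw hL'.1 hI)]
    exact hc _ hL'
  · obtain ⟨e⟩ := key L m
    have hL' := hL.pullback i hi
    rw [dimH_iso e 0, (dimH_push i hi (isQCoh_tw (isInvertible_tP hA' hL'.1 m) hI) 0).1]
    exact hB _ hL' m

/-- Additive on short exact sequences of coherent modules. -/
def IsAdd (φ : X.Modules → ℤ) : Prop := ∀ S : ShortComplex X.Modules, S.ShortExact →
  Coh.IsCoh S.X₁ → Coh.IsCoh S.X₂ → Coh.IsCoh S.X₃ → φ S.X₂ = φ S.X₁ + φ S.X₃

theorem IsAdd.eq_of_map [IsNoetherian X] {φ : X.Modules → ℤ} (hφ : IsAdd φ) {A B : X.Modules} (hA : Coh.IsCoh A)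
    (hB : Coh.IsCoh B) (f : A ⟶ B) (hK : φ (kernel f) = 0) (hC : φ (cokernel f) = 0) : φ A = φ B := by
  have hKc := QCoh.isCoh_kernel hA hB f
  have hCc := QCoh.isCoh_cokernel hA.1 hB f
  have hI : Coh.IsCoh (Abelian.image f) :=
    QCoh.isCoh_of_epi (Abelian.factorThruImage f) hA (QCoh.isQCoh_kernel hB.1 hCc.1 _)
  have h1 := hφ (ShortComplex.mk (kernel.ι f) (Abelian.factorThruImage f)
      ((cancel_mono (Abelian.image.ι f)).1 (by rw [Category.assoc, Abelian.image.fac, kernel.condition, zero_comp])))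
    { exact := ShortComplex.exact_of_f_is_kernel _ (KernelFork.IsLimit.ofι' _ _ fun {T} t ht =>
        ⟨kernel.lift f t (by rw [← Abelian.image.fac f, reassoc_of% ht, zero_comp]), kernel.lift_ι _ _ _⟩)
      mono_f := inferInstance
      epi_g := inferInstance } hKc hA hI
  have h2 := hφ (ShortComplex.mk (Abelian.image.ι f) (cokernel.π f) (kernel.condition _))
    { exact := ShortComplex.exact_of_f_is_kernel _ (kernelIsKernel (cokernel.π f))
      mono_f := inferInstance
      epi_g := inferInstance } hI hB hCc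
  dsimp only at h1 h2
  omega

/-- An additive function killing the smaller supports does not see invertible twists. -/
theorem IsAdd.eq_tensor [IsNoetherian X] [IsIntegral X] {n : ℕ} (hn : topologicalKrullDim X = n)
    {φ : X.Modules → ℤ} (hφ : IsAdd φ) (hiso : ∀ A B : X.Modules, (A ≅ B) → φ A = φ B)
    (h0 : ∀ N, Coh.IsCoh N → topologicalKrullDim ↥(CohB1.support N) < (n : WithBot ℕ∞) → φ N = 0)
    {M N : X.Modules} (hM : Coh.IsCoh M) (hN : PicF.IsInvertible N) : φ ((AmpleVan.tw N).obj M) = φ M := by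
  obtain ⟨U, hηU, e, he⟩ := InvX.exists_frame hN (genericPoint X)
  obtain ⟨K, I, a, b, c, hK, hI, ha, hb, hc⟩ := Snapper.exists_link_frame hN he
  let F := AmpleVan.tw M
  have hcoh : ∀ {B}, Coh.IsCoh B → Coh.IsCoh (F.obj B) := fun h => AmpleVan.isCoh_tensor h hM
  have key : ∀ {B C : X.Modules} (f : B ⟶ C), Coh.IsCoh B → Coh.IsCoh C → Snapper.IsoOn U f →
      φ (F.obj B) = φ (F.obj C) := fun f hB hC hf =>
    hφ.eq_of_map (hcoh hB) (hcoh hC) (F.map f)
      (h0 _ (QCoh.isCoh_kernel (hcoh hB) (hcoh hC) _)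
        (dim_lt_of_subset_compl hn hηU (Snapper.support_subset_compl (hf.tensor M)).1))
      (h0 _ (QCoh.isCoh_cokernel (hcoh hB).1 (hcoh hC) _)
        (dim_lt_of_subset_compl hn hηU (Snapper.support_subset_compl (hf.tensor M)).2))
  rw [hiso _ _ (show (AmpleVan.tw N).obj M ≅ F.obj N from CurveTensor.commIso M N),
    key c (AmpleVan.isCoh_invertible hN) hI hc, ← key b hK hI hb, key a hK QCoh.isCoh_structureModule' ha]
  exact hiso _ _ (CurveTensor.structureTensorIso M)

theorem isAdd_euler : IsAdd (X := X) (Curv2.euler k X) :=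
  fun _ hS h₁ h₂ h₃ => CurveCohLib.euler_additive (k := k) hS h₁ h₂ h₃

theorem isAdd_diff {G : X.Modules ⥤ X.Modules} (hG : GoodF G) :
    IsAdd fun M : X.Modules => Curv2.euler k X (G.obj M) - Curv2.euler k X M := fun S hS h₁ h₂ h₃ => by
  have e₁ := hG.euler_add (k := k) hS h₁ h₂ h₃
  have e₂ := CurveCohLib.euler_additive (k := k) hS h₁ h₂ h₃
  dsimp only
  omega

end Basics

section Integral

variable (k : Type u) [Field k] {X : Scheme.{u}} [X.Over (Spec (CommRingCat.of k))]
  [IsProper (X ↘ Spec (CommRingCat.of k))] [IsIntegral X]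

/-- A numerically trivial twist of the dual of an ample module has no sections. -/
theorem finrank_anti_eq_zero {A D L : X.Modules} (hA : CohB1.IsAmple A) {n : ℕ} (hn : topologicalKrullDim X = n)
    (hn0 : 0 < n) (hD : PicF.IsInvertible D) (hAD : PicF.cl A * PicF.cl D = 1) (hL : NT k L) :
    Module.finrank k (Coh.HH X (CohB1.tensorMod L D) 0) = 0 := by
  by_contra h
  obtain ⟨τ, hτ⟩ := exists_section_of_pos (k := k) (Nat.pos_of_ne_zero h)
  obtain ⟨L', hL', hLL⟩ := hL.exists_inv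
  let B := CohB1.tensorMod A (CohB1.tensorPow L' 1)
  have hB : CohB1.IsAmple B := isAmple_tensor_numTriv k hA hL'.1 hL'.2 1
  have hE := InvX.isInvertible_tensorMod hL.1 hD
  obtain ⟨C, m₁, hC⟩ := exists_lower_ample (k := k) hB hn
  let c := Module.finrank k (Coh.HH X (Coh.structureModule X) 0)
  have hle : ∀ m, Module.finrank k (Coh.HH X (CohB1.tensorPow B m) 0) ≤ c := fun m => by
    obtain ⟨σ, hσ⟩ := exists_pow_ne_zero hE τ hτ m
    refine (finrank_le_tensor (k := k) (isFinLocFree_inv (InvX.isInvertible_tensorPow hB.1 m))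
      (isFinLocFree_inv (InvX.isInvertible_tensorPow hE m)) σ hσ).trans_eq (finrank_congr_cl ?_)
    simp only [B, cl_tensor, cl_tensorPow, pow_one, ← H23.PicMul.one_def]
    rw [← mul_pow, show PicF.cl A * PicF.cl L' * (PicF.cl L * PicF.cl D) =
      (PicF.cl A * PicF.cl D) * (PicF.cl L * PicF.cl L') by ac_rfl, hAD, hLL, mul_one, one_pow]
  let m := max m₁ (C * c + 1)
  have h1 := (hC m (le_max_left _ _)).trans (Nat.mul_le_mul_left C (hle m))
  have h2 : m ≤ m ^ n := Nat.le_self_pow hn0.ne' m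
  have h3 : C * c + 1 ≤ m := le_max_right _ _
  omega



variable {k}

theorem unif_point {A I : X.Modules} (hA : PicF.IsInvertible A) (hn : topologicalKrullDim X = ((0 : ℕ) : WithBot ℕ∞))
    (hI : Coh.IsCoh I) : Unif k A 1 I := by
  haveI := CurveCohLib.isNoetherian_of_proper (k := k) (X := X)
  haveI : X.IsSeparated := AmpleVan.isSeparated_of_proper (A := k)
  have hinv : ∀ {P : X.Modules}, PicF.IsInvertible P →
      Curv2.euler k X ((AmpleVan.tw P).obj I) = Curv2.euler k X I := fun hP =>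
    (isAdd_euler (k := k)).eq_tensor hn (fun _ _ e => CurveCohLib.euler_congr (k := k) e)
      (fun N _ hN => euler_of_isZero (isZero_of_dim_neg hN)) hI hP
  have hv : ∀ {P : X.Modules}, PicF.IsInvertible P → ∀ q,
      Subsingleton (Coh.HH X ((AmpleVan.tw P).obj I) (q + 1)) := fun hP q =>
    Snapper.subsingleton_HH_of_dim_le (d := 0) hn.le ((goodF_tw k hP).coh hI).1 (Nat.succ_pos q)
  refine ⟨⟨0, fun L hL m _ q => hv (isInvertible_tP hA hL.1 m) q⟩, fun L hL => hinv hL.1,
    ⟨(Curv2.euler k X I).natAbs, fun L hL m => le_of_eq ?_⟩⟩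
  have hP := isInvertible_tP hA hL.1 m
  rw [← hinv hP, euler_one (hv hP)]
  simp [pT]

/-- The bound on the sections from the bound on the error term of each step. -/
theorem bound_of_step {n : ℕ} (hn : 0 < n) {B B' : ℕ} {f : ℕ → ℕ} (h0 : f 0 ≤ B' * pT n 1)
    (hs : ∀ m, f (m + 1) ≤ f m + B * pT n (m + 1)) (m : ℕ) : f m ≤ (B' + B) * pT (n + 1) (m + 1) := by
  have hind : ∀ m, f m ≤ B' * pT n 1 + m * (B * pT n (m + 1)) := by
    intro m
    induction m with
    | zero => simpa using h0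
    | succ m ih =>
      have h1 := hs m
      have h3 : B * pT n (m + 1) ≤ B * pT n (m + 1 + 1) := Nat.mul_le_mul_left _ (pT_mono n (Nat.le_succ _))
      have h4 : m * (B * pT n (m + 1)) ≤ m * (B * pT n (m + 1 + 1)) := Nat.mul_le_mul_left _ h3
      rw [Nat.succ_mul]
      omega
  refine (hind m).trans ?_
  obtain ⟨e, rfl⟩ := Nat.exists_eq_add_of_le' hn
  show B' * 1 ^ e + m * (B * (m + 1) ^ e) ≤ (B' + B) * (m + 1) ^ (e + 1)
  rw [one_pow, mul_one, add_mul, pow_succ]
  refine add_le_add (Nat.le_mul_of_pos_right _ (Nat.mul_pos (pow_pos (Nat.succ_pos m) e) (Nat.succ_pos m))) ?_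
  rw [mul_left_comm, mul_comm m ((m + 1) ^ e)]
  exact Nat.mul_le_mul_left _ (Nat.mul_le_mul_left _ (Nat.le_succ m))

/-- An additive invariant that is bounded above on numerically trivial modules vanishes. -/
theorem eq_zero_of_bounded (c : X.Modules → ℤ)
    (hcm : ∀ L L', NT k L → NT k L' → ∀ R, PicF.cl L * PicF.cl L' = PicF.cl R → c R = c L + c L')
    {K : ℤ} (hup : ∀ L, NT k L → c L ≤ K) {L : X.Modules} (hL : NT k L) : c L = 0 := by
  have h00 := hcm _ _ (NT.one (k := k) (X := X)) NT.one (Coh.structureModule X) (by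
    rw [← H23.PicMul.one_def, one_mul])
  have hle : ∀ L, NT k L → c L ≤ 0 := fun L hL => by
    by_contra hpos
    have hcp : ∀ j : ℕ, c (CohB1.tensorPow L j) = j * c L := by
      intro j
      induction j with
      | zero =>
        rw [Nat.cast_zero, zero_mul]
        show c (Coh.structureModule X) = 0
        omega
      | succ j ih =>
        rw [hcm _ L (hL.pow j) hL (CohB1.tensorPow L (j + 1))
          (by rw [cl_tensorPow, cl_tensorPow, pow_succ]), ih]
        push_cast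
        ring
    have h1 := hup _ (hL.pow (K.natAbs + 1))
    rw [hcp] at h1
    push_cast at h1
    have h2 := Int.le_natAbs (a := K)
    have h3 : ((K.natAbs : ℤ) + 1) * 1 ≤ ((K.natAbs : ℤ) + 1) * c L :=
      mul_le_mul_of_nonneg_left (by omega) (by omega)
    simp only [Int.natCast_natAbs] at h2 h3
    linarith
  obtain ⟨L', hL', hLL⟩ := hL.exists_inv
  have h1 := hcm L L' hL hL' (Coh.structureModule X) (by rw [hLL, H23.PicMul.one_def])
  have := hle L hL
  have := hle L' hL'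
  omega

theorem dimH_structure {P : X.Modules} : dimH k ((AmpleVan.tw P).obj (Coh.structureModule X)) 0 = dimH k P 0 := by
  obtain ⟨e⟩ : Nonempty ((AmpleVan.tw P).obj (Coh.structureModule X) ≅ P) := cl_eq_iff.1 (by
    show PicF.cl (CohB1.tensorMod _ _) = _
    rw [cl_tensor, ← H23.PicMul.one_def, one_mul])
  exact dimH_iso e 0

theorem dimH_le_of_mono {M N : X.Modules} (f : M ⟶ N) [Mono f] (hN : Coh.IsCoh N) : dimH k M 0 ≤ dimH k N 0 := by
  rw [dimH_def, dimH_def]
  exact finrank_le_of_mono (k := k) f hN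

theorem unif_curveUp {A : X.Modules} (hA : CohB1.IsAmple A) (hgen : Gen A) {n : ℕ}
    (hn : topologicalKrullDim X = n) (hn0 : 0 < n)
    (IH : ∀ N : X.Modules, Coh.IsCoh N → topologicalKrullDim ↥(CohB1.support N) < (n : WithBot ℕ∞) → Unif k A n N)
    {I : X.Modules} (hI : Coh.IsCoh I) (ι : I ⟶ Coh.structureModule X) [Mono ι] : Unif k A (n + 1) I := by
  classical
  haveI := CurveCohLib.isNoetherian_of_proper (k := k) (X := X)
  have hA1 := hA.1
  obtain ⟨r, s, hs⟩ := hgen
  obtain ⟨l₀, hl₀⟩ := hs (genericPoint X)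
  let φ := AmpleVan.mulSec (InvX.one (s l₀)) I
  haveI : Mono φ := mono_mulSec hA1 (s l₀) hl₀ ι
  have hIA : Coh.IsCoh ((AmpleVan.tw A).obj I) := (goodF_tw k hA1).coh hI
  have hQ : Coh.IsCoh (cokernel φ) := QCoh.isCoh_cokernel hI.1 hIA φ
  have hQd : topologicalKrullDim ↥(CohB1.support (cokernel φ)) < (n : WithBot ℕ∞) :=
    dim_lt_of_subset_compl hn hl₀ (Snapper.support_subset_compl (isoOn_mulSec (s l₀) I)).2
  have hS : (ShortComplex.mk φ (cokernel.π φ) (cokernel.condition φ)).ShortExact :=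
    { exact := ShortComplex.exact_of_g_is_cokernel _ (cokernelIsCokernel φ) }
  obtain ⟨⟨mQ, hvQ⟩, -, ⟨BQ, hBQ⟩⟩ := IH _ hQ hQd
  have hG : ∀ {L : X.Modules}, NT k L → ∀ m, GoodF (AmpleVan.tw (tP A L m)) := fun hL m =>
    goodF_tw k (isInvertible_tP hA1 hL.1 m)
  obtain ⟨B, hB⟩ : ∃ B, ∀ L, NT k L → ∀ m, dimH k ((AmpleVan.tw (tP A L m)).obj I) 0 ≤ B * pT (n + 1) (m + 1) := by
    obtain ⟨D, hD, ⟨eD⟩⟩ := H23.PicInv.exists_inverse hA1
    have hAD : PicF.cl A * PicF.cl D = 1 := by
      rw [← cl_tensor, H23.PicMul.one_def]; exact cl_eq_iff.2 ⟨eD⟩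
    obtain ⟨-, -, ⟨B', hB'⟩⟩ := IH _ ((goodF_tw k hD).coh hQ)
      ((H23.TopDim.dim_le_dim_of_subset (support_tw_subset D _)).trans_lt hQd)
    refine ⟨B' + BQ, fun L hL => bound_of_step (f := fun m => dimH k ((AmpleVan.tw (tP A L m)).obj I) 0) hn0
      ?_ fun m => ?_⟩
    · have hE := InvX.isInvertible_tensorMod hL.1 hD
      obtain ⟨θ⟩ := exists_twCompIso (P := A) (Q := CohB1.tensorMod L D) (R := tP A L 0) (by
        simp only [cl_tensor, cl_tensorPow, pow_zero, mul_one]
        rw [mul_left_comm, hAD, mul_one])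
      obtain ⟨θ'⟩ := exists_twCompIso (P := D) (Q := tP A L 0) (R := CohB1.tensorMod L D) (by
        simp only [cl_tensor, cl_tensorPow, pow_zero, mul_one]
        rw [mul_comm])
      have h2 : dimH k ((AmpleVan.tw (CohB1.tensorMod L D)).obj I) 0 = 0 := by
        haveI := AmpleVan.isEquivalence_tw hE
        refine Nat.eq_zero_of_le_zero (((dimH_le_of_mono ((AmpleVan.tw _).map ι)
          ((goodF_tw k hE).coh QCoh.isCoh_structureModule')).trans_eq dimH_structure).trans_eq ?_)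
        rw [dimH_def]
        exact finrank_anti_eq_zero k hA hn hn0 hD hAD hL
      have h1 := (goodF_tw k hE).dimH_mid (k := k) hS hI hIA hQ 0
      have h3 : dimH k ((AmpleVan.tw (CohB1.tensorMod L D)).obj (cokernel φ)) 0 ≤ B' * pT n 1 :=
        (dimH_comp (k := k) θ' (cokernel φ) 0).ge.trans (hB' L hL 0)
      rw [dimH_comp θ I 0] at h1
      change dimH k ((AmpleVan.tw (tP A L 0)).obj I) 0 ≤ dimH k ((AmpleVan.tw (CohB1.tensorMod L D)).obj I) 0 +
        dimH k ((AmpleVan.tw (CohB1.tensorMod L D)).obj (cokernel φ)) 0 at h1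
      show dimH k ((AmpleVan.tw (tP A L 0)).obj I) 0 ≤ _
      omega
    · obtain ⟨θ⟩ := exists_twStep A L m
      have h1 := (hG hL m).dimH_mid (k := k) hS hI hIA hQ 0
      rw [dimH_comp θ I 0] at h1
      exact h1.trans (Nat.add_le_add_left (hBQ L hL m) _)
  have hfam : ∀ L, NT k L →
      ((∀ m, mQ ≤ m → ∀ q, Subsingleton (Coh.HH X ((AmpleVan.tw (tP A L m)).obj I) (q + 2))) ∧ _) := fun L hL =>
    subsingleton_of_family (k := k) (T := fun m => AmpleVan.tw (tP A L m)) (A' := AmpleVan.tw A) (hG hL)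
      (fun m => (exists_twStep A L m).some) hI φ hIA (hvQ L hL) (fun m q => by
        obtain ⟨d₀, hd₀⟩ := AmpleVan.exists_vanishing (A := k) hA ((goodF_tw k hL.1).coh hI)
        refine ⟨d₀, fun j hj => ?_⟩
        obtain ⟨θ⟩ := exists_twCompIso (P := L) (Q := CohB1.tensorPow A (m + j)) (R := tP A L (m + j))
          (cl_tensor _ _).symm
        exact subsingleton_comp θ I (hd₀ (m + j) (by omega) q))
  have hci : ∀ L, NT k L → ∀ N, PicF.IsInvertible N →
      Curv2.euler k X ((AmpleVan.tw L).obj ((AmpleVan.tw N).obj I)) - Curv2.euler k X ((AmpleVan.tw N).obj I) =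
        Curv2.euler k X ((AmpleVan.tw L).obj I) - Curv2.euler k X I :=
    fun L hL N hN => (isAdd_diff (k := k) (goodF_tw k hL.1)).eq_tensor hn
      (fun _ _ e => by
        simp only [CurveCohLib.euler_congr (k := k) e, CurveCohLib.euler_congr (k := k) ((AmpleVan.tw L).mapIso e)])
      (fun M hM hMd => sub_eq_zero.2 ((IH M hM hMd).chi L hL)) hI hN
  have heul : ∀ L, NT k L → ∀ m, mQ ≤ m →
      Curv2.euler k X ((AmpleVan.tw L).obj ((AmpleVan.tw (CohB1.tensorPow A m)).obj I)) =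
        (dimH k ((AmpleVan.tw (tP A L m)).obj I) 0 : ℤ) - (dimH k ((AmpleVan.tw (tP A L m)).obj I) 1 : ℤ) := by
    intro L hL m hm
    obtain ⟨θ⟩ := exists_twCompIso (P := CohB1.tensorPow A m) (Q := L) (R := tP A L m) (by rw [cl_tensor, mul_comm])
    rw [euler_comp θ I, euler_two ((hfam L hL).1 m hm)]
  have hchi : ∀ L, NT k L → Curv2.euler k X ((AmpleVan.tw L).obj I) - Curv2.euler k X I = 0 := fun L hL =>
    eq_zero_of_bounded (k := k) (fun L => Curv2.euler k X ((AmpleVan.tw L).obj I) - Curv2.euler k X I)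
      (fun L L' hL hL' R hR => by
        obtain ⟨θ⟩ := exists_twCompIso hR
        have h1 := hci L' hL' L hL.1
        have h2 := euler_comp (k := k) θ I
        omega)
      (K := (B * pT (n + 1) (mQ + 1) : ℕ) - Curv2.euler k X ((AmpleVan.tw (CohB1.tensorPow A mQ)).obj I))
      (fun L hL => by
        have h1 := hci L hL _ (InvX.isInvertible_tensorPow hA1 mQ)
        have h3 := heul L hL mQ le_rfl
        have h4 : (dimH k ((AmpleVan.tw (tP A L mQ)).obj I) 0 : ℤ) ≤ (B * pT (n + 1) (mQ + 1) : ℕ) := by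
          exact_mod_cast hB L hL mQ
        omega) hL
  let Qs := fun _ : ULift.{u} (Fin r) => cokernel φ
  let μQ := fun l : ULift.{u} (Fin r) => AmpleVan.mulSec (InvX.one (s l.down)) (cokernel φ)
  have hepi : Epi (biproduct.desc μQ) := (AmpleVan.genFrom_twSys hA1 s hs (cokernel φ)) 0 le_rfl
  have hQs : Coh.IsCoh (⨁ Qs) := QCoh.isCoh_biproduct Qs fun _ => hQ
  have hKc : Coh.IsCoh (kernel (biproduct.desc μQ)) :=
    QCoh.isCoh_kernel hQs ((goodF_tw k hA1).coh hQ) (biproduct.desc μQ)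
  have hKd : topologicalKrullDim ↥(CohB1.support (kernel (biproduct.desc μQ))) < (n : WithBot ℕ∞) := by
    refine (H23.TopDim.dim_le_dim_of_subset fun x hx => ?_).trans_lt hQd
    have hx' := QCoh.mem_support_of_mono hKc.1 hQs.1 (kernel.ι (biproduct.desc μQ)) hx
    by_contra hxQ
    refine (Snapper.notMem_support_iff.2 ?_) hx'
    let F := DerSch.stalkFunctor X x
    have hz : IsZero (F.obj (cokernel φ)) := Snapper.notMem_support_iff.1 hxQ
    refine (IsZero.iff_id_eq_zero _).2 ?_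
    rw [← F.map_id, ← QCoh.biproduct_total' Qs, Functor.map_sum]
    exact Finset.sum_eq_zero fun l _ => by
      rw [F.map_comp, hz.eq_of_tgt (F.map (biproduct.π Qs l)) 0, zero_comp]
  obtain ⟨⟨mK, hvK⟩, -, -⟩ := IH _ hKc hKd
  let K := B * pT (n + 1) (max mQ mK + 1) +
    (Curv2.euler k X ((AmpleVan.tw (CohB1.tensorPow A (max mQ mK))).obj I)).natAbs
  refine ⟨⟨max mQ mK + K, fun L hL m hm q => ?_⟩, fun L hL => sub_eq_zero.1 (hchi L hL), ⟨B, hB⟩⟩
  refine (hfam L hL).2 (fun l => AmpleVan.mulSec (InvX.one (s l.down)) ((AmpleVan.tw A).obj I)) μQ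
    (fun l => AmpleVan.mulSec_naturality _ _) hepi (le_max_left mQ mK)
    (fun m hm' => hvK L hL m ((le_max_right mQ mK).trans hm') 0) (K := K) ?_ m hm q
  have h1 := hci L hL _ (InvX.isInvertible_tensorPow hA1 (max mQ mK))
  have h2 := hchi L hL
  have h3 := heul L hL _ (le_max_left mQ mK)
  have h4 := hB L hL (max mQ mK)
  omega

end Integral

end Groth.Agent.VolLib
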